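import Cfsg.Agent.H5.NseAlt

set_option autoImplicit false

/-! The alternating groups of degree 4, 5, 6 from the numbers of elements of the same order. -/

namespace CfsgH5.NseAlt

open Subgroup CfsgH8 Finset

variable {G : Type*} [Group G] [Finite G]

theorem tot {n t : ℕ} (h : n.totient = t) : t ∣ nord G n := h ▸ totient_dvd_nord n

theorem alt4_of_card (hc : Nat.card G = 12) (h3 : nord G 3 = 8) :
    Nonempty (G ≃* alternatingGroup (Fin 4)) := by
  classical
  have : Fact (Nat.Prime 3) := ⟨Nat.prime_three⟩
  obtain ⟨P⟩ : Nonempty (Sylow 3 G) := inferInstance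
  have hn := nord_eq_sylow (G := G) (p := 3) (by rw [hc]; norm_num) (by rw [hc]; norm_num)
  have hP : Nat.card (P : Subgroup G) = 3 := by
    rw [P.card_eq_multiplicity, factorization_eq (a := 1) Nat.prime_three (by rw [hc]; norm_num)
      (by rw [hc]; norm_num)]
    norm_num
  have hi : (P : Subgroup G).index = 4 := by
    have := (P : Subgroup G).card_mul_index
    rw [hc, hP] at this
    omega
  have hker : (MulAction.toPermHom G (G ⧸ (P : Subgroup G))).ker = ⊥ := by
    rw [← normalCore_eq_ker]
    have h1 := normalCore_le (P : Subgroup G)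
    have h2 : Nat.card (P : Subgroup G).normalCore ∣ 3 := by
      have := card_dvd_of_le h1
      rwa [hP] at this
    rcases (Nat.dvd_prime Nat.prime_three).1 h2 with h4 | h4
    · exact card_eq_one.1 h4
    · exfalso
      have h5 : (P : Subgroup G).normalCore = P := eq_of_le_of_card_ge h1 (by rw [h4]; exact hP.le)
      have h6 : (P : Subgroup G).Normal := h5 ▸ inferInstance
      have := Sylow.unique_of_normal P h6
      rw [Nat.card_unique] at hn
      omega
  have e : (G ⧸ (P : Subgroup G)) ≃ Fin 4 := Finite.equivFinOfCardEq hi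
  let f : G →* Equiv.Perm (Fin 4) :=
    (e.permCongrHom : _ →* _).comp (MulAction.toPermHom G (G ⧸ (P : Subgroup G)))
  have hf : Function.Injective f := e.permCongrHom.injective.comp
    ((MonoidHom.ker_eq_bot_iff _).1 hker)
  have h7 : f.range.index = 2 := by
    have h8 := f.range.card_mul_index
    rw [← Nat.card_congr (MonoidHom.ofInjective hf).toEquiv, hc, Nat.card_perm,
      Nat.card_eq_fintype_card, Fintype.card_fin] at h8
    norm_num [Nat.factorial] at h8
    omega
  exact ⟨(MonoidHom.ofInjective hf).trans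
    (MulEquiv.subgroupCongr (Equiv.Perm.eq_alternatingGroup_of_index_eq_two h7))⟩

theorem alt4 (h1 : ∀ n, nord G n = 0 ∨ nord G n ∈ ({1, 3, 8} : Set ℕ))
    (h2 : ∀ c ∈ ({1, 3, 8} : Set ℕ), ∃ n, nord G n = c) :
    Nonempty (G ≃* alternatingGroup (Fin 4)) := by
  have m2 : nord G 2 = 3 := by
    obtain ⟨n, hn⟩ := h2 3 (by simp)
    exact nord_two_of_odd hn (by norm_num) (by norm_num)
  have hv : ∀ n, 2 < n → nord G n = 0 ∨ nord G n = 8 := fun n hn => by
    have h3 := h1 n
    have h4 := even_nord (G := G) hn
    simp only [Set.mem_insert_iff, Set.mem_singleton_iff] at h3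
    omega
  have hs := sum_set_le (G := G) {1, 3, 8} (fun c hc => h2 c (by simpa using hc))
  norm_num at hs
  have hp : ∀ p, p.Prime → p ∣ Nat.card G → p = 2 ∨ p = 3 := fun p hp hd => by
    obtain ⟨a, b, c⟩ := prime_cond hp hd
    have := hp.two_le
    by_cases h : p = 2
    · exact Or.inl h
    have h8 : nord G p = 8 := by have := hv p (by omega); omega
    rw [h8] at a
    exact Or.inr ((Nat.prime_dvd_prime_iff_eq hp Nat.prime_three).1
      (hp.dvd_of_dvd_pow (n := 2) a))
  have m9 : nord G 9 = 0 := by
    have := tot (G := G) (n := 9) (t := 6) (by decide)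
    have := hv 9 (by norm_num)
    omega
  have m3 := hv 3 (by norm_num)
  have m4 := hv 4 (by norm_num)
  have m6 := hv 6 (by norm_num)
  have m8 := hv 8 (by norm_num)
  have m12 := hv 12 (by norm_num)
  have d8 : ¬ 2 ^ 3 ∣ Nat.card G := fun h => by
    have := frob Nat.prime_two 3 h
    simp [sum_range_succ, nord_one] at this
    omega
  have d27 : ¬ 3 ^ 3 ∣ Nat.card G := fun h => by
    have := frob Nat.prime_three 3 h
    have m27 := zero_of_dvd (n := 27) m9 (by norm_num)
    simp [sum_range_succ, nord_one] at this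
    omega
  have d9 : ¬ 3 ^ 2 ∣ Nat.card G := fun h => by
    have := dvd_sum_nord_mul (m := 2) Nat.prime_three h d27 (by norm_num)
    have m18 := zero_of_dvd (n := 18) m9 (by norm_num)
    simp [sum_range_succ] at this
    omega
  have hd : Nat.card G ∣ 12 := dvd_of_primes (by norm_num) fun p hp' h => by
    rcases hp p hp' h with rfl | rfl
    · rwa [show (12 : ℕ).factorization 2 = 2 by decide +kernel]
    · rwa [show (12 : ℕ).factorization 3 = 1 by decide +kernel]
  have hc : Nat.card G = 12 := le_antisymm (Nat.le_of_dvd (by norm_num) hd) hs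
  refine alt4_of_card hc ?_
  have := pos_of_prime (G := G) Nat.prime_three (by rw [hc]; norm_num)
  omega

theorem alt5 (h1 : ∀ n, nord G n = 0 ∨ nord G n ∈ ({1, 15, 20, 24} : Set ℕ))
    (h2 : ∀ c ∈ ({1, 15, 20, 24} : Set ℕ), ∃ n, nord G n = c) :
    Nonempty (G ≃* alternatingGroup (Fin 5)) := by
  have : Fact (Nat.Prime 3) := ⟨Nat.prime_three⟩
  have m2 : nord G 2 = 15 := by
    obtain ⟨n, hn⟩ := h2 15 (by simp)
    exact nord_two_of_odd hn (by norm_num) (by norm_num)
  have hv : ∀ n, 2 < n → nord G n = 0 ∨ nord G n = 20 ∨ nord G n = 24 := fun n hn => by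
    have h3 := h1 n
    have h4 := even_nord (G := G) hn
    simp only [Set.mem_insert_iff, Set.mem_singleton_iff] at h3
    omega
  have hs := sum_set_le (G := G) {1, 15, 20, 24} (fun c hc => h2 c (by simpa using hc))
  norm_num at hs
  have hp : ∀ p, p.Prime → p ∣ Nat.card G →
      p = 2 ∨ (p = 3 ∧ nord G 3 = 20) ∨ (p = 5 ∧ nord G 5 = 24) := fun p hp hd => by
    obtain ⟨a, b, c⟩ := prime_cond hp hd
    have := hp.two_le
    by_cases h : p = 2
    · exact Or.inl h
    rcases hv p (by omega) with h8 | h8 | h8
    · omega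
    · rw [h8] at a b
      have := Nat.le_of_dvd (by norm_num) a
      interval_cases p <;> simp_all (config := {decide := true})
    · rw [h8] at a b
      have := Nat.le_of_dvd (by norm_num) a
      interval_cases p <;> simp_all (config := {decide := true})
  have hz : ∀ r, r.Prime → r ≠ 2 → r ≠ 3 → r ≠ 5 → ∀ k, nord G (k * r) = 0 :=
    fun r hr a b c k => by
      by_contra h0
      have := hp r hr ((dvd_mul_left r k).trans (dvd_card_of_pos (Nat.pos_of_ne_zero h0)))
      omega
  have m27 : nord G 27 = 0 := by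
    have := tot (G := G) (n := 27) (t := 18) (by decide)
    have := hv 27 (by norm_num)
    omega
  have d9 : ¬ 3 ^ 2 ∣ Nat.card G := fun h => by
    have m3 : nord G 3 = 20 := by
      have := hp 3 Nat.prime_three ((by norm_num : 3 ∣ 3 ^ 2).trans h)
      omega
    have f9 := frob Nat.prime_three 2 h
    have := tot (G := G) (n := 9) (t := 6) (by decide)
    have := hv 9 (by norm_num)
    simp [sum_range_succ, nord_one] at f9
    have m9 : nord G 9 = 24 := by omega
    have d27 : ¬ 3 ^ 3 ∣ Nat.card G := fun h => by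
      have := frob Nat.prime_three 3 h
      simp [sum_range_succ, nord_one] at this
      omega
    obtain ⟨a, b⟩ := cyc_sylow (a := 2) d27 (by norm_num [m9])
    rw [show (3 ^ 2 : ℕ).totient = 6 by decide] at a
    norm_num at a b
    omega
  have d25 : ¬ 5 ^ 2 ∣ Nat.card G := fun h => by
    have m5 : nord G 5 = 24 := by
      have := hp 5 Nat.prime_five ((by norm_num : 5 ∣ 5 ^ 2).trans h)
      omega
    have f25 := frob Nat.prime_five 2 h
    have := hv 25 (by norm_num)
    simp [sum_range_succ, nord_one] at f25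
    have := tot (G := G) (n := 25) (t := 20) (by decide)
    have m25 : nord G 25 = 0 := by omega
    have d125 : ¬ 5 ^ 3 ∣ Nat.card G := fun h => by
      have := frob Nat.prime_five 3 h
      have := zero_of_dvd (n := 125) m25 (by norm_num)
      simp [sum_range_succ, nord_one] at *
      omega
    have h3 := dvd_sum_nord_mul (m := 2) Nat.prime_five h d125 (by norm_num)
    have := zero_of_dvd (n := 50) m25 (by norm_num)
    have := hv 10 (by norm_num)
    simp [sum_range_succ] at h3
    omega
  have m10 : nord G 10 = 0 := by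
    by_contra h0
    have h5 : 5 ^ 1 ∣ Nat.card G :=
      (by norm_num : 5 ^ 1 ∣ 10).trans (dvd_card_of_pos (Nat.pos_of_ne_zero h0))
    have m5 : nord G 5 = 24 := by
      have := hp 5 Nat.prime_five h5
      omega
    have h3 := dvd_sum_nord_mul (m := 2) Nat.prime_five h5 d25 (by norm_num)
    have h4 := nord_mul_totient_dvd (G := G) (k := 2) Nat.prime_five d25 (by norm_num)
    have := hv 10 (by norm_num)
    simp [sum_range_succ, m5] at h3 h4
    omega
  have m6 : nord G 6 = 0 := by
    by_contra h0
    have h5 : 3 ^ 1 ∣ Nat.card G :=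
      (by norm_num : 3 ^ 1 ∣ 6).trans (dvd_card_of_pos (Nat.pos_of_ne_zero h0))
    have m3 : nord G 3 = 20 := by
      have := hp 3 Nat.prime_three h5
      omega
    have h3 := dvd_sum_nord_mul (m := 2) Nat.prime_three h5 d9 (by norm_num)
    have h4 := nord_mul_totient_dvd (G := G) (k := 2) Nat.prime_three d9 (by norm_num)
    have := hv 6 (by norm_num)
    simp [sum_range_succ, m3] at h3 h4
    omega
  have m15 : nord G 15 = 0 := by
    by_contra h0
    have h5 : 3 ∣ Nat.card G :=
      (by norm_num : 3 ∣ 15).trans (dvd_card_of_pos (Nat.pos_of_ne_zero h0))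
    have m3 : nord G 3 = 20 := by
      have := hp 3 Nat.prime_three h5
      omega
    have h4 := nord_mul_totient_dvd (G := G) (k := 5) Nat.prime_three d9 (by norm_num)
    have := hv 15 (by norm_num)
    rw [m3, show Nat.totient 5 = 4 by decide] at h4
    norm_num at h4
    omega
  have h3 : 3 ∣ Nat.card G := by
    by_contra h3
    by_cases h5 : 5 ∣ Nat.card G
    · have m5 : nord G 5 = 24 := by
        have := hp 5 Nat.prime_five h5
        omega
      have h6 := card_dvd_mul_nord Nat.prime_five d25 h5 fun r hr hr5 => by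
        by_cases a : r = 2
        · rw [a]; exact m10
        by_cases b : r = 3
        · rw [b]; exact m15
        exact hz r hr a b hr5 5
      rw [m5] at h6
      have := Nat.le_of_dvd (by norm_num) h6
      generalize Nat.card G = N at *
      interval_cases N <;> omega
    · have h6 : Nat.card G = 2 ^ _ := Nat.eq_prime_pow_of_unique_prime_dvd Nat.card_pos.ne'
        fun {r} hr hd => by
          rcases hp r hr hd with h | ⟨rfl, -⟩ | ⟨rfl, -⟩
          exacts [h, absurd hd h3, absurd hd h5]
      generalize (Nat.card G).primeFactorsList.length = a at h6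
      have h7 : 5 ≤ a := by
        by_contra h7
        have := Nat.pow_le_pow_right (n := 2) (by norm_num) (show a ≤ 4 by omega)
        omega
      have f32 := frob (G := G) Nat.prime_two 5 (h6 ▸ pow_dvd_pow 2 h7)
      have := tot (G := G) (n := 32) (t := 16) (by decide)
      have := tot (G := G) (n := 16) (t := 8) (by decide)
      have := hv 4 (by norm_num)
      have := hv 8 (by norm_num)
      have := hv 16 (by norm_num)
      have := hv 32 (by norm_num)
      simp [sum_range_succ, nord_one] at f32
      obtain ⟨n, hn⟩ := h2 20 (by simp)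
      have h8 : n ∣ 2 ^ a := h6 ▸ dvd_card_of_pos (by omega)
      obtain ⟨j, -, rfl⟩ := (Nat.dvd_prime_pow Nat.prime_two).1 h8
      by_cases h9 : 5 ≤ j
      · have := zero_of_dvd (G := G) (d := 32) (n := 2 ^ j) (by omega) (pow_dvd_pow 2 h9)
        omega
      · push Not at h9
        have := nord_one (G := G)
        interval_cases j <;> norm_num at hn <;> omega
  have m3 : nord G 3 = 20 := by
    have := hp 3 Nat.prime_three h3
    omega
  have h6 := card_dvd_mul_nord Nat.prime_three d9 h3 fun r hr hr3 => by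
    by_cases a : r = 2
    · rw [a]; exact m6
    by_cases b : r = 5
    · rw [b]; exact m15
    exact hz r hr a hr3 b 3
  rw [m3] at h6
  have hc : Nat.card G = 60 := le_antisymm (Nat.le_of_dvd (by norm_num) h6) hs
  refine CfsgH5.Ord60.alt5_of_nonsolvable hc fun hsol => ?_
  obtain ⟨p, hpp, P, hN, hP, -, hP1, -⟩ := exists_normal_pgroup_of_solvable hsol ⊥ ⊤
    (fun u hu c _ => by rw [mem_bot.1 hu]; simp) (fun h => by
      have := card_le_of_le h
      rw [card_top, card_bot] at this
      omega)
  obtain ⟨k, hk⟩ := hP.exists_card_eq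
  have hk0 : k ≠ 0 := by
    rintro rfl
    exact hP1 (card_eq_one.1 hk).le
  have hPd : p ^ k ∣ 60 := hk ▸ hc ▸ card_subgroup_dvd_card P
  have key : ∀ q, q.Prime → q ≠ p → q ∣ 60 → nord G (q * p) = 0 → ¬ p ^ k ≡ 1 [MOD q] → False := by
    intro q hq hqp hd h0 hm
    obtain ⟨x, hx⟩ := nord_pos_iff.1 (pos_of_prime (G := G) hq (hc ▸ hd))
    obtain ⟨y, hy, hy1, hxy⟩ := CfsgH9.exists_commute_of_normalizes P hq hx
      (by rw [normalizer_eq_top]; trivial) (hk ▸ hm)
    obtain ⟨j, hj⟩ := (IsPGroup.iff_orderOf.1 hP) ⟨y, hy⟩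
    rw [orderOf_mk] at hj
    have hj0 : j ≠ 0 := by
      rintro rfl
      exact hy1 (orderOf_eq_one_iff.1 hj)
    have h8 := hxy.orderOf_mul_eq_mul_orderOf_of_coprime (by
      rw [hx, hj]; exact ((Nat.coprime_primes hq hpp.out).2 hqp).pow_right j)
    rw [hx, hj] at h8
    exact nord_eq_zero_iff.1 (zero_of_dvd h0 (Nat.mul_dvd_mul_left q (dvd_pow_self p hj0))) _ h8
  rcases hp p hpp.out (hc ▸ (dvd_pow_self p hk0).trans hPd) with rfl | ⟨rfl, -⟩ | ⟨rfl, -⟩
  · refine key 5 Nat.prime_five (by norm_num) (by norm_num) m10 ?_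
    have : k < 3 := by
      by_contra h
      have := (pow_dvd_pow 2 (not_lt.1 h)).trans hPd
      omega
    interval_cases k <;> simp_all (config := {decide := true})
  · refine key 5 Nat.prime_five (by norm_num) (by norm_num) m15 ?_
    have : k < 2 := by
      by_contra h
      have := (pow_dvd_pow 3 (not_lt.1 h)).trans hPd
      omega
    interval_cases k <;> simp_all (config := {decide := true})
  · refine key 3 Nat.prime_three (by norm_num) (by norm_num) m15 ?_
    have : k < 2 := by
      by_contra h
      have := (pow_dvd_pow 5 (not_lt.1 h)).trans hPd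
      omega
    interval_cases k <;> simp_all (config := {decide := true})

theorem alt6 (h1 : ∀ n, nord G n = 0 ∨ nord G n ∈ ({1, 45, 80, 90, 144} : Set ℕ))
    (h2 : ∀ c ∈ ({1, 45, 80, 90, 144} : Set ℕ), ∃ n, nord G n = c) :
    Nonempty (G ≃* alternatingGroup (Fin 6)) := by
  have : Fact (Nat.Prime 3) := ⟨Nat.prime_three⟩
  have : Fact (Nat.Prime 5) := ⟨Nat.prime_five⟩
  have m1 := nord_one (G := G)
  have m2 : nord G 2 = 45 := by
    obtain ⟨n, hn⟩ := h2 45 (by simp)
    exact nord_two_of_odd hn (by norm_num) (by norm_num)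
  have hv : ∀ n, 2 < n → nord G n = 0 ∨ nord G n = 80 ∨ nord G n = 90 ∨ nord G n = 144 :=
    fun n hn => by
    have h3 := h1 n
    have h4 := even_nord (G := G) hn
    simp only [Set.mem_insert_iff, Set.mem_singleton_iff] at h3
    omega
  have hs := sum_set_le (G := G) {1, 45, 80, 90, 144} (fun c hc => h2 c (by simpa using hc))
  norm_num at hs
  have hp' : ∀ p, p.Prime → p ∣ Nat.card G → p = 2 ∨ (p = 3 ∧ nord G 3 = 80) ∨
      (p = 5 ∧ nord G 5 = 144) ∨ (p = 7 ∧ nord G 7 = 90) := fun p hp hd => by
    obtain ⟨a, b, c⟩ := prime_cond hp hd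
    have := hp.two_le
    by_cases h : p = 2
    · exact Or.inl h
    rcases hv p (by omega) with h8 | h8 | h8 | h8
    · omega
    · rw [h8] at a
      obtain rfl := (Nat.prime_dvd_prime_iff_eq hp Nat.prime_three).1
        (hp.dvd_of_dvd_pow (n := 4) a)
      simp [h8]
    · rw [h8] at a b
      rcases (Nat.Prime.dvd_mul (m := 7) (n := 13) hp).1 a with h | h
      · obtain rfl := (Nat.prime_dvd_prime_iff_eq hp (by norm_num)).1 h
        simp [h8]
      · obtain rfl := (Nat.prime_dvd_prime_iff_eq hp (by norm_num)).1 h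
        omega
    · rw [h8] at a b
      rcases (Nat.Prime.dvd_mul (m := 5) (n := 29) hp).1 a with h | h
      · obtain rfl := (Nat.prime_dvd_prime_iff_eq hp (by norm_num)).1 h
        simp [h8]
      · obtain rfl := (Nat.prime_dvd_prime_iff_eq hp (by norm_num)).1 h
        omega
  have d7 : ¬ 7 ∣ Nat.card G := fun h7 => by
    have p7 : Nat.Prime 7 := by norm_num
    have m7 : nord G 7 = 90 := by
      have := hp' 7 p7 h7
      omega
    have d49 : ¬ 7 ^ 2 ∣ Nat.card G := fun h => by
      have h3 := frob p7 2 h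
      have := tot (G := G) (n := 49) (t := 42) (by decide)
      have := hv 49 (by norm_num)
      simp [sum_range_succ, nord_one] at h3
      omega
    have h3 := dvd_sum_nord_mul (m := 2) (a := 1) p7 h7 d49 (by norm_num)
    have h4 := nord_mul_totient_dvd (G := G) (k := 2) p7 d49 (by norm_num)
    have := hv 14 (by norm_num)
    simp [sum_range_succ, m7] at h3 h4
    omega
  have hp : ∀ p, p.Prime → p ∣ Nat.card G → p = 2 ∨ (p = 3 ∧ nord G 3 = 80) ∨
      (p = 5 ∧ nord G 5 = 144) := fun p hp hd => by
    rcases hp' p hp hd with h | h | h | ⟨rfl, -⟩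
    exacts [Or.inl h, Or.inr (Or.inl h), Or.inr (Or.inr h), absurd hd d7]
  have hz : ∀ r, r.Prime → r ≠ 2 → r ≠ 3 → r ≠ 5 → ∀ k, nord G (k * r) = 0 :=
    fun r hr a b c k => by
      by_contra h0
      have := hp r hr ((dvd_mul_left r k).trans (dvd_card_of_pos (Nat.pos_of_ne_zero h0)))
      omega
  have m4 : 4 ∣ Nat.card G → nord G 4 = 90 := fun h => by
    have h3 := frob Nat.prime_two 2 h
    have := hv 4 (by norm_num)
    simp [sum_range_succ, nord_one] at h3
    omega
  have t8 := tot (G := G) (n := 8) (t := 4) (by decide)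
  have v8 := hv 8 (by norm_num)
  have d16 : ¬ 2 ^ 4 ∣ Nat.card G := fun h => by
    have h3 := frob Nat.prime_two 4 h
    have := m4 ((by norm_num : 4 ∣ 2 ^ 4).trans h)
    have := tot (G := G) (n := 16) (t := 8) (by decide)
    have := hv 16 (by norm_num)
    simp [sum_range_succ, nord_one] at h3
    omega
  have m8 : nord G 8 = 0 := by
    by_contra h0
    obtain ⟨a, -⟩ := cyc_sylow (a := 3) d16 (Nat.pos_of_ne_zero h0)
    rw [show (2 ^ 3 : ℕ).totient = 4 by decide] at a
    have := card_sylow_modEq_one 2 G
    unfold Nat.ModEq at this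
    norm_num at a
    omega
  have t27 := tot (G := G) (n := 27) (t := 18) (by decide)
  have v27 := hv 27 (by norm_num)
  have t9 := tot (G := G) (n := 9) (t := 6) (by decide)
  have v9 := hv 9 (by norm_num)
  have m9 : nord G 9 = 0 := by
    by_contra h0
    have h9 := dvd_card_of_pos (Nat.pos_of_ne_zero h0)
    have m3 : nord G 3 = 80 := by
      have := hp 3 Nat.prime_three ((by norm_num : 3 ∣ 9).trans h9)
      omega
    by_cases d27 : 3 ^ 3 ∣ Nat.card G
    · have h3 := frob Nat.prime_three 3 d27
      simp [sum_range_succ, nord_one] at h3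
      omega
    · obtain ⟨a, -⟩ := cyc_sylow (a := 2) d27 (Nat.pos_of_ne_zero h0)
      rw [show (3 ^ 2 : ℕ).totient = 6 by decide] at a
      have := card_sylow_modEq_one 3 G
      unfold Nat.ModEq at this
      norm_num at a
      omega
  have d243 : ¬ 3 ^ 5 ∣ Nat.card G := fun h => by
    have m3 : nord G 3 = 80 := by
      have := hp 3 Nat.prime_three ((by norm_num : 3 ∣ 3 ^ 5).trans h)
      omega
    have h3 := frob Nat.prime_three 5 h
    have := zero_of_dvd (n := 27) m9 (by norm_num)
    have := zero_of_dvd (n := 81) m9 (by norm_num)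
    have := zero_of_dvd (n := 243) m9 (by norm_num)
    simp [sum_range_succ, nord_one] at h3
    omega
  have d25 : ¬ 5 ^ 2 ∣ Nat.card G := fun h => by
    have m5 : nord G 5 = 144 := by
      have := hp 5 Nat.prime_five ((by norm_num : 5 ∣ 5 ^ 2).trans h)
      omega
    have f25 := frob Nat.prime_five 2 h
    have := hv 25 (by norm_num)
    simp [sum_range_succ, nord_one] at f25
    have := tot (G := G) (n := 25) (t := 20) (by decide)
    have m25 : nord G 25 = 80 := by omega
    have d125 : ¬ 5 ^ 3 ∣ Nat.card G := fun h => by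
      have h3 := frob Nat.prime_five 3 h
      have := tot (G := G) (n := 125) (t := 100) (by decide +kernel)
      have := hv 125 (by norm_num)
      simp [sum_range_succ, nord_one] at h3
      omega
    obtain ⟨a, -⟩ := cyc_sylow (a := 2) d125 (by norm_num [m25])
    rw [show (5 ^ 2 : ℕ).totient = 20 by decide] at a
    have := card_sylow_modEq_one 5 G
    unfold Nat.ModEq at this
    norm_num at a
    omega
  have h5 : 5 ∣ Nat.card G := by
    by_contra h5
    have hd : Nat.card G ∣ 648 := dvd_of_primes (by norm_num) fun p hp' h => by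
      rcases hp p hp' h with rfl | ⟨rfl, -⟩ | ⟨rfl, -⟩
      · rwa [show (648 : ℕ).factorization 2 = 3 by decide +kernel]
      · rwa [show (648 : ℕ).factorization 3 = 4 by decide +kernel]
      · exact absurd h h5
    have hc : Nat.card G = 648 := by
      obtain ⟨k, hk⟩ := hd
      have : k < 2 := by nlinarith
      interval_cases k <;> omega
    have h6 := sum_eq_card (G := G) {1, 2, 3, 4, 6, 12} fun d h0 => by
      have h7 : d ∣ 648 := hc ▸ dvd_card_of_pos h0
      have h8 : ¬ 8 ∣ d := fun h => by have := zero_of_dvd m8 h; omega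
      have h9 : ¬ 9 ∣ d := fun h => by have := zero_of_dvd m9 h; omega
      have : ∀ d ∈ Nat.divisors 648, ¬ 8 ∣ d → ¬ 9 ∣ d → d ∈ ({1, 2, 3, 4, 6, 12} : Finset ℕ) := by
        decide +kernel
      exact this d (Nat.mem_divisors.2 ⟨h7, by norm_num⟩) h8 h9
    have := hv 3 (by norm_num)
    have := hv 4 (by norm_num)
    have := hv 6 (by norm_num)
    have := hv 12 (by norm_num)
    simp at h6
    omega
  have m5 : nord G 5 = 144 := by
    have := hp 5 Nat.prime_five h5
    omega
  have m10 : nord G 10 = 0 := by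
    have h3 := dvd_sum_nord_mul (m := 2) (a := 1) Nat.prime_five h5 d25 (by norm_num)
    have h4 := nord_mul_totient_dvd (G := G) (k := 2) Nat.prime_five d25 (by norm_num)
    have := hv 10 (by norm_num)
    simp [sum_range_succ, m5] at h3 h4
    omega
  have m15 : nord G 15 = 0 := by
    have h4 := nord_mul_totient_dvd (G := G) (k := 3) Nat.prime_five d25 (by norm_num)
    have := hv 15 (by norm_num)
    rw [m5, show Nat.totient 3 = 2 by decide] at h4
    norm_num at h4
    omega
  have h6 := card_dvd_mul_nord Nat.prime_five d25 h5 fun r hr hr5 => by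
    by_cases a : r = 2
    · rw [a]; exact m10
    by_cases b : r = 3
    · rw [b]; exact m15
    exact hz r hr a b hr5 5
  rw [m5] at h6
  have hc : Nat.card G = 360 := by
    obtain ⟨k, hk⟩ := h6
    have : k < 3 := by nlinarith
    interval_cases k <;> omega
  have m3 : nord G 3 = 80 := by
    have := hp 3 Nat.prime_three (by rw [hc]; norm_num)
    omega
  have m6 : nord G 6 = 0 := by
    have h7 := sum_le_card (G := G) {1, 2, 3, 4, 5, 6}
    have := m4 (by rw [hc]; norm_num)
    simp at h7
    omega
  obtain ⟨P⟩ : Nonempty (Sylow 3 G) := inferInstance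
  have hP : Nat.card (P : Subgroup G) = 9 := by
    rw [P.card_eq_multiplicity, factorization_eq (a := 2) Nat.prime_three (by rw [hc]; norm_num)
      (by rw [hc]; norm_num)]
    norm_num
  have hexp : ∀ a ∈ (P : Subgroup G), a ^ 3 = 1 := fun a ha => by
    have h7 : orderOf a ∣ 3 ^ 2 := by
      have := orderOf_dvd_natCard (⟨a, ha⟩ : (P : Subgroup G))
      rwa [hP, orderOf_mk] at this
    obtain ⟨j, hj, h8⟩ := (Nat.dvd_prime_pow Nat.prime_three).1 h7
    rw [← orderOf_dvd_iff_pow_eq_one, h8]
    interval_cases j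
    · norm_num
    · norm_num
    · exact absurd h8 (nord_eq_zero_iff.1 m9 a)
  have hcomm : ∀ a ∈ (P : Subgroup G), ∀ b ∈ (P : Subgroup G), a * b = b * a := by
    intro a ha b hb
    have := (IsPGroup.isMulCommutative_of_card_eq_prime_sq (G := (P : Subgroup G)) (p := 3)
      hP).is_comm.comm ⟨a, ha⟩ ⟨b, hb⟩
    exact congrArg Subtype.val this
  have hcent : ∀ s ∈ (P : Subgroup G), s ≠ 1 → centralizer ({s} : Set G) = P := by
    intro s hs hs1
    obtain ⟨k, hk⟩ := cent_pgroup Nat.prime_three (fun r hr hr3 => by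
      by_cases a : r = 2
      · rw [a]; exact m6
      by_cases b : r = 5
      · rw [b]; exact m15
      exact hz r hr a hr3 b 3) (orderOf_eq_prime (hexp s hs) hs1)
    exact P.is_maximal' (IsPGroup.of_card hk) fun a ha =>
      mem_centralizer_singleton_iff.2 (hcomm a ha s hs)
  have hCC : CC9 (P : Subgroup G) := ⟨hP, hexp, hcent⟩
  obtain ⟨a, ha, ha1⟩ := hCC.exists_ne
  have hoa := orderOf_eq_prime (hexp a ha) ha1
  have : ∃ b ∈ (P : Subgroup G), b ≠ 1 ∧ ¬ IsConj a b := by
    by_contra hcon
    push Not at hcon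
    have h7 := nord_eq_index (x := a) fun t ht => by
      rw [hoa] at ht
      obtain ⟨g, hg⟩ := hCC.exists_conj_mem (s := t) (ht ▸ pow_orderOf_eq_one t)
      refine (hcon _ hg fun h => ?_).trans (isConj_iff.2 ⟨g, rfl⟩).symm
      have : t = 1 := by simpa using h
      rw [this, orderOf_one] at ht
      omega
    rw [hoa, m3, hcent a ha ha1] at h7
    have := (P : Subgroup G).card_mul_index
    rw [hP, hc] at this
    omega
  obtain ⟨b, hb, hb1, hab⟩ := this
  refine (hCC.normal_or_alt6 ha hb ha1 hb1 hab).resolve_left fun hN => ?_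
  have h7 : nord G 3 ≤ Nat.card (P : Subgroup G) := by
    refine Nat.card_le_card_of_injective (fun t : {g : G // orderOf g = 3} =>
      (⟨t.1, ?_⟩ : (P : Subgroup G))) fun t u h =>
        Subtype.ext (congrArg (fun v : (P : Subgroup G) => (v : G)) h)
    obtain ⟨g, hg⟩ := hCC.exists_conj_mem (s := t.1) (by
      have := pow_orderOf_eq_one t.1; rwa [t.2] at this)
    simpa [mul_assoc] using hN.conj_mem _ hg g⁻¹
  omega

end CfsgH5.NseAlt
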