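import Cfsg.Agent.FT.Base9
import Cfsg.Agent.H6.Derang

set_option autoImplicit false
set_option linter.unusedSectionVars false

/-! Normal subgroups `K` containing every element with two fixed points: the degree is a prime power
or at least `([G:K]+1)²`. -/

namespace CfsgH5.Der
open Subgroup CfsgH5 CfsgH6 CfsgFT MulAction

universe u
variable {G : Type u} [Group G] [Finite G] {K H S B T R W : Subgroup G} {p : ℕ}

theorem relIndex_of_sup [K.Normal] (h : H ⊔ K = ⊤) : K.relIndex H = K.index := by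
  rw [← relIndex_sup_right, h, relIndex_top_right]

theorem lemC [K.Normal] (h : H ⊔ K = ⊤) (hB : B ≤ H) (hBK : B ≤ K) (hn : Nrm H B)
    (hS : H ⊓ S ≤ K) : K.index * Nat.card B ∣ S.relIndex H * Nat.card ↥(B ⊓ S) := by
  have h1 : (H ⊓ S) ⊔ B ≤ H := sup_le inf_le_left hB
  have h2 : K.relIndex H ∣ ((H ⊓ S) ⊔ B).relIndex H := relIndex_dvd_of_le_left _ (sup_le hS hBK)
  have h3 := relIndex_mul_relIndex (H ⊓ S) _ H le_sup_left h1
  have h4 : (H ⊓ S).relIndex ((H ⊓ S) ⊔ B) = (H ⊓ S).relIndex B :=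
    relIndex_sup (Or.inl (hn.mono inf_le_left))
  have h5 := card_inf_mul_relIndex (H ⊓ S) B
  have h6 : H ⊓ S ⊓ B = B ⊓ S := by
    rw [inf_assoc, inf_comm S B, ← inf_assoc, inf_eq_right.2 hB]
  rw [h6] at h5
  rw [← relIndex_of_sup h, ← inf_relIndex_right S H, inf_comm S H, ← h3, h4, ← h5]
  obtain ⟨c, hc⟩ := h2
  exact ⟨c, by rw [hc]; ring⟩

theorem lemC_le [K.Normal] (h : H ⊔ K = ⊤) (hB : B ≤ H) (hBK : B ≤ K) (hn : Nrm H B)
    (hS : H ⊓ S ≤ K) : K.index * Nat.card B ≤ S.relIndex H * Nat.card ↥(B ⊓ S) :=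
  Nat.le_of_dvd (Nat.mul_pos (relIndex_pos _ _) (card_pos _)) (lemC h hB hBK hn hS)

theorem lemB [K.Normal] (h : H ⊔ K = ⊤) (hS : H ⊓ S ≤ K) : K.index ∣ S.relIndex H := by
  have := lemC (B := ⊥) h bot_le bot_le (Nrm.bot _) hS
  simpa using this

theorem frat [K.Normal] (hp : p.Prime) (h : H ⊔ K = ⊤) (hR : SylIn p R T) (hT : NormalIn T H)
    (hTK : T ≤ K) : (H ⊓ N R) ⊔ K = ⊤ := by
  rw [eq_top_iff, ← h, ← frattini_arg hp hR hT]
  refine sup_le (sup_le (hTK.trans le_sup_right) ?_) le_sup_right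
  rw [frattini_arg hp hR hT]
  exact le_sup_left

variable {Ω : Type*} [MulAction G Ω] [Finite Ω] {Φ : Set Ω} {a b : Ω}

theorem ncard_orbit (H : Subgroup G) (a : Ω) :
    (orbit H a).ncard = (stabilizer G a).relIndex H := by
  rw [← index_stabilizer]; rfl

theorem mem_orb {x : Ω} : x ∈ orbit H a ↔ ∃ g ∈ H, g • a = x :=
  ⟨fun ⟨g, h⟩ => ⟨g, g.2, h⟩, fun ⟨g, h1, h2⟩ => ⟨⟨g, h1⟩, h2⟩⟩

theorem dvd_ncard (k : ℕ) (H : Subgroup G) (X : Set Ω) (hX : ∀ g ∈ H, ∀ x ∈ X, g • x ∈ X)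
    (h : ∀ x ∈ X, k ∣ (stabilizer G x).relIndex H) : k ∣ X.ncard :=
  dvd_ncard_of_dvd_index_stabilizer (G := H) k X (fun g x hx => hX g g.2 x hx) h

theorem cj_stab (g : G) (a : Ω) : cj g (stabilizer G a) = stabilizer G (g • a) := by
  ext x
  rw [mem_cj, mem_stabilizer_iff, mem_stabilizer_iff, mul_smul, mul_smul, inv_smul_eq_iff]

variable (Ω) in
/-- elements with two fixed points lie in `K`. -/
def Two (K : Subgroup G) : Prop := ∀ g : G, ∀ a b : Ω, a ≠ b → g • a = a → g • b = b → g ∈ K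

/-- `H` supplements `K`, leaves `Φ` invariant, `H ∩ K` is transitive on `Φ`. -/
structure Sit (K H : Subgroup G) (Φ : Set Ω) : Prop where
  sup : H ⊔ K = ⊤
  inv : ∀ g ∈ H, ∀ x ∈ Φ, g • x ∈ Φ
  tr : ∀ x ∈ Φ, ∀ y ∈ Φ, ∃ g ∈ H ⊓ K, g • x = y

theorem Sit.sup_stab [K.Normal] (h : Sit K H Φ) (ha : a ∈ Φ) :
    (H ⊓ stabilizer G a) ⊔ K = ⊤ := by
  rw [eq_top_iff, ← h.sup]
  refine sup_le (fun g hg => ?_) le_sup_right
  obtain ⟨k, hk, e⟩ := h.tr _ (h.inv g hg a ha) a ha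
  have : g = k⁻¹ * (k * g) := by group
  rw [this]
  exact mul_mem (mem_sup_right (inv_mem hk.2))
    (mem_sup_left ⟨mul_mem hk.1 hg, mem_stabilizer_iff.2 (by rw [mul_smul, e])⟩)

theorem Sit.orbit_eq (h : Sit K H Φ) (ha : a ∈ Φ) : orbit ↥(H ⊓ K) a = Φ := by
  ext x
  rw [mem_orb]
  exact ⟨fun ⟨g, h1, h2⟩ => h2 ▸ h.inv g h1.1 a ha, fun hx => h.tr a ha x hx⟩

/-- a subgroup fixing `a` acts on the other points of an invariant set. -/
theorem dvd_pred [K.Normal] (h2 : Two Ω K) (hH : H ≤ stabilizer G a) (ha : a ∈ Φ)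
    (hi : ∀ g ∈ H, ∀ x ∈ Φ, g • x ∈ Φ) : K.relIndex H ∣ Φ.ncard - 1 := by
  rw [← Set.ncard_diff_singleton_of_mem ha]
  refine dvd_ncard _ H _ (fun g hg x hx => ⟨hi g hg x hx.1, fun e => hx.2 ?_⟩) fun x hx => ?_
  · rw [Set.mem_singleton_iff] at e ⊢
    rw [← mem_stabilizer_iff.1 (hH hg)] at e
    exact (smul_left_cancel_iff g).1 e
  · rw [← inf_relIndex_right (stabilizer G x) H]
    exact relIndex_dvd_of_le_left _ fun g hg => h2 g a x (Ne.symm hx.2) (hH hg.2) hg.1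

theorem Sit.dvd_pred [K.Normal] (h2 : Two Ω K) (h : Sit K H Φ) (ha : a ∈ Φ) :
    K.index ∣ Φ.ncard - 1 := by
  rw [← relIndex_of_sup (h.sup_stab ha)]
  exact Der.dvd_pred h2 inf_le_right ha fun g hg => h.inv g hg.1

theorem exists_fix (hp : p.Prime) (hS : IsPGroup p S) (hi : ∀ g ∈ S, ∀ x ∈ Φ, g • x ∈ Φ)
    (hn : ¬ p ∣ Φ.ncard) : ∃ x ∈ Φ, S ≤ stabilizer G x := by
  by_contra hc
  push Not at hc
  refine hn (dvd_ncard p S Φ hi fun x hx => ?_)
  have := Fact.mk hp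
  obtain ⟨i, hi⟩ := IsPGroup.iff_card.1 hS
  obtain ⟨j, -, hj⟩ := (Nat.dvd_prime_pow hp).1 (hi ▸ relIndex_dvd_card' (stabilizer G x) S)
  rw [hj]
  refine dvd_pow_self p fun e => hc x hx ?_
  rw [e, pow_zero] at hj
  exact relIndex_eq_one.1 hj

theorem pow_dvd_relIndex [K.Normal] (hp : p.Prime) (h : H ⊔ K = ⊤) (hS : SylIn p S H) {j : ℕ}
    (hj : p ^ j ∣ K.index) : p ^ j ∣ K.relIndex S := by
  have h1 : K.relIndex S * (S ⊔ K).index = K.index := by
    rw [← relIndex_sup_right, relIndex_mul_index le_sup_right]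
  have h2 : (S ⊔ K).index ∣ S.relIndex H := by
    have : (S ⊔ K).relIndex H = (S ⊔ K).index := by
      have e1 := card_inf_mul_relIndex (S ⊔ K) H
      have e2 := card_inf_mul_relIndex K H
      have e3 : (S ⊔ K) ⊓ H = S ⊔ K ⊓ H := modular_left (Or.inl (Nrm.of_normal _ _)) hS.le
      have e4 := card_sup_mul (X := S) (Y := K ⊓ H) (Or.inl ((Nrm.of_normal _ _).inf (Nrm.of_le hS.le)))
      have e5 := card_sup_mul (X := S) (Y := K) (Or.inl (Nrm.of_normal _ _))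
      have e6 : S ⊓ (K ⊓ H) = S ⊓ K := by
        rw [inf_comm K H, ← inf_assoc, inf_eq_left.2 hS.le]
      have e7 := (S ⊔ K).card_mul_index
      have e8 := K.card_mul_index
      rw [relIndex_of_sup h] at e2
      rw [e6] at e4
      rw [e3] at e1
      have p1 := card_pos (S ⊓ K)
      have p2 := card_pos (S ⊔ K ⊓ H)
      have p3 := card_pos K
      have p4 := card_pos S
      apply Nat.eq_of_mul_eq_mul_left (Nat.mul_pos (Nat.mul_pos p1 p2) p3)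
      calc _ = Nat.card ↥(S ⊓ K) * Nat.card K *
            (Nat.card ↥(S ⊔ K ⊓ H) * (S ⊔ K).relIndex H) := by ring
        _ = Nat.card ↥(S ⊓ K) * Nat.card ↥(K ⊓ H) * (Nat.card K * K.index) := by rw [e1, ← e2]; ring
        _ = Nat.card ↥(K ⊓ H) * (Nat.card ↥(S ⊔ K) * Nat.card ↥(S ⊓ K)) * (S ⊔ K).index := by
            rw [e8, ← e7]; ring
        _ = Nat.card S * Nat.card ↥(K ⊓ H) * Nat.card K * (S ⊔ K).index := by rw [e5]; ring
        _ = _ := by rw [← e4]; ring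
    rw [← this]
    exact relIndex_dvd_of_le_left _ le_sup_left
  have := Fact.mk hp
  have h3 : ¬ p ∣ (S ⊔ K).index := fun e => hS.not_dvd_relIndex (e.trans h2)
  rw [← h1] at hj
  exact (Nat.Coprime.pow_left j ((Nat.Prime.coprime_iff_not_dvd hp).2 h3)).dvd_of_dvd_mul_right hj

/-- the case in which a Sylow subgroup of the stabiliser fixes everything. -/
theorem Sit.semi [K.Normal] (h2 : Two Ω K) (h : Sit K H Φ) (ha : a ∈ Φ) {r : ℕ} (hr : r.Prime)
    (hd : r ∣ Φ.ncard) (hS : SylIn r S (H ⊓ K ⊓ stabilizer G a))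
    (hf : ∀ x ∈ Φ, S ≤ stabilizer G x) : ∃ c, r ^ c ∣ Φ.ncard ∧ K.index + 1 ≤ r ^ c := by
  have := Fact.mk hr
  obtain ⟨R, hSR, hR⟩ := exists_sylIn_ge (hS.le.trans inf_le_left) hS.isPGroup
  have hst : ∀ x ∈ Φ, R ⊓ stabilizer G x = S := fun x hx => by
    obtain ⟨g, hg, e⟩ := h.tr a ha x hx
    have h1 : SylIn r (cj g S) (H ⊓ K ⊓ stabilizer G x) := by
      have := hS.cjj g
      rwa [cj_inf, cj_self hg, cj_stab, e] at this
    have h3 : SylIn r S (H ⊓ K ⊓ stabilizer G x) :=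
      h1.of_card_le (le_inf (hS.le.trans inf_le_left) (hf x hx)) hS.isPGroup (card_cj g S).le
    exact h3.eq_of_le (inf_le_inf_right _ hR.le) (hR.isPGroup.to_le inf_le_left)
      (le_inf hSR (hf x hx))
  obtain ⟨i, hi⟩ := IsPGroup.iff_card.1 hR.isPGroup
  obtain ⟨c, -, hc⟩ := (Nat.dvd_prime_pow hr).1 (hi ▸ relIndex_dvd_card' S R)
  have horb : ∀ x ∈ Φ, (stabilizer G x).relIndex R = r ^ c := fun x hx => by
    rw [← hc, ← hst x hx, inf_comm, inf_relIndex_right]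
  have hinv : ∀ g ∈ R, ∀ x ∈ Φ, g • x ∈ Φ := fun g hg => h.inv g (hR.le hg).1
  refine ⟨c, dvd_ncard _ R Φ hinv fun x hx => (horb x hx).symm.dvd, ?_⟩
  have hc0 : c ≠ 0 := by
    rintro rfl
    have h1 : R ≤ stabilizer G a := relIndex_eq_one.1 (by rw [horb a ha, pow_zero])
    have h3 : (stabilizer G a).relIndex (H ⊓ K) ∣ R.relIndex (H ⊓ K) :=
      relIndex_dvd_of_le_left _ h1
    rw [← ncard_orbit, h.orbit_eq ha] at h3
    exact hR.not_dvd_relIndex (hd.trans h3)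
  have h1 : 1 < r ^ c := Nat.one_lt_pow hc0 hr.one_lt
  have hsup := frat hr h.sup hR ⟨inf_le_left, (Nrm.self H).inf (Nrm.of_normal _ _)⟩ inf_le_right
  have hn0 : 0 < Φ.ncard := (Set.ncard_pos (Set.toFinite _)).2 ⟨a, ha⟩
  have key : K.index ∣ r ^ c - 1 := by
    refine (Nat.dvd_iff_prime_pow_dvd_dvd _ _).2 fun p j hp hj => ?_
    rcases Nat.eq_zero_or_pos j with rfl | j0
    · simp
    obtain ⟨P, hP⟩ := exists_sylIn p (H ⊓ N R)
    have hpn : ¬ p ∣ Φ.ncard := fun e => by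
      have e2 : p ∣ Φ.ncard - 1 :=
        ((dvd_pow_self p j0.ne').trans hj).trans (h.dvd_pred h2 ha)
      have := (Nat.dvd_sub_iff_right hn0 e).1 e2
      exact hp.one_lt.ne' (Nat.dvd_one.1 this)
    obtain ⟨x, hx, hPx⟩ := exists_fix hp hP.isPGroup (fun g hg => h.inv g (hP.le hg).1) hpn
    refine (pow_dvd_relIndex hp hsup hP hj).trans ?_
    rw [← horb x hx, ← ncard_orbit]
    refine Der.dvd_pred h2 hPx (mem_orbit_self x) fun g hg y hy => ?_
    obtain ⟨v, hv, rfl⟩ := mem_orb.1 hy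
    refine mem_orb.2 ⟨g * v * g⁻¹, conj_mem_of_mem_N (hP.le hg).2 hv, ?_⟩
    rw [mul_smul, mul_smul, mem_stabilizer_iff.1 (inv_mem (hPx hg))]
  have := Nat.le_of_dvd (by omega) key
  omega

theorem Sit.main [K.Normal] (h2 : Two Ω K) (n : ℕ) : ∀ (H : Subgroup G) (Φ : Set Ω), Φ.ncard = n →
    Sit K H Φ → 2 ≤ n → (K.index + 1) ^ 2 ≤ n ∨ IsPrimePow n := by
  induction n using Nat.strong_induction_on with
  | _ n ih =>
  intro H Φ hn h h1
  obtain ⟨a, ha⟩ : Φ.Nonempty := Set.nonempty_of_ncard_ne_zero (by omega)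
  by_contra hc
  rw [not_or] at hc
  have key : ∀ r : ℕ, r.Prime → r ∣ n → ∃ c, r ^ c ∣ n ∧ K.index + 1 ≤ r ^ c := by
    intro r hr hd
    have := Fact.mk hr
    obtain ⟨S, hS⟩ := exists_sylIn r (H ⊓ K ⊓ stabilizer G a)
    by_cases hf : ∀ x ∈ Φ, S ≤ stabilizer G x
    · exact hn ▸ h.semi h2 ha hr (hn ▸ hd) hS hf
    set Ψ : Set Ω := {x | x ∈ Φ ∧ S ≤ stabilizer G x} with hΨ
    have haΨ : a ∈ Ψ := ⟨ha, hS.le.trans inf_le_right⟩
    have hlt : Ψ.ncard < n := by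
      rw [← hn]
      refine Set.ncard_lt_ncard ⟨fun x hx => hx.1, fun e => hf fun x hx => (e hx).2⟩
    have hs : Sit K (H ⊓ N S) Ψ := by
      refine ⟨?_, fun g hg x hx => ⟨h.inv g hg.1 x hx.1, ?_⟩, ?_⟩
      · have := frat hr (h.sup_stab ha) hS ⟨inf_le_inf_right _ inf_le_left,
          (((Nrm.of_le inf_le_left).inf (Nrm.of_normal _ _)).inf (Nrm.of_le inf_le_right))⟩
          (inf_le_left.trans inf_le_right)
        rw [eq_top_iff, ← this]
        exact sup_le_sup_right (inf_le_inf_right _ inf_le_left) _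
      · rw [← cj_stab, ← mem_N.1 hg.2]
        exact cj_mono hx.2
      · suffices H1 : ∀ x ∈ Ψ, ∃ g ∈ H ⊓ N S ⊓ K, g • a = x by
          intro x hx y hy
          obtain ⟨g, hg, rfl⟩ := H1 x hx
          obtain ⟨k, hk, rfl⟩ := H1 y hy
          exact ⟨k * g⁻¹, mul_mem hk (inv_mem hg), by rw [mul_smul, inv_smul_smul]⟩
        intro x hx
        obtain ⟨g, hg, e⟩ := h.tr a ha x hx.1
        have h3 : SylIn r (cj g S) (H ⊓ K ⊓ stabilizer G x) := by
          have := hS.cjj g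
          rwa [cj_inf, cj_self hg, cj_stab, e] at this
        have h4 : SylIn r S (H ⊓ K ⊓ stabilizer G x) :=
          h3.of_card_le (le_inf (hS.le.trans inf_le_left) hx.2) hS.isPGroup (card_cj g S).le
        obtain ⟨k, hk, e2⟩ := h3.conj h4
        rw [cj_cj] at e2
        exact ⟨k * g, ⟨⟨mul_mem hk.1.1 hg.1, mem_N.2 e2⟩, mul_mem hk.1.2 hg.2⟩,
          by rw [mul_smul, e, mem_stabilizer_iff.1 hk.2]⟩
    have e1 : (stabilizer G a).relIndex (H ⊓ K) = n := by rw [← ncard_orbit, h.orbit_eq ha, hn]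
    have e2 : (stabilizer G a).relIndex (H ⊓ N S ⊓ K) = Ψ.ncard := by
      rw [← ncard_orbit, hs.orbit_eq haΨ]
    have hL : H ⊓ N S ⊓ K ≤ H ⊓ K := inf_le_inf_right _ inf_le_left
    have hSL : S ≤ stabilizer G a ⊓ (H ⊓ N S ⊓ K) := le_inf haΨ.2
      (le_inf (le_inf (hS.le.trans (inf_le_left.trans inf_le_left)) (le_N S))
        (hS.le.trans (inf_le_left.trans inf_le_right)))
    have hS2 : SylIn r S (stabilizer G a ⊓ (H ⊓ N S ⊓ K)) :=
      hS.of_le hSL (by rw [inf_comm]; exact inf_le_inf_right _ hL)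
    have e3 := relIndex_mul_relIndex S _ (H ⊓ N S ⊓ K) hSL inf_le_right
    rw [inf_relIndex_right, e2] at e3
    have e4 := relIndex_mul_relIndex S _ (H ⊓ K) hS.le inf_le_left
    rw [inf_comm (H ⊓ K), inf_relIndex_right, e1, inf_comm _ (H ⊓ K)] at e4
    have hrΨ : r ∣ Ψ.ncard := by
      by_contra hnd
      have h5 : SylIn r S (H ⊓ N S ⊓ K) := sylIn_of_not_dvd (hSL.trans inf_le_right) hS.isPGroup
        (by rw [← e3]; exact fun e => ((Nat.Prime.dvd_mul hr).1 e).elim hS2.not_dvd_relIndex hnd)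
      rw [inf_right_comm] at h5
      have h6 := (sylIn_of_sylIn_N hr h5).not_dvd_relIndex
      rw [← e4] at h6
      exact h6 (hd.mul_left _)
    have h2Ψ : 2 ≤ Ψ.ncard := hr.two_le.trans
      (Nat.le_of_dvd ((Set.ncard_pos (Set.toFinite _)).2 ⟨a, haΨ⟩) hrΨ)
    rcases ih _ hlt _ Ψ rfl hs h2Ψ with h5 | h5
    · exact absurd (h5.trans hlt.le) hc.1
    obtain ⟨q, c, hq, -, e⟩ := (isPrimePow_nat_iff _).1 h5
    obtain rfl : r = q := (Nat.prime_dvd_prime_iff_eq hr hq).1 (hr.dvd_of_dvd_pow (e ▸ hrΨ))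
    refine ⟨c, ?_, ?_⟩
    · have h6 : S.relIndex (H ⊓ N S ⊓ K) ∣ S.relIndex (H ⊓ K) :=
        relIndex_dvd_of_le_of_le (hSL.trans inf_le_right) hL
      rw [← e3, ← e4, ← e] at h6
      exact (Nat.Coprime.pow_left c ((Nat.Prime.coprime_iff_not_dvd hr).2
        hS.not_dvd_relIndex)).dvd_of_dvd_mul_left ((Dvd.intro_left _ rfl).trans h6)
    · have := Nat.le_of_dvd (by omega) (hs.dvd_pred h2 haΨ)
      omega
  have hr := Nat.minFac_prime (n := n) (by omega)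
  obtain ⟨q, hq, hqn, hne⟩ : ∃ q : ℕ, q.Prime ∧ q ∣ n ∧ q ≠ n.minFac := by
    by_contra hq
    push Not at hq
    exact hc.2 (isPrimePow_iff_unique_prime_dvd.2
      ⟨n.minFac, ⟨hr, Nat.minFac_dvd n⟩, fun q h => hq q h.1 h.2⟩)
  obtain ⟨c, c1, c2⟩ := key _ hr (Nat.minFac_dvd n)
  obtain ⟨e, e1, e2⟩ := key _ hq hqn
  have h5 := Nat.le_of_dvd (by omega) (Nat.Coprime.mul_dvd_of_dvd_of_dvd
    (Nat.Coprime.pow e c ((Nat.coprime_primes hq hr).2 hne)) e1 c1)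
  exact hc.1 (by rw [sq]; exact (Nat.mul_le_mul e2 c2).trans h5)

end CfsgH5.Der
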