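import Cfsg.Agent.H5.Der1
import Cfsg.Agent.FT.Base11
import Cfsg.Agent.FT.BG45_a

set_option autoImplicit false
set_option linter.unusedSectionVars false

/-! The affine case: `H` acts irreducibly on the abelian group `R`, fixed point freely outside the
normal subgroup `K`, and some normal `ℓ`-subgroup of `H` inside `K` is not fixed point free. -/

namespace CfsgH5.Der
open Subgroup CfsgH5 CfsgH6 CfsgFT
open scoped commutatorElement

universe u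
variable {G : Type u} [Group G] [Finite G] {K H S B T R W Q A : Subgroup G} {p : ℕ}

theorem dc {α β : Type*} [Finite α] [Finite β] (s : Set α) (t : Set β) (r : α → β → Prop)
    {m n : ℕ} (hm : ∀ a ∈ s, m ≤ {b | b ∈ t ∧ r a b}.ncard)
    (hn : ∀ b ∈ t, {a | a ∈ s ∧ r a b}.ncard ≤ n) : s.ncard * m ≤ t.ncard * n := by
  classical
  rw [Set.ncard_eq_toFinset_card s, Set.ncard_eq_toFinset_card t]
  refine Finset.card_mul_le_card_mul r (fun a ha => ?_) fun b hb => ?_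
  · refine (hm a (by simpa using ha)).trans (le_of_eq ?_)
    rw [← Set.ncard_coe_finset]; congr 1; ext; simp
  · refine le_trans (le_of_eq ?_) (hn b (by simpa using hb))
    rw [← Set.ncard_coe_finset]; congr 1; ext; simp

theorem ncard_cl (H : Subgroup G) (v : G) : (clSupp {v} H).ncard = (C1 v).relIndex H := by
  have : NormedTI {v} H (C1 v ⊓ H) := ⟨⟨v, rfl⟩, inf_le_right, by
    rintro l hl a rfl; exact mem_C1_iff_conj.1 hl.1, by
    rintro g hg a rfl h; exact ⟨mem_C1_iff_conj.2 h, hg⟩⟩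
  rw [this.ncard_clSupp, Set.ncard_singleton, one_mul, inf_relIndex_right]

theorem indep {ι : Type*} (hT : Ab T) (hR : Ab R) (hc : (Nat.card R).Coprime (Nat.card T))
    (W : ι → Subgroup G) (w : ℕ) (S : Set G) (hS : ∀ a ∈ S, a ∈ T) (n : ℕ) :
    ∀ (s : Finset ι) (V : Subgroup G), s.card = n → V ≤ R → Nrm T V →
      (∀ i ∈ s, W i ≤ V ∧ Nrm T (W i) ∧ w ≤ Nat.card (W i) ∧
        ∀ a ∈ S, W i ≤ C1 a ∨ W i ⊓ C1 a = ⊥) →
      (∀ i ∈ s, ∀ j ∈ s, i ≠ j → ∃ a ∈ S, W i ≤ C1 a ∧ ¬ W j ≤ C1 a) → w ^ n ≤ Nat.card V := by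
  classical
  induction n using Nat.strong_induction_on with
  | _ n ih =>
  intro s V hs hV hn h1 h2
  by_cases h : s.card ≤ 1
  · rcases Nat.eq_zero_or_pos n with rfl | h0
    · exact card_pos V
    · obtain ⟨i, hi⟩ := Finset.card_pos.1 (hs ▸ h0)
      rw [show n = 1 by omega, pow_one]
      exact (h1 i hi).2.2.1.trans (card_le_of_le (h1 i hi).1)
  obtain ⟨i, hi, j, hj, hij⟩ := Finset.one_lt_card.1 (not_le.1 h)
  obtain ⟨a, ha, a1, a2⟩ := h2 i hi j hj hij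
  have haT : zpowers a ≤ T := zpowers_le.2 (hS a ha)
  have hd := dp_comm_inf_C (hn.mono haT) (coprime_of_le hc hV haT) (hR.mono hV)
  have e1 := hd.sdp.card
  rw [C_zpowers] at e1
  have e2 := Finset.card_filter_add_card_filter_not (s := s) fun i => W i ≤ C1 a
  have l1 : 0 < (s.filter fun i => W i ≤ C1 a).card := Finset.card_pos.2 ⟨i, by simp [hi, a1]⟩
  have l2 : 0 < (s.filter fun i => ¬ W i ≤ C1 a).card := Finset.card_pos.2 ⟨j, by simp [hj, a2]⟩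
  have i1 := ih _ (by omega) (s.filter fun i => W i ≤ C1 a) (V ⊓ C1 a) rfl (inf_le_left.trans hV)
    (hn.inf (nrm_C1 (le_C1_iff.2 (hT (hS a ha)))))
    (fun k hk => by
      rw [Finset.mem_filter] at hk
      exact ⟨le_inf (h1 k hk.1).1 hk.2, (h1 k hk.1).2⟩)
    (fun k hk l hl => h2 k (Finset.mem_filter.1 hk).1 l (Finset.mem_filter.1 hl).1)
  have i2 := ih _ (by omega) (s.filter fun i => ¬ W i ≤ C1 a) ⁅V, zpowers a⁆ rfl
    ((hn.mono haT).comm_le_left.trans hV) (hn.commutator (hT.nrm haT))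
    (fun k hk => by
      rw [Finset.mem_filter] at hk
      refine ⟨?_, (h1 k hk.1).2⟩
      obtain ⟨k1, k2, -, k3⟩ := h1 k hk.1
      have := comm_sup_inf_C (k2.mono haT) (coprime_of_le hc (k1.trans hV) haT)
        (Or.inl (solvable_of_ab (hR.mono (k1.trans hV))))
      rw [C_zpowers, (k3 a ha).resolve_left hk.2, sup_bot_eq] at this
      rw [← this]
      exact commutator_mono k1 le_rfl)
    (fun k hk l hl => h2 k (Finset.mem_filter.1 hk).1 l (Finset.mem_filter.1 hl).1)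
  rw [← hs, ← e2, pow_add, ← e1, mul_comm]
  exact Nat.mul_le_mul i2 i1

theorem indep' (hT : Ab T) (hR : Ab R) (hc : (Nat.card R).Coprime (Nat.card T)) (hn : Nrm T R)
    (w : ℕ) (s : Finset G) (hs : ∀ a ∈ s, a ∈ T)
    (h : ∀ x ∈ s, ∀ y ∈ s, x ≠ y → R ⊓ C1 x ⊓ C1 y = ⊥)
    (hw : ∀ x ∈ s, w ≤ Nat.card ↥(R ⊓ C1 x)) : w ^ s.card ≤ Nat.card R := by
  rcases Nat.lt_or_ge 1 w with h1 | h1
  · refine indep hT hR hc (fun x => R ⊓ C1 x) w s hs _ s R rfl le_rfl hn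
      (fun x hx => ⟨inf_le_left, hn.inf (nrm_C1 (le_C1_iff.2 (hT (hs x hx)))), hw x hx,
        fun a ha => ?_⟩) fun x hx y hy hxy => ⟨x, hx, inf_le_right, fun e => ?_⟩
    · by_cases e : x = a
      · exact Or.inl (e ▸ inf_le_right)
      · exact Or.inr (h x hx a ha e)
    · have := h y hy x hx hxy.symm
      rw [inf_eq_left.2 e] at this
      exact one_lt_card.1 (h1.trans_le (hw y hy)) this
  · exact (Nat.pow_le_pow_left h1 _).trans (by rw [one_pow]; exact card_pos R)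

/-- the affine configuration. -/
structure Aff (K R H : Subgroup G) : Prop where
  ab : Ab R
  nr : Nrm H R
  sup : H ⊔ K = ⊤
  fpf : ∀ v ∈ R, v ≠ 1 → H ⊓ C1 v ≤ K
  fai : H ⊓ C R = ⊥
  irr : ∀ W ≤ R, Nrm H W → W = ⊥ ∨ W = R

/-- elements with a fixed vector. -/
def YY (R B : Subgroup G) : Set G := {b | b ∈ B ∧ b ≠ 1 ∧ R ⊓ C1 b ≠ ⊥}

theorem ex_ne (h : S ≠ ⊥) : ∃ x ∈ S, x ≠ 1 := by
  by_contra hc
  push Not at hc
  exact h ((eq_bot_iff_forall _).2 hc)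

theorem ne_bot_of {x : G} (h : x ∈ S) (h1 : x ≠ 1) : S ≠ ⊥ := fun e => h1 (mem_bot.1 (e ▸ h))

theorem conj_ne_one {x : G} (g : G) (h : x ≠ 1) : g * x * g⁻¹ ≠ 1 := by
  simpa using h

theorem Aff.orb [K.Normal] (h : Aff K R H) (hB : B ≤ H ⊓ K) (hn : Nrm H B) {v : G} (hv : v ∈ R)
    (h1 : v ≠ 1) : K.index * Nat.card B ≤ (clSupp {v} H).ncard * Nat.card ↥(B ⊓ C1 v) := by
  rw [ncard_cl]
  exact lemC_le h.sup (hB.trans inf_le_left) (hB.trans inf_le_right) hn (h.fpf v hv h1)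

theorem Aff.count [K.Normal] (h : Aff K R H) (hB : B ≤ H ⊓ K) (hn : Nrm H B) {v : G} (hv : v ∈ R)
    (h1 : v ≠ 1) (hY : (YY R B).Nonempty) : ∃ b ∈ YY R B,
      K.index * Nat.card B * (Nat.card ↥(B ⊓ C1 v) - 1) ≤
        (YY R B).ncard * (Nat.card ↥(R ⊓ C1 b) - 1) * Nat.card ↥(B ⊓ C1 v) := by
  obtain ⟨b, hb, hm⟩ := Set.exists_max_image (YY R B) (fun b => Nat.card ↥(R ⊓ C1 b))
    (Set.toFinite _) hY
  refine ⟨b, hb, ?_⟩
  have := dc (clSupp {v} H) (YY R B) (fun u b => b ∈ C1 u) (m := Nat.card ↥(B ⊓ C1 v) - 1)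
    (n := Nat.card ↥(R ⊓ C1 b) - 1) ?_ ?_
  · calc _ ≤ (clSupp {v} H).ncard * Nat.card ↥(B ⊓ C1 v) * (Nat.card ↥(B ⊓ C1 v) - 1) :=
          Nat.mul_le_mul_right _ (h.orb hB hn hv h1)
      _ = (clSupp {v} H).ncard * (Nat.card ↥(B ⊓ C1 v) - 1) * Nat.card ↥(B ⊓ C1 v) := by ring
      _ ≤ _ := Nat.mul_le_mul_right _ this
  · rintro _ ⟨_, rfl, g, hg, rfl⟩
    rw [← card_cj g, cj_inf, hn.cj_eq hg, cj_C1, ← ncard_sharp]
    refine Set.ncard_le_ncard fun x hx => ⟨⟨hx.1.1, hx.2, ?_⟩, hx.1.2⟩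
    exact ne_bot_of ⟨h.nr g hg _ hv, mem_C1_comm.1 hx.1.2⟩ (conj_ne_one g h1)
  · intro c hc
    refine le_trans ?_ (Nat.sub_le_sub_right (hm c hc) 1)
    rw [← ncard_sharp]
    refine Set.ncard_le_ncard ?_
    rintro _ ⟨⟨_, rfl, g, hg, rfl⟩, hx⟩
    exact ⟨⟨h.nr g hg _ hv, mem_C1_comm.1 hx⟩, conj_ne_one g h1⟩

theorem numB1 (t k : ℕ) : ((k + 2) * t + 2) ^ 2 ≤ 4 * (t + 1) ^ (k + 2) := by
  induction k with
  | zero => apply le_of_eq; ring
  | succ k ih =>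
    calc _ ≤ ((k + 2) * t + 2) ^ 2 * (t + 1) := by
          have : ((k + 2) * t + 2) ^ 2 * (t + 1) = ((k + 1 + 2) * t + 2) ^ 2 +
            ((k + 2) ^ 2 * t ^ 3 + (2 * k + 3) * t ^ 2) := by ring
          omega
      _ ≤ 4 * (t + 1) ^ (k + 2) * (t + 1) := Nat.mul_le_mul_right _ ih
      _ = _ := by ring

theorem Aff.caseB1 [K.Normal] (h : Aff K R H) (hA : A ≤ H ⊓ K) (hn : Nrm H A) (hab : Ab A)
    (hc : (Nat.card R).Coprime (Nat.card A)) (hY : (YY R A).Nonempty) :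
    (K.index + 1) ^ 2 ≤ Nat.card R := by
  classical
  obtain ⟨y, y1, y2, y3⟩ := hY
  obtain ⟨v0, v1, v2⟩ := ex_ne y3
  obtain ⟨v, hv, hm⟩ := Set.exists_max_image (sharp R) (fun v => Nat.card ↥(A ⊓ C1 v))
    (Set.toFinite _) ⟨v0, v1.1, v2⟩
  set A1 := A ⊓ C1 v with hA1
  have hAH := hA.trans inf_le_left
  have hv1 : v ∈ R ⊓ C A1 := ⟨hv.1, le_C1_iff.1 inf_le_right⟩
  have nn : ¬ Nrm H A1 := fun e => by
    rcases h.irr _ inf_le_left (h.nr.inf e.C) with e1 | e1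
    · exact ne_bot_of hv1 hv.2 e1
    · have e2 : A1 ≤ H ⊓ C R := le_inf (inf_le_left.trans hAH) (le_C_symm (e1 ▸ inf_le_right))
      rw [h.fai, le_bot_iff] at e2
      have e3 := hm v0 ⟨v1.1, v2⟩
      rw [e2, card_bot] at e3
      exact absurd (one_lt_card.2 (ne_bot_of (mem_inf.2 ⟨y1, mem_C1_comm.1 v1.2⟩) y2)) (not_lt.2 e3)
  set s : Set (Subgroup G) := {X | ∃ g ∈ H, X = cj g A1} with hs
  have hX : ∀ X ∈ s, X ≤ A ∧ Nat.card X = Nat.card A1 ∧ R ⊓ C X ≠ ⊥ ∧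
      Nat.card ↥(R ⊓ C X) = Nat.card ↥(R ⊓ C A1) := by
    rintro _ ⟨g, hg, rfl⟩
    have e : cj g (R ⊓ C A1) = R ⊓ C (cj g A1) := by rw [cj_inf, h.nr.cj_eq hg, cj_C]
    refine ⟨(cj_mono inf_le_left).trans (hn.cj_eq hg).le, card_cj _ _, ?_, by rw [← e, card_cj]⟩
    rw [← e, ← one_lt_card, card_cj, one_lt_card]
    exact ne_bot_of hv1 hv.2
  have hY : ∀ X ∈ s, ∀ a ∈ A, R ⊓ C X ⊓ C1 a ≠ ⊥ → a ∈ X := fun X hx a ha e => by
    obtain ⟨u, u1, u2⟩ := ex_ne e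
    have e1 : X = A ⊓ C1 u := eq_of_le_of_card_le (le_inf (hX X hx).1 (le_C1_iff.2 u1.1.2))
      ((hX X hx).2.1 ▸ hm u ⟨u1.1.1, u2⟩)
    exact e1 ▸ ⟨ha, mem_C1_comm.1 u1.2⟩
  have nA := h.nr.mono hAH
  have i1 := indep hab h.ab hc (fun X => R ⊓ C X) (Nat.card ↥(R ⊓ C A1)) A (fun _ h => h) _
    (Set.toFinite s).toFinset R rfl le_rfl nA
    (fun X hx => by
      rw [Set.Finite.mem_toFinset] at hx
      refine ⟨inf_le_left, nA.inf (hab.nrm (hX X hx).1).C, (hX X hx).2.2.2.ge, fun a ha => ?_⟩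
      by_cases e : R ⊓ C X ⊓ C1 a = ⊥
      · exact Or.inr e
      · exact Or.inl (inf_le_right.trans (C_le_C1 (hY X hx a ha e))))
    (fun X hx Y hy e => by
      rw [Set.Finite.mem_toFinset] at hx hy
      obtain ⟨a, a1, a2⟩ := SetLike.not_le_iff_exists.1 fun l : X ≤ Y =>
        e (eq_of_le_of_card_eq l ((hX X hx).2.1.trans (hX Y hy).2.1.symm))
      refine ⟨a, (hX X hx).1 a1, inf_le_right.trans (C_le_C1 a1), fun l => a2 (hY Y hy a
        ((hX X hx).1 a1) ?_)⟩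
      rw [inf_eq_left.2 l]
      exact (hX Y hy).2.2.1)
  rw [← Set.ncard_eq_toFinset_card s] at i1
  have i2 := dc (clSupp {v} H) s (fun u X => u ∈ C X) (m := 1)
    (n := Nat.card ↥(R ⊓ C A1) - 1) (by
      rintro _ ⟨_, rfl, g, hg, rfl⟩
      refine (Set.ncard_pos (Set.toFinite _)).2 ⟨cj g A1, ⟨g, hg, rfl⟩, ?_⟩
      rw [← cj_C]
      exact mem_cj'.2 ⟨_, hv1.2, rfl⟩) (fun X hx => by
      rw [← (hX X hx).2.2.2, ← ncard_sharp]
      refine Set.ncard_le_ncard ?_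
      rintro _ ⟨⟨_, rfl, g, hg, rfl⟩, hx⟩
      exact ⟨⟨h.nr g hg _ hv.1, hx⟩, conj_ne_one g hv.2⟩)
  have i3 := h.orb hA hn hv.1 hv.2
  have i4 : 2 * Nat.card A1 ≤ Nat.card A := by
    have e0 : A1 ≤ A := inf_le_left
    have e1 := card_mul_relIndex e0
    have e2 : A1.relIndex A ≠ 1 := fun e => nn (by
      rw [le_antisymm e0 (relIndex_eq_one.1 e)]; exact hn)
    have e3 := relIndex_pos A1 A
    rw [← e1, mul_comm]
    exact Nat.mul_le_mul_left _ (by omega)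
  have i5 : 1 < s.ncard := by
    by_contra e
    refine nn (nrm_of_cj_le fun g hg => le_of_eq ?_)
    exact (Set.ncard_le_one (Set.toFinite _)).1 (not_lt.1 e) _ ⟨g, hg, rfl⟩ _
      ⟨1, one_mem _, (cj_self (one_mem _)).symm⟩
  have i6 : 2 * K.index ≤ (clSupp {v} H).ncard := by
    refine Nat.le_of_mul_le_mul_right (le_trans ?_ i3) (card_pos A1)
    rw [mul_comm 2, mul_assoc]
    exact Nat.mul_le_mul_left _ i4
  obtain ⟨k, hk⟩ : ∃ k, s.ncard = k + 2 := ⟨s.ncard - 2, by omega⟩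
  obtain ⟨t, ht⟩ : ∃ t, Nat.card ↥(R ⊓ C A1) = t + 1 :=
    ⟨_, (Nat.succ_pred_eq_of_pos (card_pos _)).symm⟩
  rw [hk, ht] at i1 i2
  rw [Nat.add_sub_cancel, mul_one] at i2
  have i7 := numB1 t k
  have i8 : (2 * K.index + 2) ^ 2 ≤ ((k + 2) * t + 2) ^ 2 := Nat.pow_le_pow_left (by omega) _
  have i9 : (2 * K.index + 2) ^ 2 = 4 * (K.index + 1) ^ 2 := by ring
  omega

end CfsgH5.Der
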