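import Cfsg.Agent.H5.Der2

set_option autoImplicit false
set_option linter.unusedSectionVars false

/-! The affine case, continued. -/

namespace CfsgH5.Der
open Subgroup CfsgH5 CfsgH6 CfsgFT CfsgFT.B45
open scoped commutatorElement

universe u
variable {G : Type u} [Group G] [Finite G] {K H S B T R W Q A : Subgroup G} {p : ℕ}

theorem inv_of_fpf {t v : G} (hF : Ab W) (ht : t ∈ N W) (h2 : t * t = 1) (hf : W ⊓ C1 t = ⊥)
    (hv : v ∈ W) : t * v * t⁻¹ = v⁻¹ := by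
  have h1 := conj_mem_of_mem_N ht hv
  have h3 : v * (t * v * t⁻¹) ∈ W ⊓ C1 t := ⟨mul_mem hv h1, mem_C1_iff_conj'.2 (by
    calc _ = t * v * t⁻¹ * ((t * t) * v * (t * t)⁻¹) := by group
      _ = _ := by rw [h2, one_mul, inv_one, mul_one, hF.comm h1 hv])⟩
  rw [hf, mem_bot] at h3
  exact (eq_inv_of_mul_eq_one_right h3)

theorem four_le {a b : G} (ha : a ∈ S) (hb : b ∈ S) (a1 : a ≠ 1) (b1 : b ≠ 1) (ab : a ≠ b)
    (a2 : a * a = 1) : 4 ≤ Nat.card S := by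
  classical
  have h1 : ({1, a, b, a * b} : Finset G).card = 4 := by
    have e1 : a * b ≠ 1 := fun e => ab (mul_left_cancel (a2.trans e.symm))
    rw [Finset.card_insert_of_notMem (by simp [a1.symm, b1.symm, e1.symm]),
      Finset.card_insert_of_notMem (by simp [ab, b1]), Finset.card_pair (by simp [a1])]
  rw [← h1, ← Set.ncard_coe_finset, ← SetLike.coe_sort_coe, Nat.card_coe_set_eq]
  refine Set.ncard_le_ncard fun x hx => ?_
  simp only [Finset.coe_insert, Finset.coe_singleton, Set.mem_insert_iff,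
    Set.mem_singleton_iff] at hx
  rcases hx with rfl | rfl | rfl | rfl
  exacts [one_mem S, ha, hb, mul_mem ha hb]

theorem Aff.pw (h : Aff K R H) (hQ : Q ≤ H) (hc : (Nat.card R).Coprime (Nat.card Q))
    (hZ : SemiReg R (Z Q)) {b : G} (hb : b ∈ Q) (s : Finset G)
    (hs : ∀ x ∈ s, x * b⁻¹ ∈ Z Q ∧ ∃ g ∈ Q, x = g * b * g⁻¹) :
    Nat.card ↥(R ⊓ C1 b) ^ s.card ≤ Nat.card R := by
  have hT : zpowers b ⊔ Z Q ≤ Q := sup_le (zpowers_le.2 hb) (Z_le Q)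
  refine indep' ((ab_zpowers b).sup (ab_Z Q) ((zpowers_le.2 hb).trans (le_C_Z Q))) h.ab
    (coprime_of_le hc le_rfl hT) (h.nr.mono (hT.trans hQ)) _ s (fun x hx => ?_)
    (fun x hx y hy e => ?_) fun x hx => ?_
  · rw [← inv_mul_cancel_right x b]
    exact mul_mem (mem_sup_right (hs x hx).1) (mem_sup_left (mem_zpowers b))
  · have e1 : x * y⁻¹ ∈ Z Q := by
      have := mul_mem (hs x hx).1 (inv_mem (hs y hy).1)
      rwa [mul_inv_rev, inv_inv, mul_assoc, inv_mul_cancel_left] at this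
    rw [eq_bot_iff, ← hZ _ e1 (by rwa [Ne, mul_inv_eq_one])]
    exact fun u hu => ⟨hu.1.1, mem_C1_comm.1
      (mul_mem (mem_C1_comm.1 hu.1.2) (inv_mem (mem_C1_comm.1 hu.2)))⟩
  · obtain ⟨-, g, hg, rfl⟩ := hs x hx
    rw [← cj_C1, ← card_cj g, cj_inf, h.nr.cj_eq (hQ hg)]

theorem Aff.sqr (h : Aff K R H) (hQ : Q ≤ H) (hc : (Nat.card R).Coprime (Nat.card Q))
    (hZ : SemiReg R (Z Q)) {b g z : G} (hb : b ∈ Q) (hg : g ∈ Q) (hz : z ∈ Z Q) (z1 : z ≠ 1)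
    (e : g * b * g⁻¹ = z * b) : Nat.card ↥(R ⊓ C1 b) ^ 2 ≤ Nat.card R ∧
      (z * z ≠ 1 → Nat.card ↥(R ⊓ C1 b) ^ 3 ≤ Nat.card R) := by
  classical
  have a0 : b * b⁻¹ ∈ Z Q ∧ ∃ g ∈ Q, b = g * b * g⁻¹ :=
    ⟨by simp, 1, one_mem _, by simp⟩
  have a1 : z * b * b⁻¹ ∈ Z Q ∧ ∃ g ∈ Q, z * b = g * b * g⁻¹ :=
    ⟨by simpa using hz, g, hg, e.symm⟩
  have a2 : z * z * b * b⁻¹ ∈ Z Q ∧ ∃ g ∈ Q, z * z * b = g * b * g⁻¹ :=
    ⟨by simpa using mul_mem hz hz, g * g, mul_mem hg hg, by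
      have := mem_C.1 (Z_le_C Q hz) g hg
      calc _ = z * (g * b * g⁻¹) := by rw [e, mul_assoc]
        _ = g * (z * b) * g⁻¹ := by rw [← mul_assoc, ← mul_assoc, ← this]; group
        _ = _ := by rw [← e]; group⟩
  refine ⟨?_, fun z2 => ?_⟩
  · have := h.pw hQ hc hZ hb {b, z * b} (by simp only [Finset.mem_insert, Finset.mem_singleton]
                                            rintro _ (rfl | rfl); exacts [a0, a1])
    rwa [Finset.card_pair (by simp [z1])] at this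
  · have := h.pw hQ hc hZ hb {b, z * b, z * z * b} (by
      simp only [Finset.mem_insert, Finset.mem_singleton]
      rintro _ (rfl | rfl | rfl); exacts [a0, a1, a2])
    rwa [Finset.card_insert_of_notMem (by simp [z1, z2]),
      Finset.card_pair (by simp [z1])] at this

theorem Aff.gen [K.Normal] (h : Aff K R H) (hB : B ≤ H ⊓ K) (hn : Nrm H B) {v : G} (hv : v ∈ R)
    (h1 : v ≠ 1) (hY : (YY R B).Nonempty) (e f a c : ℕ)
    (h2 : e * Nat.card ↥(B ⊓ C1 v) ≤ f * (Nat.card ↥(B ⊓ C1 v) - 1))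
    (h3 : a * (YY R B).ncard ≤ c * Nat.card B) : ∃ b ∈ YY R B,
      a * e * K.index ≤ c * f * (Nat.card ↥(R ⊓ C1 b) - 1) := by
  obtain ⟨b, hb, h4⟩ := h.count hB hn hv h1 hY
  refine ⟨b, hb, Nat.le_of_mul_le_mul_right ?_ (Nat.mul_pos (card_pos B) (card_pos (B ⊓ C1 v)))⟩
  generalize Nat.card ↥(B ⊓ C1 v) - 1 = s at *
  generalize Nat.card ↥(R ⊓ C1 b) - 1 = t at *
  calc _ = a * K.index * Nat.card B * (e * Nat.card ↥(B ⊓ C1 v)) := by ring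
    _ ≤ a * K.index * Nat.card B * (f * s) := Nat.mul_le_mul_left _ h2
    _ = a * f * (K.index * Nat.card B * s) := by ring
    _ ≤ a * f * ((YY R B).ncard * t * Nat.card ↥(B ⊓ C1 v)) := Nat.mul_le_mul_left _ h4
    _ = a * (YY R B).ncard * (f * t * Nat.card ↥(B ⊓ C1 v)) := by ring
    _ ≤ c * Nat.card B * (f * t * Nat.card ↥(B ⊓ C1 v)) := Nat.mul_le_mul_right _ h3
    _ = _ := by ring

theorem YY_vec {y : G} (hy : y ∈ YY R B) : ∃ v ∈ R ⊓ C1 y, v ≠ 1 ∧ 1 < Nat.card ↥(B ⊓ C1 v) := by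
  obtain ⟨v, v1, v2⟩ := ex_ne hy.2.2
  exact ⟨v, v1, v2, one_lt_card.2 (ne_bot_of (mem_inf.2 ⟨hy.1, mem_C1_comm.1 v1.2⟩) hy.2.1)⟩

theorem fin2 {d w n : ℕ} (h1 : d ≤ w - 1) (h2 : 0 < w) (h3 : w ^ 2 ≤ n) : (d + 1) ^ 2 ≤ n :=
  (Nat.pow_le_pow_left (by omega) _).trans h3

theorem Aff.half [K.Normal] (h : Aff K R H) (hB : B ≤ H ⊓ K) (hn : Nrm H B)
    (hY : (YY R B).Nonempty) (h2 : 2 * (YY R B).ncard ≤ Nat.card B)
    (hw : ∀ b ∈ YY R B, Nat.card ↥(R ⊓ C1 b) ^ 2 ≤ Nat.card R) :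
    (K.index + 1) ^ 2 ≤ Nat.card R := by
  obtain ⟨y, hy⟩ := id hY
  obtain ⟨v, v1, v2, v3⟩ := YY_vec hy
  obtain ⟨b, hb, e⟩ := h.gen hB hn v1.1 v2 hY 1 2 2 1 (by omega) (by omega)
  exact fin2 (by omega) (card_pos _) (hw b hb)

theorem pair_le (a b : G) : ({a, b} : Set G).ncard ≤ 2 :=
  (Set.ncard_insert_le _ _).trans (by rw [Set.ncard_singleton])

theorem ncard_sdiff_two (h : S ≤ B) (h2 : S.relIndex B = 2) :
    ((B : Set G) \ S).ncard = Nat.card S ∧ Nat.card B = 2 * Nat.card S := by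
  have e := card_mul_relIndex h
  rw [h2] at e
  rw [Set.ncard_sdiff h, ← Nat.card_coe_set_eq, ← Nat.card_coe_set_eq]
  simp only [SetLike.coe_sort_coe]
  omega

/-- `2`-groups with a cyclic subgroup of index `2`. -/
theorem Aff.caseB3 [K.Normal] (h : Aff K R H) (hQ : Q ≤ H ⊓ K) (hn : Nrm H Q) (hP : Group.IsNilpotent Q)
    (hc : (Nat.card R).Coprime (Nat.card Q)) (hY : (YY R Q).Nonempty) (hZ : SemiReg R (Z Q))
    (hab : ¬ Ab Q) {x : G} (hx : x ∈ Q) (h2 : (zpowers x).relIndex Q = 2) :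
    (K.index + 1) ^ 2 ≤ Nat.card R := by
  have xQ := zpowers_le.2 hx
  have hm : MaxIn (zpowers x) Q := maxIn_of_prime_relIndex xQ (h2 ▸ Nat.prime_two)
  have hN : Nrm Q (zpowers x) := hm.nrm_of_nilpotent hP
  have hz : ∀ c ∈ zpowers x, c ≠ 1 → ∃ z ∈ zpowers c ⊓ Z Q, z ≠ 1 := fun c hc c1 =>
    ex_ne (inf_Z_ne_bot_of_nilpotent hP ⟨(zpowers_le.2 hc).trans xQ,
      nrm_of_isCyclic inferInstance (zpowers_le.2 hc) hN⟩ (zpowers_ne_bot.2 c1))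
  have hY1 : ∀ b ∈ YY R Q, b ∉ zpowers x := fun b hb e => by
    obtain ⟨z, z1, z2⟩ := hz b e hb.2.1
    refine hb.2.2 (eq_bot_iff.2 ?_)
    rw [← hZ z z1.2 z2]
    exact inf_le_inf_left _ (C1_le_C1_of_mem_zpowers z1.1)
  refine h.half hQ hn hY ?_ fun b hb => ?_
  · obtain ⟨e1, e2⟩ := ncard_sdiff_two xQ h2
    rw [e2, ← e1]
    exact Nat.mul_le_mul_left _ (Set.ncard_le_ncard fun b hb => ⟨hb.1, hY1 b hb⟩)
  · have e1 : b * x⁻¹ * b⁻¹ ∈ zpowers x := hN b hb.1 _ (inv_mem (mem_zpowers x))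
    have e2 : x * (b * x⁻¹ * b⁻¹) ≠ 1 := fun e => hab (by
      rw [← hm.sup_eq (zpowers_le.2 hb.1) fun l => hY1 b hb (l (mem_zpowers b))]
      refine (ab_zpowers x).sup (ab_zpowers b) (zpowers_le.2 ?_)
      rw [C_zpowers, mem_C1_iff_conj]
      calc _ = x * (b * x⁻¹ * b⁻¹) * b := by group
        _ = _ := by rw [e, one_mul])
    obtain ⟨z, ⟨⟨k, rfl⟩, z1⟩, z2⟩ := hz _ (mul_mem (mem_zpowers x) e1) e2
    refine (h.sqr (hQ.trans inf_le_left) hc hZ hb.1 (zpow_mem hx k) z1 z2 ?_).1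
    have : Commute x (b * x⁻¹ * b⁻¹) := (ab_zpowers x).comm (mem_zpowers x) e1
    simp only []
    rw [this.mul_zpow, conj_zpow]
    group

/-- the case `ℓ = 2` with a non fixed point free element in `B`. -/
theorem Aff.caseB4 [K.Normal] (h : Aff K R H) (hB : B ≤ H ⊓ K) (hn : Nrm H B) {z y g0 : G}
    (zB : z ∈ Z B) (z1 : z ≠ 1) (z2 : z * z = 1) (zf : R ⊓ C1 z = ⊥)
    (hd : ∀ a ∈ B, ∀ b ∈ B, a * b * a⁻¹ = b ∨ a * b * a⁻¹ = z * b)
    (h2 : ∀ b ∈ YY R B, b * b = 1) (hw : ∀ b ∈ YY R B, Nat.card ↥(R ⊓ C1 b) ^ 2 ≤ Nat.card R)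
    (hy : y ∈ YY R B) (g1 : g0 ∈ B) (g2 : g0 ∉ C1 y) : (K.index + 1) ^ 2 ≤ Nat.card R := by
  have zB' := Z_le B zB
  have zc : ∀ b ∈ B, b * z = z * b := mem_C.1 (Z_le_C B zB)
  have yz : ∀ b ∈ YY R B, b ≠ z := fun b hb e => hb.2.2 (e ▸ zf)
  have i2 : (B ⊓ C1 y).relIndex B = 2 := by
    have e1 : (C1 y).relIndex B ≤ 2 := by
      rw [← ncard_cl]
      refine le_trans (Set.ncard_le_ncard (t := {y, z * y}) ?_) (pair_le _ _)
      rintro _ ⟨_, rfl, g, hg, rfl⟩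
      exact hd g hg _ hy.1
    have e2 : (C1 y).relIndex B ≠ 1 := fun e => g2 (relIndex_eq_one.1 e g1)
    have e3 := relIndex_pos (C1 y) B
    rw [inf_comm, inf_relIndex_right]
    omega
  obtain ⟨e1, e2⟩ := ncard_sdiff_two inf_le_left i2
  set D := (B : Set G) \ (B ⊓ C1 y : Subgroup G) with hD
  have i3 : 2 * (YY R B ∩ D).ncard ≤ Nat.card ↥(B ⊓ C1 y) := by
    rw [← e1, ← Set.ncard_inter_add_ncard_diff_eq_ncard D (YY R B), Set.inter_comm D, two_mul]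
    refine Nat.add_le_add_left (Set.ncard_le_ncard_of_injOn (t := D \ YY R B) (· * y) (fun b hb => ?_)
      (fun _ _ _ _ e => mul_right_cancel e) (Set.toFinite _)) _
    refine ⟨⟨mul_mem hb.1.1 hy.1,
      fun e => hb.2.2 ⟨hb.1.1, (mul_mem_cancel_right (self_mem_C1 y)).1 e.2⟩⟩, fun e => ?_⟩
    have e3 := (hd b hb.1.1 y hy.1).resolve_left fun e => hb.2.2 ⟨hb.1.1, mem_C1_iff_conj.2 e⟩
    have e4 := h2 _ e
    refine z1 ?_
    calc z = z * (y * y) := by rw [h2 y hy, mul_one]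
      _ = b * y * b⁻¹ * y := by rw [e3, mul_assoc]
      _ = 1 := by rw [← e4, inv_eq_of_mul_eq_one_right (h2 b hb.1)]; group
  have i4 : (YY R B).ncard ≤ (YY R B ∩ (B ⊓ C1 y : Subgroup G)).ncard + (YY R B ∩ D).ncard := by
    refine le_trans (Set.ncard_le_ncard fun b hb => ?_) (Set.ncard_union_le _ _)
    by_cases e : b ∈ B ⊓ C1 y
    · exact Or.inl ⟨hb, e⟩
    · exact Or.inr ⟨hb, hb.1, e⟩
  by_cases h4 : ∃ v ∈ R, v ≠ 1 ∧ 4 ≤ Nat.card ↥(B ⊓ C1 v)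
  · obtain ⟨v, v1, v2, v3⟩ := h4
    have i5 : (YY R B ∩ (B ⊓ C1 y : Subgroup G)).ncard ≤ Nat.card ↥(B ⊓ C1 y) :=
      Set.ncard_le_ncard Set.inter_subset_right
    obtain ⟨b, hb, e⟩ := h.gen hB hn v1 v2 ⟨y, hy⟩ 3 4 4 3 (by omega) (by omega)
    exact fin2 (by omega) (card_pos _) (hw b hb)
  refine h.half hB hn ⟨y, hy⟩ ?_ hw
  have i5 : 4 ≤ Nat.card ↥(B ⊓ C1 y) := four_le ⟨hy.1, self_mem_C1 y⟩
    ⟨zB', mem_C1.2 (zc y hy.1).symm⟩ hy.2.1 z1 (yz y hy) (h2 y hy)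
  have i6 : (YY R B ∩ (B ⊓ C1 y : Subgroup G)).ncard ≤ 2 := by
    refine le_trans (Set.ncard_le_ncard (t := {y, z * y}) fun b hb => ?_) (pair_le _ _)
    by_contra e
    rw [Set.mem_insert_iff, Set.mem_singleton_iff, not_or] at e
    refine h4 ?_
    by_cases e3 : R ⊓ C1 y ⊓ C1 b = ⊥
    · obtain ⟨v, v1, v2, -⟩ := YY_vec hy
      have nb : b ∈ N (R ⊓ C1 y) :=
        ((h.nr.mono (inf_le_left.trans (hB.trans inf_le_left))).inf (Nrm.of_le inf_le_right)).le_N hb.2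
      have e4 := inv_of_fpf (h.ab.mono inf_le_left) nb (h2 b hb.1) e3 v1
      have e5 := inv_of_fpf h.ab (h.nr.le_N (hB zB').1) z2 zf (inv_mem v1.1)
      refine ⟨v, v1.1, v2, four_le (b := z * b) ⟨hy.1, mem_C1_comm.1 v1.2⟩
        ⟨mul_mem zB' hb.1.1, mem_C1_iff_conj.2 ?_⟩ hy.2.1 (fun e6 => yz b hb.1 ?_)
        (fun e6 => e.2 ?_) (h2 y hy)⟩
      · calc _ = z * (b * v * b⁻¹) * z⁻¹ := by group
          _ = _ := by rw [e4, e5, inv_inv]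
      · exact mul_left_cancel (e6.trans z2.symm)
      · rw [e6, ← mul_assoc, z2, one_mul]
    · obtain ⟨v, v1, v2⟩ := ex_ne e3
      exact ⟨v, v1.1.1, v2, four_le ⟨hy.1, mem_C1_comm.1 v1.1.2⟩ ⟨hb.1.1, mem_C1_comm.1 v1.2⟩
        hy.2.1 hb.1.2.1 (Ne.symm e.1) (h2 y hy)⟩
  omega

theorem Aff.caseB [K.Normal] (h : Aff K R H) (hp : p.Prime) (hQ : Q ≤ H ⊓ K) (hn : Nrm H Q)
    (hP : IsPGroup p Q) (hc : (Nat.card R).Coprime (Nat.card Q)) (hY : (YY R Q).Nonempty) :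
    (K.index + 1) ^ 2 ≤ Nat.card R := by
  by_contra hcon
  have hB1 : ∀ A ≤ Q, Nrm H A → Ab A → ¬ (YY R A).Nonempty := fun A h1 h2 h3 h4 =>
    hcon (h.caseB1 (h1.trans hQ) h2 h3 (coprime_of_le hc le_rfl h1) h4)
  have hZ : SemiReg R (Z Q) := fun z z1 z2 => by
    by_contra e
    exact hB1 _ (Z_le Q) hn.Z (ab_Z Q) ⟨z, z1, z2, e⟩
  have hQH := hQ.trans inf_le_left
  have := Fact.mk hp
  set Z0 := Om1 p (Z Q) with hZ0
  have mZ : ∀ {x}, x ∈ Z0 ↔ x ∈ Z Q ∧ x ^ p = 1 := mem_Om1_of_ab (ab_Z Q)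
  set B := Q ⊓ CM Q Z0 with hB
  have BQ : B ≤ Q := inf_le_left
  have nB : Nrm H B := hn.inf (nrm_CM hn (hn.Z.Om1 p))
  have nZ : Nrm Q Z0 := (hn.Z.Om1 p).mono hQH
  have cB : ∀ b ∈ B, ∀ g ∈ Q, g * b * g⁻¹ * b⁻¹ ∈ Z0 := fun b hb g hg => by
    have := inv_mem ((mem_CM.1 hb.2).2 g hg)
    rwa [commutatorElement_inv, commutatorElement_def] at this
  have mB : ∀ b ∈ Q, (∀ g ∈ Q, g * b * g⁻¹ * b⁻¹ ∈ Z0) → b ∈ B := fun b hb e =>
    ⟨hb, mem_CM.2 ⟨nZ.le_N hb, fun g hg => by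
      have := inv_mem (e g hg)
      rwa [← commutatorElement_def, commutatorElement_inv] at this⟩⟩
  by_cases hYB : (YY R B).Nonempty
  swap
  · have hab : ¬ Ab Q := fun e => hB1 Q le_rfl hn e hY
    have hno : ¬ CfsgH8.HasNormalPP p Q := by
      rintro ⟨z, a, z1, z2, a1, a2, a3⟩
      have z3 : (z : G) ∈ Z Q := by rw [Z_eq_map_center]; exact ⟨z, z1, rfl⟩
      have z4 : (z : G) ∈ Z0 := mZ.2 ⟨z3, by rw [← coe_pow, ← z2, pow_orderOf_eq_one, coe_one]⟩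
      have zz : zpowers (z : G) ≤ C (zpowers (a : G)) :=
        (zpowers_le.2 (Z_le_C Q z3)).trans (C_anti (zpowers_le.2 a.2))
      have hA : zpowers (z : G) ⊔ zpowers (a : G) ≤ B := by
        refine sup_le (zpowers_le.2 (mB _ z.2 fun g hg => ?_)) (zpowers_le.2 (mB _ a.2 fun g hg => ?_))
        · rw [mem_C.1 (Z_le_C Q z3) g hg]; simp
        · obtain ⟨k, hk⟩ := a3 ⟨g, hg⟩
          have := congrArg Subtype.val hk
          simp only [coe_mul, coe_inv, coe_zpow] at this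
          exact this ▸ zpow_mem z4 k
      obtain ⟨b, b1, b2, b3⟩ := exists_inf_C1_ne_bot ((ab_zpowers _).sup (ab_zpowers _) zz)
        (fun e => a2 (by
          have := mem_of_isCyclic_of_pow e le_sup_left (mem_sup_right (mem_zpowers (a : G))) (by
            rw [Nat.card_zpowers, orderOf_coe, z2, ← coe_pow, a1, coe_one])
          obtain ⟨k, hk⟩ := this
          exact ⟨k, Subtype.ext (by simpa using hk)⟩))
        (h.nr.mono (hA.trans (BQ.trans hQH))) (coprime_of_le hc le_rfl (hA.trans BQ))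
        (fun e => by obtain ⟨y, hy⟩ := hY; exact hy.2.2 (by rw [e, bot_inf_eq]))
      exact hYB ⟨b, hA b1, b2, b3⟩
    rcases CfsgH8.structure_of_not_hasNormalPP hP hno with e | ⟨-, n, x, y, -, -, e, -⟩
    · exact hab (ab_of_isCyclic e)
    · refine hcon (h.caseB3 hQ hn (nilpotent_of_isPGroup hp hP) hc hY hZ hab x.2 ?_)
      rw [← e, relIndex]
      congr 1
      ext a
      simp only [mem_subgroupOf, mem_zpowers_iff, Subtype.ext_iff, coe_zpow]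
  have hs : ∀ b ∈ YY R B, ∃ g ∈ Q, ∃ z ∈ Z0, z ≠ 1 ∧ g * b * g⁻¹ = z * b := fun b hb => by
    by_contra e
    push Not at e
    refine hb.2.2 (hZ b ⟨BQ hb.1, mem_C.2 fun g hg => ?_⟩ hb.2.1)
    by_contra e2
    refine e g hg _ (cB b hb.1 g hg) (fun e3 => e2 ?_) (by group)
    calc _ = g * b * g⁻¹ * b⁻¹ * (b * g) := by group
      _ = _ := by rw [e3, one_mul]
  have hw : ∀ b ∈ YY R B, Nat.card ↥(R ⊓ C1 b) ^ 2 ≤ Nat.card R ∧
      (p ≠ 2 → Nat.card ↥(R ⊓ C1 b) ^ 3 ≤ Nat.card R) := fun b hb => by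
    obtain ⟨g, hg, z, z1, z2, e⟩ := hs b hb
    have := h.sqr hQH hc hZ (BQ hb.1) hg (mZ.1 z1).1 z2 e
    refine ⟨this.1, fun h2 => this.2 fun e2 => h2 ?_⟩
    have e3 := orderOf_eq_prime (mZ.1 z1).2 z2
    have := Fact.mk Nat.prime_two
    exact e3.symm.trans (orderOf_eq_prime (by rw [sq, e2]) z2)
  by_cases h2 : p = 2
  swap
  · obtain ⟨y, hy⟩ := id hYB
    obtain ⟨v, v1, v2, v3⟩ := YY_vec hy
    have e1 := Nat.le_of_dvd (card_pos _) (prime_dvd_card_of_isPGroup hp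
      (hP.to_le (inf_le_left.trans BQ : B ⊓ C1 v ≤ Q)) (one_lt_card.1 v3))
    have e2 := hp.two_le
    obtain ⟨b, hb, e⟩ := h.gen (BQ.trans hQ) nB v1.1 v2 hYB 2 3 1 1 (by omega)
      (Nat.mul_le_mul_left _ (Set.ncard_le_ncard (s := YY R B) (t := B) (fun b hb => hb.1)
        (Set.toFinite _)))
    have e3 := (hw b hb).2 h2
    obtain ⟨t, ht⟩ : ∃ t, Nat.card ↥(R ⊓ C1 b) = t + 1 :=
      ⟨_, (Nat.succ_pred_eq_of_pos (card_pos _)).symm⟩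
    rw [ht] at e e3
    rw [Nat.add_sub_cancel] at e
    have i7 : ((1 + 2) * t + 2) ^ 2 ≤ 4 * (t + 1) ^ 3 := by exact_mod_cast numB1 t 1
    have i8 : (2 * K.index + 2) ^ 2 ≤ ((1 + 2) * t + 2) ^ 2 := Nat.pow_le_pow_left (by omega) _
    have i9 : (2 * K.index + 2) ^ 2 = 4 * (K.index + 1) ^ 2 := by ring
    exact hcon (by omega)
  subst h2
  obtain ⟨y, hy, yZ⟩ : ∃ y ∈ YY R B, y ∉ Z B := by
    by_contra e
    push Not at e
    obtain ⟨y, hy⟩ := hYB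
    exact hB1 _ ((Z_le B).trans BQ) nB.Z (ab_Z B) ⟨y, e y hy, hy.2⟩
  obtain ⟨g0, g1, g2⟩ : ∃ g ∈ B, g ∉ C1 y := by
    by_contra e
    push Not at e
    exact yZ ⟨hy.1, le_C1_iff.1 e⟩
  obtain ⟨-, -, z, z1, z2, -⟩ := hs y hy
  have zi : ∀ z ∈ Z0, z ≠ 1 → ∀ v ∈ R, z * v * z⁻¹ = v⁻¹ := fun z z1 z2 v hv =>
    inv_of_fpf h.ab (h.nr.le_N (hQH (Z_le Q (mZ.1 z1).1))) (by rw [← sq, (mZ.1 z1).2])
      (hZ z (mZ.1 z1).1 z2) hv
  have zu : ∀ x ∈ Z0, x = 1 ∨ x = z := fun x hx => by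
    refine or_iff_not_imp_left.2 fun x1 => ?_
    have : z⁻¹ * x ∈ H ⊓ C R := ⟨hQH (Z_le Q (mZ.1 (mul_mem (inv_mem z1) hx)).1),
      mem_C.2 fun v hv => by
        calc _ = z⁻¹ * (z * v * z⁻¹) * x := by group
          _ = _ := by rw [zi z z1 z2 v hv, ← zi x hx x1 v hv]; group⟩
    rw [h.fai, mem_bot, inv_mul_eq_one] at this
    exact this.symm
  have zq := (mZ.1 z1).1
  have zz : z * z = 1 := by rw [← sq, (mZ.1 z1).2]
  have zc := mem_C.1 (Z_le_C Q zq)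
  have hd : ∀ a ∈ Q, ∀ b ∈ B, a * b * a⁻¹ = b ∨ a * b * a⁻¹ = z * b := fun a ha b hb =>
    (zu _ (cB b hb a ha)).imp (fun e => mul_inv_eq_one.1 e) fun e => by rw [← e]; group
  refine hcon (h.caseB4 (BQ.trans hQ) nB ⟨mB z (Z_le Q zq) fun g hg => by rw [zc g hg]; simp,
    C_anti BQ (Z_le_C Q zq)⟩ z2 zz (hZ z zq z2) (fun a ha => hd a (BQ ha)) (fun b hb => ?_)
    (fun b hb => (hw b hb).1) hy g1 g2)
  by_contra e
  have e1 : b * b ∈ Z Q := ⟨mul_mem (BQ hb.1) (BQ hb.1), mem_C.2 fun g hg => by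
    have : g * b * g⁻¹ * (g * b * g⁻¹) = b * b := by
      rcases hd g hg b hb.1 with e | e <;> rw [e]
      rw [mul_assoc, ← mul_assoc b, zc b (BQ hb.1), ← mul_assoc, ← mul_assoc, zz, one_mul]
    calc _ = g * b * g⁻¹ * (g * b * g⁻¹) * g := by group
      _ = _ := by rw [this]⟩
  refine hb.2.2 (eq_bot_iff.2 ?_)
  rw [← hZ _ e1 e, ← sq]
  exact inf_le_inf_left _ (C1_le_C1_pow b 2)

end CfsgH5.Der
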