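import Cfsg.Agent.H5.Der2
import Cfsg.Agent.L.Char7

set_option autoImplicit false
set_option linter.unusedSectionVars false

/-! A permutation group of rank at least `3` with a regular abelian subgroup that is the centralizer
of each of its non-identity elements normalizes that subgroup. -/

namespace CfsgH5.Der
open Subgroup CfsgH5 CfsgH6 CfsgFT Cfsg CfsgL MulAction
open scoped ComplexConjugate

universe u
variable {G : Type u} [Group G] [Fintype G] {R : Subgroup G}

open Classical in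
theorem sum_TI [Fintype R] (hT : ∀ a ∈ sharp R, ∀ g : G, g * a * g⁻¹ ∈ sharp R → g ∈ N R)
    {F : G → ℂ} (hF : IsClassFunction G F) :
    ∑ g ∈ Finset.univ.filter (· ∉ clSupp (sharp R) ⊤), F g =
      ∑ g, F g - (N R).index * (∑ z : R, F z - F 1) := by
  let θ : N R → ℂ := fun h => if (h : G) ∈ sharp R then 1 else 0
  have hθ : IsClassFunction (N R) θ := fun g h => by
    refine if_congr ⟨fun e => ⟨?_, fun e1 => e.2 (by simp [e1])⟩,
      fun e => ⟨conj_mem_of_mem_N h.2 e.1, conj_ne_one _ e.2⟩⟩ rfl rfl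
    have := conj_mem_of_mem_N (inv_mem h.2) e.1
    simpa [mul_assoc] using this
  have hφ : ∀ g, indFun (N R) θ g = if g ∈ clSupp (sharp R) ⊤ then 1 else 0 := fun g => by
    split_ifs with h
    · obtain ⟨a, ha, x, -, rfl⟩ := h
      rw [indFun_class, indFun_apply_of_TI (N R) (sharp R) hT hθ (fun h e => if_neg e)
        ⟨a, le_N R ha.1⟩ ha]
      exact if_pos ha
    · exact indFun_eq_zero _ _ _ fun x hx => if_neg fun e => h ⟨_, e, x, mem_top _, by group⟩
  have h1 := inner_indFun_left (N R) θ (class_conj hF)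
  simp only [classInner, Complex.conj_conj, hφ] at h1
  have h2 : ∑ h : N R, θ h * F h = ∑ z : R, F z - F 1 := by
    rw [← Finset.sum_subtype (Finset.univ.filter (· ∈ N R)) (by simp)
      fun g => (if g ∈ sharp R then 1 else 0) * F g,
      ← Finset.sum_subtype (Finset.univ.filter (· ∈ R)) (by simp) F,
      ← Finset.add_sum_erase _ F (a := 1) (by simp), add_sub_cancel_left]
    simp only [ite_mul, one_mul, zero_mul]
    rw [← Finset.sum_filter]
    refine Finset.sum_congr ?_ fun _ _ => rfl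
    ext x
    simp only [Finset.mem_filter, Finset.mem_univ, true_and, Finset.mem_erase, sharp,
      Set.mem_setOf_eq]
    exact ⟨fun e => ⟨e.2.2, e.2.1⟩, fun e => ⟨le_N R e.2, e.2, e.1⟩⟩
  simp only [ite_mul, one_mul, zero_mul] at h1
  rw [h2, ← Finset.sum_filter, ← (N R).card_mul_index, Nat.cast_mul] at h1
  rw [← Finset.sum_filter_add_sum_filter_not Finset.univ (· ∈ clSupp (sharp R) ⊤) F]
  have p1 : (Nat.card (N R) : ℂ) ≠ 0 := by exact_mod_cast card_ne_zero _
  have p2 : ((N R).index : ℂ) ≠ 0 := by exact_mod_cast index_ne_zero_of_finite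
  field_simp at h1
  rw [h1]; ring

theorem deg_le_norm {A : Type u} [Group A] [Fintype A] [IsMulCommutative A] {θ : A → ℂ}
    (h : IsCharacter A θ) {m n : ℕ} (h1 : θ 1 = n) (h2 : classInner θ θ = m) : n ≤ m := by
  obtain ⟨a, -, a2, a3⟩ := char_coords h
  have e1 : n = ∑ χ, a χ := by
    have := congrFun a2 1
    simp only [Finset.sum_apply, Pi.smul_apply, smul_eq_mul, fun χ : IrrCharacter A =>
      irr_deg_one_of_comm χ.2, mul_one, h1] at this
    exact_mod_cast this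
  have e2 : m = ∑ χ, a χ ^ 2 := by exact_mod_cast h2.symm.trans a3
  rw [e1, e2]
  exact Finset.sum_le_sum fun χ _ => Nat.le_self_pow two_ne_zero _

theorem dvd_deg {L : Type u} [Group L] [Fintype L] {K : Subgroup L} [K.Normal] [Fintype K]
    (hF : CentClosed K) {θ : L → ℂ} (h : IsCharacter L θ) :
    ∃ m n : ℕ, ∑ z : K, θ z = m ∧ θ 1 = n ∧ (m = 0 → K.index ∣ n) := by
  refine char_induction (P := fun θ : L → ℂ => ∃ m n : ℕ, ∑ z : K, θ z = m ∧ θ 1 = n ∧
    (m = 0 → K.index ∣ n)) ⟨0, 0, by simp, by simp, by simp⟩ ?_ ?_ h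
  · rintro a b ⟨m, n, h1, h2, h3⟩ ⟨m', n', h1', h2', h3'⟩
    exact ⟨m + m', n + n', by simp [Finset.sum_add_distrib, h1, h1'], by simp [h2, h2'],
      fun e => dvd_add (h3 (by omega)) (h3' (by omega))⟩
  · intro ψ hψ
    obtain ⟨n, n0, hn⟩ := irr_deg_pos hψ
    by_cases e : K ≤ charKer ψ
    · exact ⟨Nat.card K * n, n, by rw [sum_of_le_charKer K e, hn, Nat.cast_mul], hn,
        fun e => absurd e (Nat.mul_pos (card_pos K) n0).ne'⟩
    · refine ⟨0, n, ?_, hn, fun _ => ⟨relDeg K ψ, ?_⟩⟩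
      · by_contra e2
        exact e (le_charKer_of_sum_ne_zero K hψ (by simpa using e2))
      · exact_mod_cast hn.symm.trans (relDeg_spec hF hψ e).1

theorem caseA {Ω : Type*} [MulAction G Ω] [FaithfulSMul G Ω] [Finite Ω] (hab : Ab R)
    (hfix : ∀ z ∈ R, z ≠ 1 → ∀ ω : Ω, z • ω ≠ ω) (hcard : Nat.card R = Nat.card Ω)
    (hC : ∀ z ∈ R, z ≠ 1 → C1 z ≤ R) (h3 : 3 ≤ Nat.card (orbitRel.Quotient G (Ω × Ω))) :
    N R = ⊤ := by
  classical
  have hT : ∀ a ∈ sharp R, ∀ g : G, g * a * g⁻¹ ∈ sharp R → g ∈ N R := fun a ha g hg => by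
    refine mem_N_of_cj_le (le_trans ?_ (hC _ hg.1 hg.2))
    rw [← cj_C1]
    exact cj_mono (le_C1_iff.2 (hab ha.1))
  set p : G → ℕ := fun g => Nat.card (fixedBy Ω g) with hp
  have hπ : IsCharacter G fun g => (p g : ℂ) := char_perm Ω
  obtain ⟨a, a1, a2, a3⟩ := char_coords hπ
  have a4 : ∀ g, (p g : ℂ) = ∑ χ : IrrCharacter G, a χ * (χ : G → ℂ) g := fun g => by
    simpa using congrFun a2 g
  have p1 : p 1 = Nat.card R := by rw [hcard]; simp [hp]
  have hreg : (fun z : R => (p z : ℂ)) = regChar R := by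
    ext z
    by_cases e : z = 1
    · simp [regChar, e, p1]
    · have : IsEmpty (fixedBy Ω (z : G)) := ⟨fun ω => hfix z z.2 (by simpa using e) ω ω.2⟩
      simp only [regChar, e, hp, if_false, Nat.card_of_isEmpty, Nat.cast_zero]
  choose f f0 f1 using fun χ : IrrCharacter G => irr_deg_pos χ.2
  choose m hm using fun χ ψ : IrrCharacter G =>
    char_inner_nat (char_restrict R (irr_isChar χ.2)) (char_restrict R (irr_isChar ψ.2))
  have k1 : ∀ χ, ∑ ψ, a ψ * m χ ψ = f χ := fun χ => by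
    have := inner_reg_right fun z : R => (χ : G → ℂ) z
    have e : (fun z : R => (p z : ℂ)) =
        ∑ ψ : IrrCharacter G, (a ψ : ℂ) • fun z : R => (ψ : G → ℂ) z := by
      ext z; simp [a4]
    rw [← hreg, e, CfsgL.inner_sum_right] at this
    simp only [CfsgL.inner_smul_right, hm, coe_one, f1, map_natCast] at this
    exact_mod_cast this
  have := ab_iff_isMulCommutative.1 hab
  have k2 : ∀ χ, a χ ≠ 0 → a χ = 1 ∧ m χ χ = f χ ∧ ∀ ψ, ψ ≠ χ → a ψ ≠ 0 → m χ ψ = 0 :=
    fun χ h0 => by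
    have e1 := deg_le_norm (char_restrict R (irr_isChar χ.2)) (f1 χ) (hm χ χ)
    have e2 := k1 χ
    rw [← Finset.add_sum_erase _ _ (Finset.mem_univ χ)] at e2
    have e3 : m χ χ ≤ a χ * m χ χ := Nat.le_mul_of_pos_left _ (Nat.pos_of_ne_zero h0)
    have e4 := f0 χ
    refine ⟨Nat.eq_of_mul_eq_mul_right (m := m χ χ) (by omega) (by omega), by omega,
      fun ψ h1 h2 => ?_⟩
    have := Finset.single_le_sum (f := fun ψ => a ψ * m χ ψ) (fun _ _ => Nat.zero_le _)
      (Finset.mem_erase.2 ⟨h1, Finset.mem_univ ψ⟩)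
    exact (Nat.mul_eq_zero.1 (by omega : a ψ * m χ ψ = 0)).resolve_left h2
  set o : IrrCharacter G := ⟨_, irr_one⟩ with ho
  have ao : a o ≠ 0 := fun e => by
    have := a1 o
    rw [e] at this
    simp only [classInner, ho, map_one, mul_one, Nat.cast_zero, mul_eq_zero, inv_eq_zero] at this
    refine this.elim card_ne_zero' fun e => ?_
    have e2 : ∑ g, p g = 0 := by exact_mod_cast e
    exact (card_pos R).ne' (p1 ▸ Finset.sum_eq_zero_iff.1 e2 1 (Finset.mem_univ _))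
  have fo : f o = 1 := by
    have : ((f o : ℕ) : ℂ) = 1 := (f1 o).symm
    exact_mod_cast this
  set I := Finset.univ.filter fun χ : IrrCharacter G => χ ≠ o ∧ a χ ≠ 0 with hI
  have mI : ∀ {χ}, χ ∈ I ↔ χ ≠ o ∧ a χ ≠ 0 := by simp [hI]
  have sI : ∀ {M : Type} [CommSemiring M] (F : IrrCharacter G → M),
      ∑ χ, a χ * F χ = F o + ∑ χ ∈ I, F χ := fun F => by
    rw [← Finset.add_sum_erase _ _ (Finset.mem_univ o), (k2 o ao).1, Nat.cast_one, one_mul]
    congr 1
    rw [← Finset.sum_subset (s₁ := I) (fun χ h => by simp [(mI.1 h).1])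
      fun χ h1 h2 => by rw [mI, not_and, not_not] at h2; simp [h2 (Finset.mem_erase.1 h1).1]]
    exact Finset.sum_congr rfl fun χ h => by simp [(k2 χ (mI.1 h).2).1]
  have t2 : 1 < I.card := by
    have e1 := burnside_nat (G := G) (Ω := Ω × Ω)
    simp only [card_fixedBy_prod] at e1
    have e2 := sum_mul_conj_eq (fun g => (p g : ℂ)) fun g => (p g : ℂ)
    simp only [map_natCast, a3] at e2
    have e3 : ∑ g, p g * p g = Nat.card G * ∑ χ, a χ ^ 2 := by exact_mod_cast e2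
    have e4 := sI (M := ℕ) a
    rw [Finset.sum_congr rfl fun χ h => (k2 χ (mI.1 h).2).1, (k2 o ao).1] at e4
    simp only [Nat.cast_id, ← sq, Finset.sum_const, smul_eq_mul, mul_one] at e4
    rw [e1, e4, mul_comm] at e3
    have := Nat.eq_of_mul_eq_mul_left Nat.card_pos e3
    omega
  obtain ⟨e, he⟩ : ∃ e, e = R.relIndex (N R) := ⟨_, rfl⟩
  obtain ⟨c, hc⟩ : ∃ c, c = (N R).index := ⟨_, rfl⟩
  obtain ⟨q, hq⟩ : ∃ q, q = Nat.card R := ⟨_, rfl⟩
  have hG : Nat.card G = q * e * c := by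
    rw [hq, he, hc, card_mul_relIndex (le_N R), card_mul_index]
  have e0 : 0 < e := he ▸ relIndex_pos _ _
  have c0 : 0 < c := hc ▸ Nat.pos_of_ne_zero index_ne_zero_of_finite
  have q0 : 0 < q := hq ▸ card_pos R
  have ef : ∀ χ ∈ I, e ≤ f χ := fun χ h => by
    have := (nrm_N R).normal_subgroupOf
    obtain ⟨x, y, h1, h2, h4⟩ := dvd_deg (K := R.subgroupOf (N R)) (fun k hk k1 g hg =>
      hC k hk (by simpa using k1) (mem_C1.2 (congrArg Subtype.val hg)))
      (char_restrict (N R) (irr_isChar χ.2))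
    have e1 : y = f χ := by exact_mod_cast h2.symm.trans (f1 χ)
    refine Nat.le_of_dvd (f0 χ) (he ▸ e1 ▸ h4 ?_)
    have e2 := sum_mul_conj_eq (fun z : R => (χ : G → ℂ) z) fun z : R => (o : G → ℂ) z
    rw [hm, (k2 χ (mI.1 h).2).2.2 o (mI.1 h).1.symm ao] at e2
    simp only [ho, map_one, mul_one, Nat.cast_zero, mul_zero] at e2
    exact_mod_cast h1.symm.trans ((Fintype.sum_equiv (subgroupOfEquivOfLe (le_N R)).toEquiv _
      (fun z : R => (χ : G → ℂ) z) fun _ => rfl).trans e2)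
  set U := Finset.univ.filter (· ∉ clSupp (sharp R) ⊤) with hU
  have hT2 : ∀ χ ψ : IrrCharacter G, ∑ g ∈ U, (χ : G → ℂ) g * conj ((ψ : G → ℂ) g) =
      q * e * c * (if χ = ψ then 1 else 0) - c * (q * m χ ψ - f χ * f ψ) := fun χ ψ => by
    have := sum_TI hT (class_mul (Irr_class χ) (class_conj (Irr_class ψ)))
    simp only [Pi.mul_apply] at this
    rw [this, sum_mul_conj_eq, inner_Irr,
      sum_mul_conj_eq (fun z : R => (χ : G → ℂ) z) fun z : R => (ψ : G → ℂ) z, hm, f1, f1, hG, ← hc,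
      ← hq]
    simp
  have key : ∀ χ ∈ I, ∀ ψ ∈ I, χ ≠ ψ → f χ = e ∧ ∀ g ∈ U, (χ : G → ℂ) g = (ψ : G → ℂ) g :=
    fun χ h1 ψ h2 hne => by
    obtain ⟨x, hx⟩ := Nat.exists_eq_add_of_le (ef χ h1)
    obtain ⟨y, hy⟩ := Nat.exists_eq_add_of_le (ef ψ h2)
    have e1 : ((∑ g ∈ U, Complex.normSq (f ψ * (χ : G → ℂ) g - f χ * (ψ : G → ℂ) g) +
        (c * q * (f ψ ^ 2 * x + f χ ^ 2 * y) : ℕ) : ℝ) : ℂ) = 0 := by
      have : ∀ g, ((Complex.normSq (f ψ * (χ : G → ℂ) g - f χ * (ψ : G → ℂ) g) : ℝ) : ℂ) =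
          f ψ ^ 2 * ((χ : G → ℂ) g * conj ((χ : G → ℂ) g)) +
          f χ ^ 2 * ((ψ : G → ℂ) g * conj ((ψ : G → ℂ) g)) -
          f χ * f ψ * ((χ : G → ℂ) g * conj ((ψ : G → ℂ) g)) -
          f χ * f ψ * ((ψ : G → ℂ) g * conj ((χ : G → ℂ) g)) := fun g => by
        rw [← Complex.mul_conj]
        simp only [map_sub, map_mul, map_natCast]
        ring
      push_cast
      simp only [this, Finset.sum_sub_distrib, Finset.sum_add_distrib, ← Finset.mul_sum, hT2,
        if_true, hne, hne.symm, if_false, (k2 χ (mI.1 h1).2).2.1, (k2 ψ (mI.1 h2).2).2.1,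
        (k2 χ (mI.1 h1).2).2.2 ψ hne.symm (mI.1 h2).2, (k2 ψ (mI.1 h2).2).2.2 χ hne (mI.1 h1).2]
      rw [hx, hy]
      push_cast
      ring
    have e2 := Finset.sum_nonneg fun g (_ : g ∈ U) =>
      Complex.normSq_nonneg (f ψ * (χ : G → ℂ) g - f χ * (ψ : G → ℂ) g)
    obtain ⟨e3, e4⟩ := (add_eq_zero_iff_of_nonneg e2 (Nat.cast_nonneg _)).1
      (Complex.ofReal_eq_zero.1 e1)
    have e5 := f0 χ
    have e6 := f0 ψ
    simp only [Nat.cast_eq_zero, mul_eq_zero, c0.ne', q0.ne', false_or, Nat.add_eq_zero_iff,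
      pow_eq_zero_iff', e5.ne', e6.ne', false_and] at e4
    refine ⟨by omega, fun g hg => ?_⟩
    have := Complex.normSq_eq_zero.1 ((Finset.sum_eq_zero_iff_of_nonneg fun g _ =>
      Complex.normSq_nonneg _).1 e3 g hg)
    rw [show f χ = f ψ by omega, ← mul_sub, mul_eq_zero] at this
    exact sub_eq_zero.1 (this.resolve_left (by exact_mod_cast e6.ne'))
  obtain ⟨χ, h1, ψ, h2, hne⟩ := Finset.one_lt_card.1 t2
  have pU : ∀ g ∈ U, (p g : ℂ) - 1 = I.card * (χ : G → ℂ) g := fun g hg => by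
    rw [a4, sI, Finset.sum_congr rfl (g := fun _ => (χ : G → ℂ) g) fun φ h => by
      by_cases e : φ = χ
      · rw [e]
      · exact (key φ h χ h1 e).2 g hg]
    simp [ho]
  have U1 : (1 : G) ∈ U := Finset.mem_filter.2 ⟨Finset.mem_univ _, fun e => (one_mem_clSupp.1 e).2 rfl⟩
  have t0 : (I.card : ℂ) ≠ 0 := by exact_mod_cast (by omega : I.card ≠ 0)
  have pos : ∀ g ∈ U, 1 ≤ p g := fun g hg => by
    by_contra e
    have e1 := pU g hg
    rw [show p g = 0 by omega] at e1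
    have := nat_dvd_of_isIntegral_div (a := 1) (b := I.card) (by omega) (by
      have : ((1 : ℕ) : ℂ) / I.card = - (χ : G → ℂ) g := by
        field_simp
        rw [← e1]; simp
      exact this ▸ (char_isIntegral (irr_isChar χ.2) g).neg)
    have := Nat.dvd_one.1 this
    omega
  have fχ := (key χ h1 ψ h2 hne).1
  have fψ := (key ψ h2 χ h1 hne.symm).1
  have s1 : ∑ g ∈ U, (χ : G → ℂ) g = c * e := by
    have := hT2 χ o
    rw [if_neg (mI.1 h1).1, (k2 χ (mI.1 h1).2).2.2 o (mI.1 h1).1.symm ao, fo, fχ] at this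
    simpa [ho] using this
  have s2 := hT2 χ ψ
  rw [if_neg hne, (k2 χ (mI.1 h1).2).2.2 ψ hne.symm (mI.1 h2).2, fχ, fψ] at s2
  have pq : ∀ g, p g ≤ q := fun g => by
    rw [hq, hcard]; exact Finite.card_subtype_le _
  have s3 : ∑ g ∈ U, (p g - 1) * (q - p g) = 0 := by
    have e1 := pU 1 U1
    rw [p1, ← hq, f1, fχ] at e1
    have : ((∑ g ∈ U, (p g - 1) * (q - p g) : ℕ) : ℂ) = I.card ^ 2 * (e * ∑ g ∈ U, (χ : G → ℂ) g -
        ∑ g ∈ U, (χ : G → ℂ) g * conj ((ψ : G → ℂ) g)) := by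
      rw [Finset.mul_sum, ← Finset.sum_sub_distrib, Finset.mul_sum, Nat.cast_sum]
      refine Finset.sum_congr rfl fun g hg => ?_
      have e2 := pU g hg
      have e3 := congrArg conj e2
      rw [(key χ h1 ψ h2 hne).2 g hg] at e3
      simp only [map_sub, map_natCast, map_one, map_mul] at e3
      rw [Nat.cast_mul, Nat.cast_sub (pos g hg), Nat.cast_sub (pq g), Nat.cast_one]
      linear_combination (q - p g : ℂ) * e2 + I.card * (χ : G → ℂ) g * (e1 - e3)
    rw [s1, s2] at this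
    have e2 : ((∑ g ∈ U, (p g - 1) * (q - p g) : ℕ) : ℂ) = 0 := by rw [this]; push_cast; ring
    exact_mod_cast e2
  have s4 : ∑ g ∈ U, (χ : G → ℂ) g = e := by
    rw [Finset.sum_eq_single_of_mem 1 U1 fun g hg g1 => ?_, f1, fχ]
    have e1 := Finset.sum_eq_zero_iff.1 s3 g hg
    have e2 : p g < q := by
      refine lt_of_le_of_ne (pq g) fun e => g1 (eq_of_smul_eq_smul (α := Ω) fun ω => ?_)
      have : fixedBy Ω g = Set.univ := by
        rw [Set.eq_univ_iff_ncard, ← hcard, ← hq, ← e]; rfl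
      rw [one_smul]
      exact (this ▸ Set.mem_univ ω : ω ∈ fixedBy Ω g)
    have e3 := pU g hg
    rw [show p g = 1 by have := pos g hg; rcases Nat.mul_eq_zero.1 e1 with e | e <;> omega] at e3
    exact (mul_eq_zero.1 (e3.symm.trans (by simp))).resolve_left t0
  have : c * e = 1 * e := by exact_mod_cast s1.symm.trans (s4.trans (one_mul _).symm)
  exact index_eq_one.1 (hc ▸ Nat.eq_of_mul_eq_mul_right e0 this)

end CfsgH5.Der
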