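import Cfsg.Agent.H5.Der3
import Cfsg.Agent.H5.Der4

set_option autoImplicit false
set_option linter.unusedSectionVars false

/-! The index of a transitive normal subgroup containing all elements with two fixed points, in a
group without abelian normal subgroups. -/

namespace CfsgH5.Der
open Subgroup CfsgH5 CfsgH6 CfsgFT MulAction

universe u
variable {G : Type u} [Group G] [Finite G] {K H S B T R W : Subgroup G} {p : ℕ}
variable {Ω : Type*} [MulAction G Ω] [Finite Ω] {Φ : Set Ω} {a b : Ω}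

theorem fixK [K.Normal] (h2 : Two Ω K) {g : G} (hi : ∀ x ∈ Φ, g • x ∈ Φ) (h0 : 0 < Φ.ncard)
    (hd : K.index ∣ Φ.ncard - 1) (hb : b ∉ Φ) (hg : g • b = b) : g ∈ K := by
  refine mem_of_forall_ppart fun q hq _ => ?_
  by_cases e : q ∣ Φ.ncard
  · refine (piE_ppart {q} g).mem_of_relIndex (mem_top _) (Nrm.of_normal _ _) ?_
    rw [relIndex_top_right, piN_compl_single hq]
    exact fun e2 => hq.one_lt.ne' (Nat.dvd_one.1 ((Nat.dvd_sub_iff_right h0 e).1 (e2.trans hd)))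
  · have h1 : ∀ y ∈ zpowers g, ∀ x ∈ Φ, y • x ∈ Φ := fun y hy x hx => by
      obtain ⟨n, rfl⟩ := mem_powers_iff_mem_zpowers.2 hy
      induction n with
      | zero => simpa using hx
      | succ n ih => simpa only [pow_succ', mul_smul] using hi _ (ih (pow_mem (mem_zpowers g) n))
    have h3 := zpowers_le.2 (ppart_mem_zpowers {q} g)
    obtain ⟨x, hx, e2⟩ := exists_fix hq ((piG_single hq).1 (piE_iff_piG.1 (piE_ppart {q} g)))
      (fun y hy => h1 y (h3 hy)) e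
    exact h2 _ x b (fun e => hb (e ▸ hx)) (e2 (mem_zpowers _))
      ((zpowers_le.2 (mem_stabilizer_iff.2 hg) : zpowers g ≤ stabilizer G b) (ppart_mem_zpowers _ g))

theorem eq_bot_of_fix [FaithfulSMul G Ω] (h : ∀ x : Ω, W ≤ stabilizer G x) : W = ⊥ :=
  (eq_bot_iff_forall _).2 fun _ hg => eq_of_smul_eq_smul (α := Ω) fun x => by
    rw [one_smul]; exact h x hg

theorem relIndex_stab (hR : ∀ x y : Ω, ∃ v ∈ R, v • x = y) (hn : Nrm R W) (x y : Ω) :
    (stabilizer G x).relIndex W = (stabilizer G y).relIndex W := by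
  obtain ⟨v, hv, rfl⟩ := hR y x
  have e1 := card_inf_mul_relIndex (stabilizer G (v • y)) W
  have e2 := card_inf_mul_relIndex (stabilizer G y) W
  rw [← card_cj v, cj_inf, hn.cj_eq hv, cj_stab] at e2
  exact Nat.eq_of_mul_eq_mul_left (card_pos _) (e1.trans e2.symm)

theorem imp [K.Normal] [FaithfulSMul G Ω] (h2 : Two Ω K) (hH : H ≤ stabilizer G a) (hs : H ⊔ K = ⊤)
    (hR : ∀ x y : Ω, ∃ v ∈ R, v • x = y) (hW : W ≤ K) (n1 : Nrm R W) (n2 : Nrm H W)
    (hc : ¬ (K.index + 1) ^ 2 ≤ Nat.card Ω) : W = ⊥ ∨ ∀ x, ∃ w ∈ W, w • a = x := by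
  by_contra e
  push Not at e
  obtain ⟨e1, x, hx⟩ := e
  have hx' : x ∉ orbit W a := fun e => by obtain ⟨w, w1, w2⟩ := mem_orb.1 e; exact hx w w1 w2
  have iH : ∀ g ∈ H, ∀ y ∈ orbit W a, g • y ∈ orbit W a := fun g hg y hy => by
    obtain ⟨v, hv, rfl⟩ := mem_orb.1 hy
    refine mem_orb.2 ⟨g * v * g⁻¹, n2 g hg v hv, ?_⟩
    rw [mul_smul, mul_smul, mem_stabilizer_iff.1 (inv_mem (hH hg))]
  have iG : ∀ g ∈ H ⊔ W, ∀ y ∈ orbit W a, g • y ∈ orbit W a := fun g hg y hy => by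
    obtain ⟨h, h1, w, w1, rfl⟩ := (mem_sup_nrm n2).1 hg
    obtain ⟨v, hv, rfl⟩ := mem_orb.1 hy
    rw [mul_smul, ← mul_smul w]
    exact iH h h1 _ (mem_orb.2 ⟨_, mul_mem w1 hv, rfl⟩)
  have d1 := dvd_pred h2 hH (mem_orbit_self a) iH
  rw [relIndex_of_sup hs] at d1
  have b1 : 1 < (orbit W a).ncard := by
    rw [ncard_orbit]
    refine lt_of_le_of_ne (relIndex_pos _ _) fun e => e1 (eq_bot_of_fix (Ω := Ω) fun y => ?_)
    exact relIndex_eq_one.1 ((relIndex_stab hR n1 y a).trans e.symm)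
  have l1 := lemC_le (H := H ⊔ W) (B := W) (S := stabilizer G x)
    (by rw [eq_top_iff, ← hs]; exact sup_le_sup_right le_sup_left _) le_sup_right hW
    (n2.sup_left (Nrm.self W)) fun g hg => fixK h2 (iG g hg.1) (by omega) d1 hx' hg.2
  have l2 := card_inf_mul_relIndex (stabilizer G x) W
  rw [relIndex_stab hR n1 x a, ← ncard_orbit, inf_comm] at l2
  rw [← ncard_orbit, ← l2, mul_comm (Nat.card _), ← mul_assoc] at l1
  have l3 := Nat.le_of_mul_le_mul_right l1 (card_pos _)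
  have l4 : (orbit W a).ncard + (orbit ↥(H ⊔ W) x).ncard ≤ Nat.card Ω := by
    rw [← Set.ncard_union_eq (Set.disjoint_left.2 fun y h1 h3 => hx' ?_)]
    · exact Set.ncard_le_card _
    · obtain ⟨g, hg, rfl⟩ := mem_orb.1 h3
      simpa using iG _ (inv_mem hg) _ h1
  have l5 := Nat.le_of_dvd (by omega) d1
  refine hc (le_trans ?_ (le_trans (Nat.add_le_add_left l3 _) l4))
  calc _ ≤ (K.index + 1) * (orbit W a).ncard := by rw [sq]; exact Nat.mul_le_mul_left _ (by omega)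
    _ = _ := by ring

theorem main2 [K.Normal] [FaithfulSMul G Ω] (h2 : Two Ω K) (ht : ∀ x y : Ω, ∃ g ∈ K, g • x = y)
    (hd : K ≠ ⊤) (hΩ : 2 ≤ Nat.card Ω)
    (hna : ∀ N : Subgroup G, N.Normal → IsMulCommutative N → N = ⊥) :
    (K.index + 1) ^ 2 ≤ Nat.card Ω := by
  by_contra hc
  have s0 : Sit K ⊤ (Set.univ : Set Ω) := ⟨top_sup_eq _, fun _ _ _ _ => trivial,
    fun x _ y _ => by simpa using ht x y⟩
  obtain ⟨r, k, hr, k0, hk⟩ := (isPrimePow_nat_iff _).1
    ((Sit.main h2 _ ⊤ Set.univ (Set.ncard_univ Ω) s0 hΩ).resolve_left hc)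
  have := Fact.mk hr
  obtain ⟨R, hR⟩ := exists_sylIn r K
  have : Nontrivial Ω := Finite.one_lt_card_iff_nontrivial.1 hΩ
  obtain ⟨a, b, hab⟩ := exists_pair_ne Ω
  have tR : ∀ x y : Ω, ∃ v ∈ R, v • x = y := fun x y => by
    obtain ⟨g, hg, rfl⟩ := ht x y
    have e : (stabilizer G x ⊓ K).relIndex K = r ^ k := by
      rw [inf_relIndex_right, ← ncard_orbit, hk, ← Set.ncard_univ, ← s0.orbit_eq (Set.mem_univ x),
        top_inf_eq]
    obtain ⟨v, hv, y, hy, rfl⟩ := exists_mul_of_coprime_relIndex hR.le inf_le_right (by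
      rw [e]
      exact ((Nat.Prime.coprime_iff_not_dvd hr).2 hR.not_dvd_relIndex).symm.pow_right _) hg
    exact ⟨v, hv, by rw [mul_smul, mem_stabilizer_iff.1 hy.1]⟩
  have nsup : N R ⊔ K = ⊤ := by
    simpa using frat hr s0.sup hR ⟨le_top, Nrm.of_normal _ _⟩ le_rfl
  have s1 : Sit K (N R) (Set.univ : Set Ω) := ⟨nsup, fun _ _ _ _ => trivial, fun x _ y _ => by
    obtain ⟨v, hv, e⟩ := tR x y
    exact ⟨v, ⟨le_N R hv, hR.le hv⟩, e⟩⟩
  have hs := s1.sup_stab (Set.mem_univ a)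
  set H := N R ⊓ stabilizer G a with hH
  have nH : Nrm H R := nrm_of_le_N inf_le_left
  have Rne : R ≠ ⊥ := fun e => by
    obtain ⟨v, hv, e2⟩ := tR a b
    rw [e, mem_bot] at hv
    exact hab (by rw [← e2, hv, one_smul])
  have fx : ∀ {W : Subgroup G}, (∀ x, ∃ w ∈ W, w • a = x) → ∀ g ∈ C W, g • a = a → g = 1 :=
    fun h g hg e => eq_of_smul_eq_smul (α := Ω) fun x => by
      obtain ⟨w, hw, rfl⟩ := h x
      rw [one_smul, ← mul_smul, ← mem_C.1 hg w hw, mul_smul, e]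
  have tZ := (imp h2 inf_le_right hs tR ((Z_le R).trans hR.le) (Nrm.self R).Z nH.Z hc).resolve_left
    (Z_ne_bot_of_nilpotent (nilpotent_of_isPGroup hr hR.isPGroup) Rne)
  have reg : ∀ g ∈ R, g • a = a → g = 1 := fun g hg => fx tZ g (le_C_Z R hg)
  have full : ∀ W ≤ R, (∀ x, ∃ w ∈ W, w • a = x) → W = R := fun W h1 h3 =>
    le_antisymm h1 fun g hg => by
      obtain ⟨w, hw, e⟩ := h3 (g • a)
      have := reg (w⁻¹ * g) (mul_mem (inv_mem (h1 hw)) hg) (by rw [mul_smul, ← e, inv_smul_smul])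
      rwa [← inv_mul_eq_one.1 this]
  have hab' : Ab R := Z_eq_self.1 (full _ (Z_le R) tZ)
  have Rs : R ⊓ stabilizer G a = ⊥ := (eq_bot_iff_forall _).2 fun g hg => reg g hg.1 hg.2
  have cR : Nat.card R = Nat.card Ω := by
    rw [← relIndex_of_inf_eq_bot (inf_comm R _ ▸ Rs), ← ncard_orbit, ← Set.ncard_univ]
    congr 1
    exact Set.eq_univ_of_forall fun x => mem_orb.2 (tR a x)
  have aff : ∀ L ≤ H, L ⊔ K = ⊤ → Aff K R L := fun L h1 h3 =>
    ⟨hab', nH.mono h1, h3, fun v hv v1 g hg => h2 g a (v • a) (fun e => v1 (reg v hv e.symm))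
      (h1 hg.1).2 (by rw [← mul_smul, mem_C1.1 hg.2, mul_smul, mem_stabilizer_iff.1 (h1 hg.1).2]),
      (eq_bot_iff_forall _).2 fun g hg => fx (tR a) g hg.2 (h1 hg.1).2,
      fun W w1 w2 => (imp h2 (h1.trans inf_le_right) h3 tR (w1.trans hR.le) (hab'.nrm w1) w2
        hc).imp id (full W w1)⟩
  by_cases hE : SemiReg R (H ⊓ K)
  swap
  · obtain ⟨y, y1, y2, y3⟩ : ∃ y ∈ H ⊓ K, (orderOf y).Prime ∧ R ⊓ C1 y ≠ ⊥ := by
      by_contra e
      push Not at e
      exact hE (semiReg_of_prime_orderOf e)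
    have := Fact.mk y2
    obtain ⟨Q, q1, hQ⟩ := exists_sylIn_ge (zpowers_le.2 y1)
      (isPGroup_of_card_eq_prime (Nat.card_zpowers y))
    have y4 : y ≠ 1 := fun e => y2.one_lt.ne' (by rw [e, orderOf_one])
    have hne : r ≠ orderOf y := fun e => y4 (by
      subst e
      exact reg y (hR.le_of_nrm' hr (hQ.le.trans inf_le_right) hQ.isPGroup
        (nH.mono (hQ.le.trans inf_le_left)) (q1 (mem_zpowers y))) y1.1.2)
    have := (aff _ inf_le_left (frat y2 hs hQ ⟨inf_le_left, (Nrm.self H).inf (Nrm.of_normal _ _)⟩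
      inf_le_right)).caseB y2 (le_inf (le_inf (hQ.le.trans inf_le_left) (le_N Q))
        (hQ.le.trans inf_le_right)) (nrm_of_le_N inf_le_right) hQ.isPGroup
      (coprime_of_isPGroup_ne hr y2 hne hR.isPGroup hQ.isPGroup) ⟨y, q1 (mem_zpowers y), y4, y3⟩
    exact hc (cR ▸ this)
  have hC : ∀ z ∈ R, z ≠ 1 → K ⊓ C1 z ≤ R := fun z hz z1 => by
    have zR : R ≤ C1 z := le_C1_iff.2 (hab' hz)
    have hS : SylIn r R (K ⊓ C1 z) := hR.of_le (le_inf hR.le zR) inf_le_left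
    have hd := hS.sdp_of_le_C hr fun g hg => hab' (by
      obtain ⟨v, hv, e⟩ := tR a (g • a)
      by_contra e2
      have e3 : v⁻¹ * g ≠ 1 := fun e => e2 (inv_mul_eq_one.1 e ▸ hv)
      refine ne_bot_of (mem_inf.2 ⟨hz, mem_C1_comm.1 (mul_mem (inv_mem (zR hv)) hg.1.2)⟩) z1
        (hE _ (mem_inf.2 ⟨mem_inf.2 ⟨(N R).mul_mem (inv_mem (le_N R hv)) hg.2, ?_⟩,
          K.mul_mem (inv_mem (hR.le hv)) hg.1.1⟩) e3)
      exact mem_stabilizer_iff.2 (by rw [mul_smul, ← e, inv_smul_smul]))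
    set O := Opc r (K ⊓ C1 z) with hO
    have e1 : (stabilizer G a).relIndex O ∣ r ^ k := by
      rw [hk, ← Set.ncard_univ]
      exact dvd_ncard _ O _ (fun _ _ _ _ => trivial) fun x _ => (relIndex_stab tR hd.nrm a x).dvd
    have e2 : (stabilizer G a).relIndex O = 1 := (Nat.coprime_self _).1
      (Nat.Coprime.coprime_dvd_left (relIndex_dvd_card' _ _) (Nat.Coprime.coprime_dvd_right e1
        (((Nat.Prime.coprime_iff_not_dvd hr).2 (not_dvd_card_Opc hr _)).symm.pow_right _)))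
    have e3 : O = ⊥ := eq_bot_of_fix (Ω := Ω) fun x =>
      relIndex_eq_one.1 ((relIndex_stab tR hd.nrm x a).trans e2)
    rw [← hd.sup, e3, bot_sup_eq]
  have := Fintype.ofFinite K
  obtain ⟨g, g1, g2⟩ : ∃ g ∈ H, g ∉ K := SetLike.not_le_iff_exists.1 fun e =>
    hd (by rw [← hs, sup_eq_right.2 e])
  have hN := caseA (G := K) (R := R.subgroupOf K) (Ω := Ω)
    (ab_iff.2 fun x hx y hy => Subtype.ext (hab'.comm hx hy))
    (fun z hz z1 ω e => by
      obtain ⟨v, hv, rfl⟩ := tR a ω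
      refine z1 (Subtype.ext (reg z hz (smul_left_cancel v ?_)))
      rw [← mul_smul, hab'.comm hv (mem_subgroupOf.1 hz), mul_smul]
      exact e)
    (by rw [← cR]; exact Nat.card_congr (subgroupOfEquivOfLe hR.le).toEquiv)
    (fun z hz z1 g hg => hC z hz (by simpa using z1)
      ⟨g.2, mem_C1.2 (congrArg Subtype.val (mem_C1.1 hg))⟩) (by
      classical
      have e : ∀ x y : Ω × Ω, (Quotient.mk (orbitRel K (Ω × Ω)) x = Quotient.mk _ y) →
          ∃ k ∈ K, k • y.1 = x.1 ∧ k • y.2 = x.2 := fun x y e => by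
        obtain ⟨k, rfl⟩ := Quotient.exact e
        exact ⟨k, k.2, rfl, rfl⟩
      have ga : g • a = a := g1.2
      have := Fintype.ofFinite (orbitRel.Quotient K (Ω × Ω))
      rw [Nat.card_eq_fintype_card]
      refine Fintype.two_lt_card_iff.2 ⟨Quotient.mk _ (a, a), Quotient.mk _ (a, b),
        Quotient.mk _ (a, g • b), fun h => ?_, fun h => ?_, fun h => ?_⟩
      · obtain ⟨k, -, k1, k2⟩ := e _ _ h
        exact hab (smul_left_cancel k (k1.trans k2.symm))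
      · obtain ⟨k, -, k1, k2⟩ := e _ _ h
        exact hab (smul_left_cancel g (ga.trans (smul_left_cancel k (k1.trans k2.symm))))
      · obtain ⟨k, k0, k1, k2⟩ := e _ _ h
        refine g2 ((mul_mem_cancel_left k0).1 (h2 _ a b hab ?_ ?_))
        · rw [mul_smul, ga]; exact k1
        · rw [mul_smul]; exact k2)
  have hKN : K ≤ N R := fun x hx => mem_N_of_conj fun v hv =>
    conj_mem_of_mem_N (hN ▸ mem_top (⟨x, hx⟩ : K) : (⟨x, hx⟩ : K) ∈ N (R.subgroupOf K))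
      (x := ⟨v, hR.le hv⟩) hv
  rw [sup_eq_left.2 hKN] at nsup
  exact Rne (hna R (nrm_top_iff.1 (nrm_of_le_N nsup.ge)) (ab_iff_isMulCommutative.1 hab'))

theorem main1 [FaithfulSMul G Ω] (ht : IsPretransitive G Ω) (hΩ : 2 ≤ Nat.card Ω)
    (hna : ∀ N : Subgroup G, N.Normal → IsMulCommutative N → N = ⊥) : 4 ≤ Nat.card Ω := by
  by_contra hc
  have e1 : Nat.card G ∣ 6 := by
    refine (card_dvd_of_injective (toPermHom G Ω) toPerm_injective).trans ?_
    rw [Nat.card_perm]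
    exact Nat.factorial_dvd_factorial (n := 3) (by omega)
  have hs := CfsgL.burnside_pq (G := G) Nat.prime_two Nat.prime_three fun r hr e =>
    (hr.dvd_mul.1 (e.trans e1 : r ∣ 2 * 3)).imp (Nat.prime_dvd_prime_iff_eq hr Nat.prime_two).1
      (Nat.prime_dvd_prime_iff_eq hr Nat.prime_three).1
  have : Nontrivial Ω := Finite.one_lt_card_iff_nontrivial.1 hΩ
  obtain ⟨a, b, hab⟩ := exists_pair_ne Ω
  obtain ⟨g, hg⟩ := ht.exists_smul_eq a b
  refine Z_ne_bot_of_nilpotent (nilpotent_Fit ⊤) (Fit_ne_bot (M := (⊤ : Subgroup G)) inferInstance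
    (ne_bot_of (mem_top g) fun e => hab (by rw [← hg, e, one_smul])))
    (hna _ (nrm_top_iff.1 (nrm_Fit ⊤).Z) (ab_iff_isMulCommutative.1 (ab_Z _)))

end CfsgH5.Der
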