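import Cfsg.Agent.H5.Der5
import Cfsg.Agent.FT.BG45_a

set_option autoImplicit false
set_option linter.unusedSectionVars false

/-! Tools for elusive permutation groups: orbits of `p`-subgroups and coprime action on points. -/

namespace CfsgH5.Elu
open Subgroup CfsgH5 CfsgH6 CfsgFT CfsgH5.Der MulAction
open scoped commutatorElement

universe u
variable {G : Type u} [Group G] [Finite G] {Ω : Type*} [MulAction G Ω] [Finite Ω]
  {K H S B T R W P M Q E L Y : Subgroup G} {p q r : ℕ} {a b c : Ω}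

theorem syl_not_le (hp : p.Prime) (h : SylIn p Q H) (hd : p ∣ B.relIndex H) : ¬ Q ≤ B :=
  fun e => by
  haveI := Fact.mk hp
  exact h.not_dvd_relIndex (hd.trans (relIndex_dvd_of_le_left H e))

theorem stab_top (tr : ∀ x y : Ω, ∃ g ∈ H, g • x = y) (a : Ω) :
    (stabilizer G a).relIndex H = Nat.card Ω := by
  rw [← ncard_orbit, ← Set.ncard_univ]
  congr 1
  ext x
  simp only [mem_orb, tr a x, Set.mem_univ]

theorem orb_le {X : Set Ω} (h : ∀ g ∈ H, g • a ∈ X) : (stabilizer G a).relIndex H ≤ X.ncard := by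
  rw [← ncard_orbit]
  exact Set.ncard_le_ncard fun x hx => by
    obtain ⟨g, h1, rfl⟩ := mem_orb.1 hx
    exact h g h1

theorem self_orb (H : Subgroup G) (a : Ω) : a ∈ orbit H a := mem_orb.2 ⟨1, one_mem _, one_smul _ _⟩

theorem smul_orb {g : G} (hg : g ∈ H) (h : b ∈ orbit H a) : g • b ∈ orbit H a := by
  obtain ⟨k, h1, rfl⟩ := mem_orb.1 h
  exact mem_orb.2 ⟨g * k, mul_mem hg h1, mul_smul _ _ _⟩

theorem orb_eq (h : b ∈ orbit H a) : orbit H b = orbit H a := orbit_eq_iff.2 h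

theorem relIndex_stab_smul {g : G} (hg : g ∈ N H) (a : Ω) :
    (stabilizer G (g • a)).relIndex H = (stabilizer G a).relIndex H := by
  rw [← cj_stab, ← relIndex_cj g (stabilizer G a) H, mem_N.1 hg]

theorem le_stab_smul {g : G} (hg : g ∈ N H) (h : H ≤ stabilizer G a) :
    H ≤ stabilizer G (g • a) := by
  rw [← cj_stab, ← mem_N.1 hg]
  exact cj_mono h

theorem le_stab_smul_iff {g : G} (hg : g ∈ N H) : H ≤ stabilizer G (g • a) ↔ H ≤ stabilizer G a :=
  ⟨fun h => by simpa using le_stab_smul (inv_mem hg) h, le_stab_smul hg⟩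

theorem nrm_stab (h : H ≤ stabilizer G a) : Nrm H (stabilizer G a) := Nrm.of_le h

variable (G) in
/-- setwise stabilizer -/
def SS (X : Set Ω) : Subgroup G where
  carrier := {g | ∀ x ∈ X, g • x ∈ X}
  mul_mem' := fun {g h} hg hh x hx => by rw [mul_smul]; exact hg _ (hh x hx)
  one_mem' := fun x hx => by rwa [one_smul]
  inv_mem' := fun {g} hg => by
    obtain ⟨n, hn⟩ := mem_powers_iff_mem_zpowers.2 (inv_mem (mem_zpowers g))
    rw [← hn]
    clear hn
    induction n with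
    | zero => exact fun x hx => by simpa using hx
    | succ n ih => exact fun x hx => by simp only [pow_succ, mul_smul]; exact ih _ (hg x hx)

theorem mem_SS {X : Set Ω} {g : G} : g ∈ SS G X ↔ ∀ x ∈ X, g • x ∈ X := Iff.rfl

theorem elab_of_orb [FaithfulSMul G Ω] (hp : p.Prime) (hM : IsPGroup p M)
    (h : ∀ a : Ω, (stabilizer G a).relIndex M ∣ p) : ElAb p M := by
  haveI := Fact.mk hp
  have h1 : ∀ a : Ω, (M ⊓ stabilizer G a).relIndex M ∣ p := fun a => by
    rw [inf_comm, inf_relIndex_right]; exact h a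
  have h2 : ∀ a : Ω, Nrm M (M ⊓ stabilizer G a) := fun a =>
    B45.nrm_of_relIndex hM inf_le_left (h1 a)
  refine ⟨ab_iff.1 (D_eq_bot.1 (eq_bot_of_fix (Ω := Ω) fun a => le_trans
    (B45.comm_le_of_relIndex_dvd hM le_rfl (Nrm.self M) (h2 a) inf_le_left (h1 a)) inf_le_right)),
    fun x hx => eq_of_smul_eq_smul (α := Ω) fun a => ?_⟩
  obtain ⟨k, hk⟩ := h1 a
  rw [one_smul, hk, pow_mul]
  exact (pow_mem (pow_relIndex_mem' hx (h2 a)) k).2

/-- two points fixed by `M` in an orbit of `E` lie in an orbit of `C_E(M)`. -/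
theorem lemG (hp : p.Prime) (hM : IsPGroup p M) (hn : Nrm M E) (hE : ¬ p ∣ Nat.card E)
    (ha : M ≤ stabilizer G a) {d : G} (hd : d ∈ E) (hb : M ≤ stabilizer G (d • a)) :
    ∃ k ∈ E ⊓ C M, k • a = d • a := by
  obtain ⟨k, h1, h2⟩ := exists_cent_of_comm_mem (M := E ⊓ stabilizer G (d • a))
    (hn.inf (nrm_stab hb))
    (coprime_of_le (coprime_of_isPGroup_of_not_dvd hp hM hE).symm inf_le_left le_rfl)
    (Or.inr (solvable_of_isPGroup hp hM)) (x := d) fun m hm => by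
      refine mem_inf.2 ⟨?_, ?_⟩
      · rw [commutatorElement_def, mul_assoc, mul_assoc]
        exact mul_mem hd (by simpa [mul_assoc] using hn m hm _ (inv_mem hd))
      · rw [mem_stabilizer_iff, commutatorElement_def, mul_smul, mul_smul, mul_smul,
          mem_stabilizer_iff.1 (hb (inv_mem hm)), inv_smul_smul, mem_stabilizer_iff.1 (ha hm)]
  exact ⟨k⁻¹ * d, mem_inf.2 ⟨mul_mem (inv_mem (mem_inf.1 h1).1) hd, h2⟩, by
    rw [mul_smul, mem_stabilizer_iff.1 (inv_mem (mem_inf.1 h1).2)]⟩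

theorem orb_nrm (hn : Nrm M R) (ha : M ≤ stabilizer G a) : M ≤ SS G (orbit R a) :=
  fun m hm x hx => by
  obtain ⟨d, h1, rfl⟩ := mem_orb.1 hx
  refine mem_orb.2 ⟨_, hn m hm d h1, ?_⟩
  rw [mul_smul, mul_smul, mem_stabilizer_iff.1 (ha (inv_mem hm))]

theorem lemJ0 (hp : p.Prime) (p2 : p ≠ 2) (hr : r.Prime) (hM : IsPGroup p M) (hn : Nrm M R)
    (hR : IsPGroup r R) (hE : ¬ p ∣ Nat.card R) (ha : (stabilizer G a).relIndex M = p)
    (h : ∀ d ∈ R, d • a ∈ orbit M a ∨ M ≤ stabilizer G (d • a)) :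
    R ≤ SS G (orbit M a) ∨
      r = 2 ∧ ∃ k, p + 1 = 2 ^ k ∧ ∃ c, orbit R a = insert c (orbit M a) := by
  by_cases h0 : ∀ d ∈ R, d • a ∈ orbit M a
  · refine Or.inl fun d hd x hx => ?_
    obtain ⟨m, h1, rfl⟩ := mem_orb.1 hx
    have := smul_orb h1 (h0 _ (hn.conj' h1 hd))
    simpa [mul_smul] using this
  push Not at h0
  obtain ⟨d, d1, d2⟩ := h0
  have hc := (h d d1).resolve_left d2
  have e0 : orbit R (d • a) = orbit R a := orb_eq (smul_orb d1 (self_orb R a))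
  have e1 : orbit R a = orbit M a ∪ orbit ↥(R ⊓ C M) (d • a) := by
    refine Set.Subset.antisymm (fun x hx => ?_) (Set.union_subset (fun x hx => ?_) fun x hx => ?_)
    · obtain ⟨t, t1, rfl⟩ := mem_orb.1 hx
      refine (h t t1).imp_right fun e => ?_
      obtain ⟨k, k1, k2⟩ := lemG hp hM hn hE hc (mul_mem t1 (inv_mem d1)) (by simpa [mul_smul])
      exact mem_orb.2 ⟨k, k1, by simpa [mul_smul] using k2⟩
    · obtain ⟨m, h1, rfl⟩ := mem_orb.1 hx
      rw [← e0]
      exact orb_nrm hn hc h1 a (e0 ▸ self_orb R a)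
    · obtain ⟨m, h1, rfl⟩ := mem_orb.1 hx
      exact smul_orb h1.1 (smul_orb d1 (self_orb R a))
  have e2 : Disjoint (orbit M a) (orbit ↥(R ⊓ C M) (d • a)) := Set.disjoint_left.2 fun x h1 h2 => by
    obtain ⟨k, k1, rfl⟩ := mem_orb.1 h2
    have := ncard_orbit M (k • d • a)
    rw [orb_eq h1, ncard_orbit, ha, relIndex_eq_one.2 (le_stab_smul (C_le_N M k1.2) hc)] at this
    exact hp.ne_one this
  have e3 := Set.ncard_union_eq e2
  obtain ⟨i, hi⟩ := exists_relIndex_eq_pow hr hR (stabilizer G a)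
  obtain ⟨j, hj⟩ := exists_relIndex_eq_pow hr (hR.to_le (inf_le_left (b := C M)))
    (stabilizer G (d • a))
  rw [← e1, ncard_orbit, ncard_orbit, ncard_orbit, ha, hi, hj] at e3
  have i0 : i ≠ 0 := fun e => by
    have := hp.two_le
    rw [e, pow_zero] at e3
    omega
  have j0 : j = 0 := by
    by_contra e
    have : r ∣ p := (Nat.dvd_add_left (dvd_pow_self r e)).1 (e3 ▸ dvd_pow_self r i0)
    refine hE (((Nat.prime_dvd_prime_iff_eq hr hp).1 this) ▸ (dvd_pow_self r i0).trans ?_)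
    exact hi ▸ relIndex_dvd_card' _ _
  rw [j0, pow_zero] at e3 hj
  have r2 : r = 2 := ((Nat.prime_dvd_prime_iff_eq Nat.prime_two hr).1
    (Nat.prime_two.dvd_of_dvd_pow (e3 ▸ (hp.odd_of_ne_two p2).add_one.two_dvd))).symm
  obtain ⟨c, hc'⟩ := Set.ncard_eq_one.1 ((ncard_orbit _ _).trans hj)
  exact Or.inr ⟨r2, i, r2 ▸ e3.symm, c, by rw [e1, hc', Set.union_singleton]⟩

theorem lemJ (hp : p.Prime) (p2 : p ≠ 2) (hM : IsPGroup p M) (hn : Nrm M E)
    (hE : ¬ p ∣ Nat.card E) (ha : (stabilizer G a).relIndex M = p)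
    (h : ∀ d ∈ E, d • a ∈ orbit M a ∨ M ≤ stabilizer G (d • a)) :
    E ≤ SS G (orbit M a) ∨
      ∃ k, p + 1 = 2 ^ k ∧ ∃ c, orbit E a = insert c (orbit M a) := by
  choose R hR1 hR2 using fun r : Nat.Primes => exists_sylIn_nrm_of_coprime hn
    (coprime_of_isPGroup_of_not_dvd hp hM hE).symm (Or.inr (solvable_of_isPGroup hp hM)) r.2
  have key := fun r : Nat.Primes => lemJ0 hp p2 r.2 hM (hR2 r) (hR1 r).isPGroup
    (fun e => hE (e.trans (card_dvd_of_le' (hR1 r).le))) ha fun d hd => h d ((hR1 r).le hd)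
  rcases key ⟨2, Nat.prime_two⟩ with e | ⟨-, k, hk, c, hc⟩
  · refine Or.inl (le_of_forall_sylIn fun r hr _ => ⟨_, hR1 ⟨r, hr⟩, ?_⟩)
    rcases key ⟨r, hr⟩ with e2 | ⟨e2, -⟩
    · exact e2
    · cases e2
      exact e
  · refine Or.inr ⟨k, hk, c, Set.Subset.antisymm (fun x hx => ?_) fun x hx => ?_⟩
    · obtain ⟨d, d1, rfl⟩ := mem_orb.1 hx
      obtain ⟨t, t1, s, s1, rfl⟩ := exists_mul_of_coprime_relIndex (hR1 ⟨2, Nat.prime_two⟩).le
        (inf_le_left (b := SS G (orbit M a))) (Nat.coprime_of_dvd fun r hr e1 e2 => by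
          refine syl_not_le hr (hR1 ⟨r, hr⟩) e2 (le_inf (hR1 _).le
            ((key ⟨r, hr⟩).resolve_right fun e => ?_))
          exact syl_not_le hr (hR1 ⟨r, hr⟩) e1 (by cases e.1; exact le_rfl)) d1
      rw [← hc, mul_smul]
      exact smul_orb t1 (hc ▸ Set.mem_insert_of_mem c (s1.2 a (self_orb M a)))
    · rw [← hc] at hx
      obtain ⟨d, d1, rfl⟩ := mem_orb.1 hx
      exact smul_orb ((hR1 _).le d1) (self_orb E a)

end CfsgH5.Elu
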