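import Cfsg.Agent.H5.El1

set_option autoImplicit false
set_option linter.unusedSectionVars false

/-! Elusive groups of degree `2pq`: the Sylow `p`-subgroup for the largest prime. -/

namespace CfsgH5.Elu
open Subgroup CfsgH5 CfsgH6 CfsgFT CfsgH5.Der MulAction
open scoped commutatorElement

universe u
variable {G : Type u} [Group G] [Finite G] {Ω : Type*} [MulAction G Ω] [Finite Ω]
  {K H S B T R W P M Q E L Y : Subgroup G} {p q r : ℕ} {a b c : Ω}

theorem exp_of_cent (hp : p.Prime) (p5 : 3 < p) (hP : IsPGroup p P) (hM : ElAb p M) (le : M ≤ P)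
    (hn : Nrm P M) {x : G} (x1 : x ^ p = 1) (hs : M ⊔ zpowers x = P)
    (hi : (C1 x).relIndex M ∣ p ^ 2) : ∀ g ∈ P, g ^ p = 1 := by
  haveI := Fact.mk hp
  have hK : Nrm P (M ⊓ C1 x) := hs ▸ Nrm.sup_left (hM.ab.nrm inf_le_left)
    (nrm_of_le_C (le_C_symm (inf_le_right.trans (C_zpowers x).ge)))
  obtain ⟨X, h1, h2, h3⟩ : ∃ X ≤ M, ⁅X, P⁆ ≤ M ⊓ C1 x ∧ ⁅M, P⁆ ≤ X := by
    rcases (inf_le_left : M ⊓ C1 x ≤ M).eq_or_lt with e | e
    · exact ⟨M, le_rfl, by rw [e]; exact hn.comm_le_left, hn.comm_le_left⟩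
    · obtain ⟨X, e1, e2, e3, e4, e5⟩ := B45.exists_step hP le hn hK e
      refine ⟨X, e2, e4, B45.comm_le_of_relIndex_dvd hP le hn e5 e2 ?_⟩
      rw [← inf_relIndex_right, inf_comm, ← relIndex_mul_relIndex _ _ _ e1 e2, e3, sq] at hi
      exact Nat.dvd_of_mul_dvd_mul_left hp.pos hi
  intro g hg
  have hx : zpowers x ≤ P := hs ▸ le_sup_right
  rw [← hs] at hg
  obtain ⟨m, hm, y, hy, rfl⟩ := (mem_sup_nrm' (hn.mono hx)).1 hg
  have hw : ⁅y⁻¹, m⁻¹⁆ ∈ X := h3 (by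
    rw [Subgroup.commutator_comm]; exact commutator_mem_commutator (inv_mem (hx hy)) (inv_mem hm))
  have hb := h2 (commutator_mem_commutator (inv_mem hw) (inv_mem (hx hy)))
  have y1 : y ^ p = 1 := (elAb_zpowers x1).2 y hy
  rw [B45.mul_pow_nil3 (a := 1) (B45.swap_eq m y) (by rw [mul_one]; exact hM.1 _ (h1 hw) _ hm)
    (B45.swap_eq y _) (Commute.one_left _) (Commute.one_left _) (Commute.one_left _)
    (hM.1 _ hb.1 _ hm) (mem_C1.1 (C1_le_C1_of_mem_zpowers hy hb.2)) (hM.1 _ hb.1 _ (h1 hw))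
    (Commute.one_left _), hM.2 m hm, y1, one_pow,
    B45.pow_eq_one_of_dvd (hM.2 _ (h1 hw)) (hp.dvd_choose_self two_ne_zero (by omega)),
    B45.pow_eq_one_of_dvd (hM.2 _ hb.1) (dvd_add (hp.dvd_choose_self two_ne_zero (by omega))
      ((hp.dvd_choose_self three_ne_zero p5).mul_left 2))]
  simp

variable (G Ω) in
/-- an elusive group of degree `2pq` -/
structure Hyp (p q : ℕ) : Prop where
  hp : p.Prime
  hq : q.Prime
  q2 : q ≠ 2
  lt : q < p
  tr : ∀ x y : Ω, ∃ g ∈ (⊤ : Subgroup G), g • x = y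
  card : Nat.card Ω = 2 * p * q
  el : ∀ g : G, (orderOf g).Prime → ∃ ω : Ω, g • ω = ω

theorem Hyp.q3 (h : Hyp G Ω p q) : 3 ≤ q := by
  have := h.hq.two_le
  have := h.q2
  omega

theorem Hyp.p5 (h : Hyp G Ω p q) : 5 ≤ p := by
  have := h.q3
  have := h.lt
  have : p ≠ 4 := fun e => absurd h.hp (by rw [e]; decide)
  omega

theorem Hyp.p2 (h : Hyp G Ω p q) : p ≠ 2 := by
  have := h.p5
  omega

theorem Hyp.not_le (h : Hyp G Ω p q) (hP : SylIn p P ⊤) (a : Ω) : ¬ P ≤ stabilizer G a :=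
  syl_not_le h.hp hP (by rw [stab_top h.tr, h.card]; exact (dvd_mul_left _ _).mul_right _)

theorem Hyp.idx (h : Hyp G Ω p q) (hP : SylIn p P ⊤) (a : Ω) :
    (stabilizer G a).relIndex P = p ∨ (stabilizer G a).relIndex P = p ^ 2 := by
  obtain ⟨k, hk⟩ := exists_relIndex_eq_pow h.hp hP.isPGroup (stabilizer G a)
  have h1 := orb_le (H := P) (a := a) (X := Set.univ) fun _ _ => Set.mem_univ _
  have h2 : k ≠ 0 := fun e => h.not_le hP a (relIndex_eq_one.1 (by rw [hk, e, pow_zero]))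
  rw [Set.ncard_univ, h.card, hk] at h1
  have h3 : k < 3 := by
    have := h.p5
    have := h.lt
    refine (Nat.pow_lt_pow_iff_right h.hp.one_lt).1 (h1.trans_lt ?_)
    nlinarith [Nat.mul_pos h.hp.pos h.hp.pos]
  rw [hk]
  interval_cases k <;> simp at h2 ⊢

theorem Hyp.short (h : Hyp G Ω p q) (hP : SylIn p P ⊤) (hb : (stabilizer G b).relIndex P = p ^ 2)
    (ha : a ∉ orbit P b) : (stabilizer G a).relIndex P = p := by
  refine (h.idx hP a).resolve_right fun e => ?_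
  have h1 : Disjoint (orbit P a) (orbit P b) := Set.disjoint_left.2 fun x h1 h2 =>
    ha (by rw [← orb_eq h2, orb_eq h1]; exact self_orb P a)
  have h2 := Set.ncard_le_ncard (Set.subset_univ (orbit P a ∪ orbit P b))
  rw [Set.ncard_union_eq h1, ncard_orbit, ncard_orbit, e, hb, Set.ncard_univ, h.card] at h2
  have := h.lt
  nlinarith [h.hp.pos]

theorem fpf (hn : Nrm P M) (hb : P ⊓ stabilizer G b ≤ M) {g : G} (h1 : g ∈ P) (h2 : g ∉ M)
    (ha : a ∈ orbit P b) : g • a ≠ a := fun e => by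
  obtain ⟨k, k1, rfl⟩ := mem_orb.1 ha
  have : k⁻¹ * g * k ∈ M := hb (mem_inf.2 ⟨mul_mem (mul_mem (inv_mem k1) h1) k1, by
    rw [mem_stabilizer_iff, mul_smul, mul_smul, e, inv_smul_smul]⟩)
  exact h2 (by simpa [mul_assoc] using hn k k1 _ this)

theorem fix_orb (hn : Nrm P (P ⊓ stabilizer G a)) (hb : b ∈ orbit P a) :
    P ⊓ stabilizer G a ≤ stabilizer G b := by
  obtain ⟨k, k1, rfl⟩ := mem_orb.1 hb
  exact le_stab_smul (hn.le_N k1) inf_le_right

theorem card_stab (H : Subgroup G) (a : Ω) :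
    Nat.card ↥(H ⊓ stabilizer G a) * (stabilizer G a).relIndex H = Nat.card H := by
  rw [inf_comm]; exact card_inf_mul_relIndex _ _

theorem nrm_stab_of (hp : p.Prime) (hP : IsPGroup p P) (h : (stabilizer G a).relIndex P = p) :
    Nrm P (P ⊓ stabilizer G a) :=
  nrm_of_relIndex_eq hp hP inf_le_left (by rw [inf_comm, inf_relIndex_right, h])

theorem Hyp.cover (h : Hyp G Ω p q) (hP : SylIn p P ⊤) (le : M ≤ P) (hn : Nrm P M)
    (hi : M.relIndex P = p) (hb : (stabilizer G b).relIndex P = p ^ 2)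
    (hM : P ⊓ stabilizer G b ≤ M) : ¬ ∀ g ∈ P, g ^ p = 1 := fun he => by
  haveI := Fact.mk h.hp
  have e1 := card_mul_relIndex le
  rw [hi] at e1
  have := dc ((P : Set G) \ M) (orbit P b)ᶜ (fun g a => g • a = a) (m := p) (n := Nat.card M)
    (fun g hg => by
      obtain ⟨a, ha⟩ := h.el g (by
        rw [orderOf_eq_prime (he g hg.1) fun e => hg.2 (e ▸ one_mem M)]; exact h.hp)
      have h1 : a ∉ orbit P b := fun e => fpf hn hM hg.1 hg.2 e ha
      have h2 := h.short hP hb h1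
      refine h2.ge.trans (orb_le fun k hk => ⟨fun e => h1 ?_,
        fix_orb (nrm_stab_of h.hp hP.isPGroup h2) (smul_orb hk (self_orb P a)) ⟨hg.1, ha⟩⟩)
      simpa using smul_orb (inv_mem hk) e)
    (fun a ha => by
      have e2 := card_stab P a
      rw [h.short hP hb ha, ← e1] at e2
      rw [← Nat.eq_of_mul_eq_mul_right h.hp.pos e2]
      exact Set.ncard_le_ncard (t := ((P ⊓ stabilizer G a : Subgroup G) : Set G))
        (fun g hg => ⟨hg.1.1, hg.2⟩) (Set.toFinite _))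
  have e2 := Set.ncard_diff_add_ncard_of_subset (s := (M : Set G)) (t := P) le
  have e3 := Set.ncard_add_ncard_compl (orbit P b)
  rw [ncard_orbit, hb, h.card] at e3
  change _ + Nat.card M = Nat.card P at e2
  have e4 := card_pos M
  have e5 := h.lt
  have e6 : (Nat.card M * p) * (2 * p) ≤ (Nat.card M * p) * (2 * q + 1) := by nlinarith
  have := Nat.le_of_mul_le_mul_left e6 (Nat.mul_pos e4 h.hp.pos)
  omega

variable (Ω) in
/-- the subgroup `M` of index at most `p` in `P` whose orbits have length at most `p`. -/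
structure PM (p : ℕ) (P M : Subgroup G) : Prop where
  syl : SylIn p P ⊤
  le : M ≤ P
  nrm : Nrm P M
  orb : ∀ a : Ω, (stabilizer G a).relIndex M ∣ p
  el : ElAb p M
  U : ∀ E ≤ P, ElAb p E → Nat.card M ≤ p * Nat.card E → E ≤ M
  alt : M = P ∨ M.relIndex P = p ∧ ∃ b : Ω, (stabilizer G b).relIndex P = p ^ 2 ∧
    P ⊓ stabilizer G b ≤ M ∧ ¬ ∀ g ∈ P, g ^ p = 1

theorem Hyp.exists_PM [FaithfulSMul G Ω] (h : Hyp G Ω p q) : ∃ P M : Subgroup G, PM Ω p P M := by
  haveI := Fact.mk h.hp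
  obtain ⟨P, hP⟩ := exists_sylIn p (⊤ : Subgroup G)
  by_cases h0 : ∀ a : Ω, (stabilizer G a).relIndex P = p
  · exact ⟨P, P, hP, le_rfl, Nrm.self P, fun a => (h0 a).dvd,
      elab_of_orb h.hp hP.isPGroup fun a : Ω => (h0 a).dvd, fun E e _ _ => e, Or.inl rfl⟩
  push Not at h0
  obtain ⟨b, hb⟩ := h0
  replace hb := (h.idx hP b).resolve_left hb
  obtain ⟨M, h1, h2, h3⟩ := exists_maxIn_relIndex_eq h.hp hP.isPGroup (X := P ⊓ stabilizer G b)
    (lt_of_le_of_ne inf_le_left fun e => h.not_le hP b (inf_eq_left.1 e))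
  have h4 : ∀ a : Ω, (stabilizer G a).relIndex M ∣ p := fun a => by
    refine B45.relIndex_dvd_of_le (hP.isPGroup.to_le h2.le) ?_
    by_cases e : a ∈ orbit P b
    · obtain ⟨k, k1, rfl⟩ := mem_orb.1 e
      have := relIndex_mul_relIndex _ _ _ h1 h2.le
      rw [h3, inf_comm, inf_relIndex_right, hb, sq] at this
      rw [relIndex_stab_smul (h2.le_N k1), ← Nat.eq_of_mul_eq_mul_right h.hp.pos this,
        ← inf_relIndex_right (stabilizer G b ⊓ P), inf_assoc, inf_eq_right.2 h2.le,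
        inf_relIndex_right]
    · exact (relIndex_le_of_le_right h2.le (relIndex_ne_zero' _ _)).trans (h.short hP hb e).le
  have h5 := elab_of_orb h.hp (hP.isPGroup.to_le h2.le) h4
  have h6 := h.cover hP h2.le h2.nrm h3 hb h1
  refine ⟨P, M, hP, h2.le, h2.nrm, h4, h5, fun E e1 e2 e3 => ?_, Or.inr ⟨h3, b, hb, h1, h6⟩⟩
  by_contra e4
  obtain ⟨x, x1, x2⟩ := SetLike.not_le_iff_exists.1 e4
  refine h6 (exp_of_cent h.hp (by have := h.p5; omega) hP.isPGroup h5 h2.le h2.nrm (e2.2 x x1)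
    ((eq_or_eq_of_prime_relIndex (h3.symm ▸ h.hp) le_sup_left
      (sup_le h2.le (zpowers_le.2 (e1 x1)))).resolve_left fun e =>
        x2 (e ▸ mem_sup_right (mem_zpowers x))) ?_)
  obtain ⟨k, hk⟩ := exists_relIndex_eq_pow h.hp h5.isPGroup (C1 x)
  rw [hk]
  refine pow_dvd_pow p ((Nat.pow_le_pow_iff_right h.hp.one_lt).1 ?_)
  have i1 := card_inf_mul_relIndex (C1 x) M
  have i2 := card_inf_mul_relIndex M E
  have i3 := Nat.le_of_dvd h.hp.pos (h3 ▸ relIndex_dvd_of_nrm' e1 h2.nrm)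
  have i4 : Nat.card ↥(M ⊓ E) ≤ Nat.card ↥(C1 x ⊓ M) :=
    card_le_of_le (le_inf (inf_le_right.trans (le_C1_iff.2 (e2.ab x1))) inf_le_left)
  refine Nat.le_of_mul_le_mul_left ?_ (card_pos (C1 x ⊓ M))
  rw [← hk, i1]
  refine e3.trans ?_
  rw [← i2, sq, ← mul_assoc, mul_comm p, ← mul_assoc]
  exact Nat.mul_le_mul (Nat.mul_le_mul_right _ i4) i3

theorem PM.U' (h : PM Ω p P M) {g : G} (h1 : E ≤ cj g P) (h2 : ElAb p E)
    (h3 : Nat.card M ≤ p * Nat.card E) : E ≤ cj g M :=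
  le_cj_iff.2 (h.U _ (le_cj_iff.1 h1) (h2.cjj _) (by rwa [card_cj]))

/-- weak closure -/
theorem PM.wc (hp : p.Prime) (h : PM Ω p P M) (hT : IsPGroup p T) (h1 : M ≤ T) {g : G}
    (h2 : cj g M ≤ T) : cj g M = M := by
  haveI := Fact.mk hp
  obtain ⟨k, -, hk⟩ := h.syl.exists_le_cj le_top hT
  rw [eq_of_le_of_card_eq (h.U' (h2.trans hk) (h.el.cjj g)
    (by rw [card_cj]; exact Nat.le_mul_of_pos_left _ hp.pos)) (by rw [card_cj, card_cj]),
    ← eq_of_le_of_card_eq (h.U' (h1.trans hk) h.el (Nat.le_mul_of_pos_left _ hp.pos))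
    (card_cj _ _).symm]

end CfsgH5.Elu
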