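import Cfsg.Agent.H5.El2

set_option autoImplicit false
set_option linter.unusedSectionVars false

/-! Elusive groups of degree `2pq`: the case where all orbits of `M` have length `p`. -/

namespace CfsgH5.Elu
open Subgroup CfsgH5 CfsgH6 CfsgFT CfsgH5.Der MulAction
open scoped commutatorElement

universe u
variable {G : Type u} [Group G] [Finite G] {Ω : Type*} [MulAction G Ω] [Finite Ω]
  {K H S B T R W P M Q E L Y : Subgroup G} {p q r : ℕ} {a b c : Ω}

theorem relIndex_step (h : L ⊓ H ≤ K) : H.relIndex (L ⊓ K) * K.relIndex L = H.relIndex L := by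
  rw [inf_comm L, relIndex_inf_mul_relIndex, ← inf_relIndex_right (H ⊓ K), inf_right_comm,
    inf_eq_left.2 (inf_comm L H ▸ h), inf_relIndex_right]

theorem PM.conj_stab (hp : p.Prime) (h : PM Ω p P M)
    (tr : ∀ x y : Ω, ∃ g ∈ (⊤ : Subgroup G), g • x = y)
    (hi : ∀ a : Ω, (stabilizer G a).relIndex M = p) (a b : Ω) :
    ∃ n ∈ N M, M ⊓ stabilizer G (n • a) = M ⊓ stabilizer G b := by
  have := Fact.mk hp
  have hc : ∀ g : G, Nat.card ↥(cj g M ⊓ stabilizer G b) * p = Nat.card M := fun g => by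
    have := card_stab M (g⁻¹ • b)
    rwa [hi, ← card_cj g, cj_inf, cj_stab, smul_inv_smul] at this
  have hc' : ∀ g k : G, cj g M ⊓ stabilizer G b ≤ cj k P →
      cj g M ⊓ stabilizer G b = cj k M ⊓ stabilizer G b := fun g k e =>
    eq_of_le_of_card_eq (le_inf (h.U' e ((h.el.cjj g).mono inf_le_left)
      (by rw [mul_comm, hc])) inf_le_right)
      (Nat.eq_of_mul_eq_mul_right hp.pos ((hc g).trans (hc k).symm))
  obtain ⟨g, -, hg⟩ := tr a b
  obtain ⟨S, s1, s2⟩ := exists_sylIn_ge (inf_le_right : cj 1 M ⊓ stabilizer G b ≤ _)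
    ((h.el.cjj 1).isPGroup.to_le inf_le_left)
  obtain ⟨k, k1, k2⟩ := s2.exists_le_cj (inf_le_right : cj g M ⊓ stabilizer G b ≤ _)
    ((h.el.cjj g).isPGroup.to_le inf_le_left)
  obtain ⟨t, -, ht⟩ := h.syl.exists_le_cj le_top s2.isPGroup
  rw [le_cj_iff, cj_inf, cj_cj, cj_self (inv_mem k1)] at k2
  have e := (hc' _ t (k2.trans ht)).trans (hc' _ t (s1.trans ht)).symm
  rw [cj_one] at e
  obtain ⟨T, t1, t2⟩ := exists_sylIn_ge (H := C (M ⊓ stabilizer G b))
    (le_C_symm (inf_le_left.trans h.el.ab)) h.el.isPGroup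
  obtain ⟨c, c1, c2⟩ := t2.exists_le_cj (X := cj (k⁻¹ * g) M)
    (le_C_symm (e ▸ inf_le_left.trans (h.el.cjj _).ab)) (h.el.cjj _).isPGroup
  rw [le_cj_iff, cj_cj] at c2
  have e2 := h.wc hp t2.isPGroup t1 c2
  refine ⟨_, mem_N.2 e2, ?_⟩
  rw [← cj_of_mem_C (inv_mem c1), ← e, cj_inf, cj_cj, e2, cj_stab, mul_smul, mul_smul, hg,
    mem_stabilizer_iff.1 (inv_mem k1)]

theorem ab_fix (hM : Ab M) (hb : b ∈ orbit M a) : M ⊓ stabilizer G a ≤ stabilizer G b :=
  fix_orb (hM.nrm inf_le_left) hb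

theorem Hyp.block (h : Hyp G Ω p q) (hM : PM Ω p P M)
    (hi : ∀ a : Ω, (stabilizer G a).relIndex M = p) (b : Ω) :
    p ≤ 2 * q ∧ {x : Ω | M ⊓ stabilizer G b ≤ stabilizer G x} = orbit M b := by
  have := Fact.mk h.hp
  set F := {x : Ω | M ⊓ stabilizer G b ≤ stabilizer G x} with hF
  have h1 : orbit M b ⊆ F := fun x hx => ab_fix hM.el.ab hx
  obtain ⟨f, hf⟩ : p ∣ F.ncard := dvd_ncard p M F
    (fun g hg x hx => le_stab_smul ((hM.el.ab.nrm inf_le_left).le_N hg) hx) fun x _ => (hi x).symm.dvd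
  have h2 := Set.ncard_le_ncard h1
  have e1 := card_stab M b
  rw [hi] at e1
  have := dc (M : Set G) Set.univ (fun g (a : Ω) => g • a = a) (m := F.ncard)
    (n := Nat.card ↥(M ⊓ stabilizer G b))
    (fun g hg => by
      obtain ⟨a, ha⟩ : ∃ a : Ω, g • a = a := by
        by_cases e : g = 1
        · exact ⟨b, by rw [e, one_smul]⟩
        · exact h.el g (by rw [hM.el.orderOf_eq h.hp hg e]; exact h.hp)
      obtain ⟨n, n1, n2⟩ := hM.conj_stab h.hp h.tr hi a b
      refine Set.ncard_le_ncard_of_injOn (n⁻¹ • ·) (fun x hx => ⟨Set.mem_univ _, ?_⟩)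
        (MulAction.injective _).injOn
      have : n * g * n⁻¹ ∈ stabilizer G x := hx (n2 ▸ mem_inf.2 ⟨conj_mem_of_mem_N n1 hg, by
        rw [mem_stabilizer_iff, mul_smul, mul_smul, inv_smul_smul, ha]⟩)
      rwa [mem_stabilizer_iff, mul_smul, mul_smul, ← eq_inv_smul_iff] at this)
    (fun a _ => by
      have e2 := card_stab M a
      rw [hi, ← e1] at e2
      rw [← Nat.eq_of_mul_eq_mul_right h.hp.pos e2]
      exact Set.ncard_le_ncard (t := ((M ⊓ stabilizer G a : Subgroup G) : Set G))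
        (fun g hg => hg) (Set.toFinite _))
  change Nat.card M * _ ≤ _ at this
  rw [Set.ncard_univ, h.card, ← e1] at this
  rw [ncard_orbit, hi] at h2
  have h3 : F.ncard ≤ 2 * q := Nat.le_of_mul_le_mul_left (by nlinarith)
    (Nat.mul_pos (card_pos (M ⊓ stabilizer G b)) h.hp.pos)
  have h4 : f < 2 := Nat.lt_of_mul_lt_mul_left (a := p) (by have := h.lt; omega)
  refine ⟨h2.trans h3, (Set.eq_of_subset_of_ncard_le h1 ?_).symm⟩
  rw [ncard_orbit, hi, hf]
  nlinarith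

theorem conj_SS {y x : G} (hy : y ∈ N M) (hx : x ∈ SS G (orbit M a)) :
    y * x * y⁻¹ ∈ SS G (orbit M (y • a)) := fun c hc => by
  obtain ⟨m, m1, rfl⟩ := mem_orb.1 hc
  obtain ⟨k, k1, k2⟩ := mem_orb.1 (hx _ (smul_orb (conj_mem_of_mem_N (inv_mem hy) m1) (self_orb M a)))
  refine mem_orb.2 ⟨_, conj_mem_of_mem_N hy k1, ?_⟩
  simp only [mul_smul, inv_smul_smul, inv_inv] at k2 ⊢
  rw [k2]

/-- a `q`-element normalizing `M` and an orbit of `M` of prime length fixes the orbit. -/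
theorem fix_of_not_dvd (hp : p.Prime) (hq : q.Prime) (hpq : q ≠ p) (hd : ¬ q ∣ p - 1) (hM : Ab M)
    (ha : (stabilizer G a).relIndex M = p) {y : G} (h1 : y ∈ N M) (h2 : y ∈ SS G (orbit M a))
    (hy : IsPGroup q (zpowers y)) : y • a = a := by
  have h3 : zpowers y ≤ SS G (orbit M a) := zpowers_le.2 h2
  obtain ⟨b, b1, b2⟩ := exists_fix hq hy h3 (by
    rw [ncard_orbit, ha, Nat.prime_dvd_prime_iff_eq hq hp]; exact hpq)
  obtain ⟨c, c1, c2⟩ := exists_fix (Φ := orbit M a \ {b}) hq hy (fun g hg x hx =>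
    ⟨h3 hg x hx.1, fun e => hx.2 (MulAction.injective g (e.trans (b2 hg).symm))⟩)
    (by rwa [Set.ncard_diff_singleton_of_mem b1, ncard_orbit, ha])
  have hb : (M ⊓ stabilizer G b).relIndex M = p := by
    rw [inf_comm, inf_relIndex_right, ← ncard_orbit, orb_eq b1, ncard_orbit, ha]
  have hn : Nrm (zpowers y) (M ⊓ stabilizer G b) := (nrm_zpowers_iff.2 h1).inf (nrm_stab b2)
  obtain ⟨m, m1, rfl⟩ := mem_orb.1 (orb_eq b1 ▸ c1.1 : c ∈ orbit M b)
  obtain ⟨k, k1, rfl⟩ := mem_orb.1 (orb_eq b1 ▸ self_orb M a : a ∈ orbit M b)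
  have e := (eq_or_eq_of_prime_relIndex (Y := M ⊓ B45.CM (zpowers y) (M ⊓ stabilizer G b))
    (hb.symm ▸ hp) (le_inf inf_le_left (B45.le_CM.2 ⟨Nrm.self _, hn.comm_le_left⟩))
    inf_le_left).resolve_left fun e => c1.2 (by
      have : m⁻¹ ∈ M ⊓ stabilizer G b := e ▸ mem_inf.2 ⟨inv_mem m1, B45.mem_CM.2
        ⟨(hM.nrm inf_le_left).le_N (inv_mem m1), fun w hw => mem_inf.2
          ⟨B45.comm_mem_left (inv_mem m1) (zpowers_le.2 h1 hw), by
            rw [mem_stabilizer_iff, commutatorElement_def, mul_smul, mul_smul, mul_smul, inv_inv,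
              mem_stabilizer_iff.1 (b2 (inv_mem hw)), mem_stabilizer_iff.1 (c2 hw),
              inv_smul_smul]⟩⟩⟩
      exact inv_mem_iff.1 (mem_inf.1 this).2)
  have := (mem_inf.1 ((B45.mem_CM.1 (inf_eq_left.1 e (inv_mem k1))).2 y (mem_zpowers y))).2
  rwa [mem_stabilizer_iff, commutatorElement_def, mul_smul, mul_smul, mul_smul, inv_inv,
    mem_stabilizer_iff.1 (b2 (inv_mem (mem_zpowers y))), inv_smul_eq_iff] at this

theorem Hyp.main [FaithfulSMul G Ω] (h : Hyp G Ω p q) (hM : PM Ω p P M)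
    (hi : ∀ a : Ω, (stabilizer G a).relIndex M = p) : False := by
  have := Fact.mk h.hq
  have q3 := h.q3
  have p0 := h.hp.pos
  have tr : ∀ a b : Ω, ∃ g ∈ N M, g • a = b := fun a b => by
    obtain ⟨n, n1, n2⟩ := hM.conj_stab h.hp h.tr hi a b
    obtain ⟨m, m1, m2⟩ := mem_orb.1 ((h.block hM hi b).2 ▸ (n2 ▸ inf_le_right :
      M ⊓ stabilizer G b ≤ stabilizer G (n • a)) : n • a ∈ orbit M b)
    exact ⟨m⁻¹ * n, mul_mem (le_N M (inv_mem m1)) n1, by rw [mul_smul, ← m2, inv_smul_smul]⟩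
  have hB : ∀ b : Ω, N M ⊓ stabilizer G b ≤ SS G (orbit M b) := fun b =>
    orb_nrm ((nrm_N M).mono inf_le_left) inf_le_right
  have iB : ∀ b : Ω, (SS G (orbit M b)).relIndex (N M) = 2 * q := fun b => by
    have e1 := relIndex_step (hB b)
    have e2 : orbit ↥(N M ⊓ SS G (orbit M b)) b = orbit M b := Set.Subset.antisymm
      (fun x hx => by
        obtain ⟨g, g1, rfl⟩ := mem_orb.1 hx
        exact (mem_inf.1 g1).2 b (self_orb M b))
      fun x hx => by
        obtain ⟨g, g1, rfl⟩ := mem_orb.1 hx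
        exact smul_orb (mem_inf.2 ⟨le_N M g1, fun _ => smul_orb g1⟩) (self_orb _ b)
    rw [← ncard_orbit, e2, ncard_orbit, hi, stab_top tr, h.card] at e1
    exact Nat.eq_of_mul_eq_mul_left p0 (by rw [e1]; ring)
  obtain ⟨Q, hQ⟩ := exists_sylIn q (N M)
  have iQ : ∀ b : Ω, (SS G (orbit M b)).relIndex Q = q := fun b => by
    obtain ⟨k, hk⟩ := exists_relIndex_eq_pow h.hq hQ.isPGroup (SS G (orbit M b))
    have e1 := relIndex_le_of_le_right (H := SS G (orbit M b)) hQ.le (relIndex_ne_zero' _ _)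
    have e2 : k ≠ 0 := fun e => syl_not_le h.hq hQ (iB b ▸ dvd_mul_left _ _)
      (relIndex_eq_one.1 (by rw [hk, e, pow_zero]))
    rw [hk, iB] at e1
    have e3 : k < 2 := (Nat.pow_lt_pow_iff_right h.hq.one_lt).1 (by nlinarith)
    rw [hk, show k = 1 by omega, pow_one]
  obtain ⟨x, x1, x2⟩ : ∃ x ∈ Q, ∀ b : Ω, x ∉ SS G (orbit M b) := by
    by_contra hc
    push Not at hc
    obtain ⟨c, hc'⟩ : q ∣ Nat.card Q := by
      obtain ⟨b, -⟩ := hc 1 (one_mem Q)
      exact iQ b ▸ relIndex_dvd_card' _ _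
    have := dc (Q : Set G) Set.univ (fun g (b : Ω) => g ∈ SS G (orbit M b)) (m := p * q) (n := c)
      (fun g hg => by
        set X := {b : Ω | b ∈ Set.univ ∧ g ∈ SS G (orbit M b)} with hX
        have e1 : p ∣ Xᶜ.ncard := dvd_ncard p M _ (fun m hm x hx e => hx ⟨trivial, by
          rw [← orb_eq (smul_orb hm (self_orb M x))]; exact e.2⟩) fun x _ => (hi x).symm.dvd
        have e2 : q ∣ Xᶜ.ncard := dvd_ncard q (zpowers g) _ (fun y hy x hx e => hx ⟨trivial, by
            have := conj_SS (inv_mem (hQ.le (zpowers_le.2 hg hy))) e.2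
            rwa [inv_smul_smul, (ab_zpowers g).comm (inv_mem hy) (mem_zpowers g),
              mul_inv_cancel_right] at this⟩)
          fun x hx => dvd_relIndex_of_not_le h.hq (hQ.isPGroup.to_le (zpowers_le.2 hg)) fun e =>
            hx ⟨trivial, hB x (mem_inf.2 ⟨hQ.le hg, e (mem_zpowers g)⟩)⟩
        have e3 := Set.ncard_add_ncard_compl X
        obtain ⟨b, hb⟩ := hc g hg
        refine Nat.le_of_dvd ((Set.ncard_pos (Set.toFinite _)).2 ⟨b, trivial, hb⟩)
          ((Nat.dvd_add_left (((Nat.coprime_primes h.hp h.hq).2 h.lt.ne').mul_dvd_of_dvd_of_dvd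
            e1 e2)).1 ?_)
        rw [e3, h.card, mul_assoc]
        exact dvd_mul_left _ _)
      (fun b _ => by
        have e2 := card_inf_mul_relIndex (SS G (orbit M b)) Q
        rw [iQ, hc', mul_comm q] at e2
        rw [← Nat.eq_of_mul_eq_mul_right h.hq.pos e2]
        exact Set.ncard_le_ncard (t := ((SS G (orbit M b) ⊓ Q : Subgroup G) : Set G))
          (fun g hg => ⟨hg.2, hg.1⟩) (Set.toFinite _))
    change Nat.card Q * _ ≤ _ at this
    have e0 := card_pos Q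
    rw [Set.ncard_univ, h.card, hc'] at this
    rw [hc'] at e0
    have e4 : (q * c * p) * q ≤ (q * c * p) * 2 := by nlinarith
    have := Nat.le_of_mul_le_mul_left e4 (Nat.mul_pos e0 p0)
    omega
  have x3 : x ^ q = 1 := eq_of_smul_eq_smul (α := Ω) fun b => by
    have e1 : (Q ⊓ SS G (orbit M b)).relIndex Q = q := by rw [inf_relIndex_left, iQ]
    have e2 := pow_relIndex_mem' x1 (nrm_of_relIndex_eq h.hq hQ.isPGroup inf_le_left e1)
    rw [e1] at e2
    rw [one_smul]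
    refine fix_of_not_dvd h.hp h.hq h.lt.ne (fun ⟨k, hk⟩ => ?_) hM.el.ab (hi b) (hQ.le e2.1) e2.2
      (hQ.isPGroup.to_le (zpowers_le.2 e2.1))
    have e3 := (h.block hM hi b).1
    have e4 := h.lt
    have e5 : k < 2 := Nat.lt_of_mul_lt_mul_left (a := q) (by omega)
    obtain ⟨i, hi⟩ := h.hp.odd_of_ne_two h.p2
    obtain ⟨j, hj⟩ := h.hq.odd_of_ne_two h.q2
    interval_cases k <;> omega
  obtain ⟨b, hb⟩ := h.el x (by
    rw [orderOf_eq_prime x3 fun e => ?_]
    · exact h.hq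
    · obtain ⟨b⟩ : Nonempty Ω := (Nat.card_pos_iff.1 (by rw [h.card]; positivity)).1
      exact x2 b (e ▸ one_mem _))
  exact x2 b (hB b (mem_inf.2 ⟨hQ.le x1, hb⟩))

end CfsgH5.Elu
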