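import Cfsg.Agent.H5.El3

set_option autoImplicit false
set_option linter.unusedSectionVars false

/-! Elusive groups of degree `2pq`: the case where `M` fixes a point and has order above `p`. -/

namespace CfsgH5.Elu
open Subgroup CfsgH5 CfsgH6 CfsgFT CfsgH5.Der MulAction
open scoped commutatorElement

universe u
variable {G : Type u} [Group G] [Finite G] {Ω : Type*} [MulAction G Ω] [Finite Ω]
  {K H S B T R W P M Q E L Y : Subgroup G} {p q r : ℕ} {a b c : Ω}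

/-- `M` fixes exactly the points outside the long orbit of `P`. -/
structure C3 (p : ℕ) (P M : Subgroup G) (b : Ω) : Prop extends PM Ω p P M where
  idx : M.relIndex P = p
  hb : (stabilizer G b).relIndex P = p ^ 2
  fix : ∀ a : Ω, M ≤ stabilizer G a ↔ a ∉ orbit P b
  fpf : ∀ g ∈ P, g ∉ M → ∀ a : Ω, g • a ≠ a
  ord : ∀ g ∈ P, g ∉ M → g ^ p ≠ 1
  sylS : ∀ a : Ω, M ≤ stabilizer G a → SylIn p M (stabilizer G a)
  ne : ∃ a : Ω, M ≤ stabilizer G a

theorem Hyp.c3 (h : Hyp G Ω p q) (hM : PM Ω p P M) (ha : M ≤ stabilizer G a) :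
    ∃ b : Ω, C3 p P M b := by
  have := Fact.mk h.hp
  obtain ⟨h1, b, h2, h3, -⟩ := hM.alt.resolve_left fun e => h.not_le hM.syl a (e ▸ ha)
  have s : ∀ a : Ω, M ≤ stabilizer G a → SylIn p M (stabilizer G a) := fun a ha =>
    sylIn_of_not_dvd ha hM.el.isPGroup fun ⟨k, hk⟩ => hM.syl.not_dvd_relIndex ⟨k * (2 * q), by
      have e1 := relIndex_mul_relIndex _ _ _ ha le_top
      rw [← relIndex_mul_relIndex _ _ _ hM.le le_top, h1, hk, stab_top h.tr, h.card] at e1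
      exact Nat.eq_of_mul_eq_mul_left h.hp.pos (by rw [← e1]; ring)⟩
  have s2 : ∀ c : Ω, c ∉ orbit P b → P ⊓ stabilizer G c = M := fun c hc => by
    have e1 := card_stab P c
    rw [h.short hM.syl h2 hc, ← card_mul_relIndex hM.le, h1] at e1
    replace e1 := Nat.eq_of_mul_eq_mul_right h.hp.pos e1
    obtain ⟨g, -, rfl⟩ := h.tr a c
    obtain ⟨k, -, hk⟩ := (cj_stab g a ▸ (s a ha).cjj g).exists_le_cj
      (inf_le_right : P ⊓ stabilizer G (g • a) ≤ _) (hM.syl.isPGroup.to_le inf_le_left)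
    exact eq_of_le_of_card_eq (hM.U _ inf_le_left (((hM.el.cjj g).cjj k).mono hk)
      (e1 ▸ Nat.le_mul_of_pos_left _ h.hp.pos)) e1
  have f : ∀ g ∈ P, g ∉ M → ∀ a : Ω, g • a ≠ a := fun g g1 g2 c e => by
    by_cases hc : c ∈ orbit P b
    · exact fpf hM.nrm h3 g1 g2 hc e
    · exact g2 (s2 c hc ▸ mem_inf.2 ⟨g1, e⟩)
  refine ⟨b, hM, h1, h2, fun c => ⟨fun e hc => ?_, fun e => s2 c e ▸ inf_le_right⟩, f,
    fun g g1 g2 e => ?_, s, a, ha⟩
  · have := relIndex_dvd_of_le_left P e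
    rw [← ncard_orbit, orb_eq hc, ncard_orbit, h1, h2] at this
    have := Nat.le_of_dvd h.hp.pos this
    nlinarith [h.hp.two_le]
  · obtain ⟨c, hc⟩ := h.el g (by
      rw [orderOf_eq_prime e fun e => g2 (e ▸ one_mem M)]; exact h.hp)
    exact f g g1 g2 c hc

theorem C3.trN (hp : p.Prime) (tr : ∀ x y : Ω, ∃ g ∈ (⊤ : Subgroup G), g • x = y)
    (h : C3 p P M b) (ha : M ≤ stabilizer G a) (hc : M ≤ stabilizer G c) :
    ∃ n ∈ N M, n • a = c := by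
  have := Fact.mk hp
  obtain ⟨g, -, rfl⟩ := tr a c
  obtain ⟨k, k1, k2⟩ := (cj_stab g a ▸ (h.sylS a ha).cjj g).conj (h.sylS _ hc)
  exact ⟨k * g, mem_N.2 (by rw [← cj_cj, k2]), by rw [mul_smul]; exact k1⟩

theorem C3.long (hp : p.Prime) (h : C3 p P M b) (ha : a ∈ orbit P b) :
    (stabilizer G a).relIndex M = p :=
  ((Nat.dvd_prime hp).1 (h.orb a)).resolve_left fun e => (h.fix a).1 (relIndex_eq_one.1 e) ha

theorem C3.smul_mem (h : C3 p P M b) {n : G} (hn : n ∈ N M) (ha : a ∈ orbit P b) :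
    n • a ∈ orbit P b := by
  by_contra e
  exact (h.fix a).1 ((le_stab_smul_iff hn).1 ((h.fix _).2 e)) ha

theorem C3.sup_eq (hp : p.Prime) (h : C3 p P M b) {g : G} (h1 : g ∈ P) (h2 : g ∉ M) :
    M ⊔ zpowers g = P :=
  (eq_or_eq_of_prime_relIndex (h.idx.symm ▸ hp) le_sup_left
    (sup_le h.le (zpowers_le.2 h1))).resolve_left fun e => h2 (e ▸ mem_sup_right (mem_zpowers g))

theorem C3.eq_bot [FaithfulSMul G Ω] (h : C3 p P M b) (ha : a ∈ orbit P b) (hL : L ≤ M)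
    (h1 : L ≤ stabilizer G a) (hn : Nrm P L) : L = ⊥ :=
  eq_bot_of_fix (Ω := Ω) fun x => by
    by_cases e : x ∈ orbit P b
    · obtain ⟨k, k1, rfl⟩ := mem_orb.1 (orb_eq ha ▸ e : x ∈ orbit P a)
      exact le_stab_smul (hn.le_N k1) h1
    · exact hL.trans ((h.fix x).2 e)

variable (Ω) in
/-- elements of `C(L)` fixing the points moved by `L` -/
def D0 (L : Subgroup G) : Subgroup G := C L ⊓ ⨅ (a : Ω) (_ : ¬ L ≤ stabilizer G a), stabilizer G a

variable (Ω) in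
/-- elements of `C(L)` fixing the nontrivial orbits of `L` -/
def X0 (L : Subgroup G) : Subgroup G := C L ⊓ ⨅ (a : Ω) (_ : ¬ L ≤ stabilizer G a), SS G (orbit L a)

theorem mem_D0 {d : G} : d ∈ D0 Ω L ↔ d ∈ C L ∧ ∀ a : Ω, ¬ L ≤ stabilizer G a → d • a = a := by
  simp only [D0, mem_inf, mem_iInf, mem_stabilizer_iff]

theorem mem_X0 {d : G} :
    d ∈ X0 Ω L ↔ d ∈ C L ∧ ∀ a : Ω, ¬ L ≤ stabilizer G a → d ∈ SS G (orbit L a) := by
  simp only [X0, mem_inf, mem_iInf]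

theorem conj_D0 (n : G) {d : G} (h : d ∈ D0 Ω L) : n * d * n⁻¹ ∈ D0 Ω (cj n L) := by
  refine mem_D0.2 ⟨cj_C n L ▸ mem_cj'.2 ⟨d, (mem_D0.1 h).1, rfl⟩, fun a ha => ?_⟩
  rw [mul_smul, mul_smul, (mem_D0.1 h).2 _ fun e => ha ?_, smul_inv_smul]
  rwa [cj_le_iff, cj_stab]

theorem nrm_D0 : Nrm (N L) (D0 Ω L) := fun n hn d hd => by
  simpa only [mem_N.1 hn] using conj_D0 n hd

theorem nrm_X0 : Nrm (N L) (X0 Ω L) := fun n hn d hd =>
  mem_X0.2 ⟨nrm_N_C L n hn d (mem_X0.1 hd).1, fun a ha => by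
    simpa using conj_SS hn ((mem_X0.1 hd).2 (n⁻¹ • a) fun e =>
      ha ((le_stab_smul_iff (inv_mem hn)).1 e))⟩

theorem D0_le_X0 : D0 Ω L ≤ X0 Ω L := fun d hd =>
  mem_X0.2 ⟨(mem_D0.1 hd).1, fun a ha => orb_nrm (M := zpowers d)
    (nrm_zpowers_iff.2 (C_le_N L (mem_D0.1 hd).1)) (zpowers_le.2 ((mem_D0.1 hd).2 a ha))
    (mem_zpowers d)⟩

theorem pow_X0 (hL : ElAb p L) {x : G} (h : x ∈ X0 Ω L) : x ^ p ∈ D0 Ω L := by
  refine mem_D0.2 ⟨pow_mem (mem_X0.1 h).1 p, fun a ha => ?_⟩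
  obtain ⟨l, l1, l2⟩ := mem_orb.1 ((mem_X0.1 h).2 a ha a (self_orb L a))
  have : (l⁻¹ * x) ^ p ∈ stabilizer G a :=
    pow_mem (by rw [mem_stabilizer_iff, mul_smul, ← l2, inv_smul_smul]) p
  rwa [(show Commute l⁻¹ x from mem_C.1 (mem_X0.1 h).1 _ (inv_mem l1)).mul_pow,
    hL.2 _ (inv_mem l1), one_mul] at this

theorem le_X0 (hp : p.Prime) (hM : ElAb p M) (ho : ∀ a : Ω, (stabilizer G a).relIndex M ∣ p)
    (hL : L ≤ M) : M ≤ X0 Ω L := fun m hm =>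
  mem_X0.2 ⟨le_C_symm (hL.trans hM.ab) hm, fun a ha => by
    have : orbit L a = orbit M a := Set.eq_of_subset_of_ncard_le (fun x hx => by
      obtain ⟨l, l1, rfl⟩ := mem_orb.1 hx
      exact smul_orb (hL l1) (self_orb M a)) (by
        rw [ncard_orbit, ncard_orbit]
        exact Nat.le_of_dvd (relIndex_pos _ _) ((ho a).trans
          (dvd_relIndex_of_not_le hp (hM.isPGroup.to_le hL) ha)))
    rw [this]
    exact fun x => smul_orb hm⟩

section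
variable [FaithfulSMul G Ω] (hp : p.Prime) (h : C3 p P M b) (hc : Nat.card M ≠ p)
include hp h hc

theorem C3.not_nrm (ha : a ∈ orbit P b) : ¬ Nrm P (M ⊓ stabilizer G a) := fun e => by
  have := card_stab M a
  rw [h.eq_bot ha inf_le_left inf_le_right e, h.long hp ha, card_bot, one_mul] at this
  exact hc this.symm

theorem C3.not_mem_N (ha : a ∈ orbit P b) {g : G} (h1 : g ∈ P) (h2 : g ∉ M) :
    ¬ M ⊓ stabilizer G a ≤ stabilizer G (g • a) := fun e => by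
  refine h.not_nrm hp hc ha (h.sup_eq hp h1 h2 ▸ Nrm.sup_left (h.el.ab.nrm inf_le_left)
    (nrm_zpowers_iff.2 (mem_N.2 (eq_of_le_of_card_eq ?_ (card_cj _ _).symm).symm)))
  rw [cj_inf, h.nrm.cj_eq h1, cj_stab]
  exact le_inf inf_le_left e

theorem C3.block (ha : a ∈ orbit P b) (h1 : M ⊓ stabilizer G a ≤ stabilizer G c) :
    c ∈ orbit M a ∨ M ≤ stabilizer G c := by
  refine or_iff_not_imp_right.2 fun e => ?_
  rw [h.fix, not_not, ← orb_eq ha] at e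
  obtain ⟨g, g1, rfl⟩ := mem_orb.1 e
  by_contra e2
  exact h.not_mem_N hp hc ha g1 (fun e3 => e2 (smul_orb e3 (self_orb M a))) h1

theorem C3.sylC (ha : a ∈ orbit P b) : SylIn p M (C (M ⊓ stabilizer G a)) := by
  have := Fact.mk hp
  obtain ⟨T, t1, t2⟩ := exists_sylIn_ge (H := C (M ⊓ stabilizer G a))
    (le_C_symm (inf_le_left.trans h.el.ab)) h.el.isPGroup
  obtain ⟨k, -, hk⟩ := h.syl.exists_le_cj le_top t2.isPGroup
  have e1 : cj k M = M := (eq_of_le_of_card_eq (h.toPM.U' (t1.trans hk) h.el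
    (Nat.le_mul_of_pos_left _ hp.pos)) (card_cj _ _).symm).symm
  rcases eq_or_eq_of_prime_relIndex (Y := cj k⁻¹ T) (h.idx.symm ▸ hp)
    (by rw [← cj_le_iff, e1]; exact t1) (le_cj_iff.1 hk) with e | e
  · rw [cj_eq_iff, inv_inv, e1] at e
    exact e ▸ t2
  · have k1 := inv_mem (mem_N.2 e1)
    refine (h.not_nrm hp hc (h.smul_mem k1 ha) (nrm_of_le_C ?_)).elim
    have := cj_mono (g := k⁻¹) t2.le
    rwa [e, cj_C, cj_inf, mem_N.1 k1, cj_stab] at this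

theorem C3.inf_D0 (ha : a ∈ orbit P b) : M ⊓ D0 Ω (M ⊓ stabilizer G a) = ⊥ := by
  by_contra e
  have i1 : (M ⊓ stabilizer G a).relIndex M = p := by rw [inf_relIndex_left, h.long hp ha]
  have e1 : M ⊓ D0 Ω (M ⊓ stabilizer G a) ⊔ M ⊓ stabilizer G a = M :=
    (eq_or_eq_of_prime_relIndex (i1.symm ▸ hp) le_sup_right
      (sup_le inf_le_left inf_le_left)).resolve_left fun e1 => e (eq_bot_of_fix (Ω := Ω) fun x => by
        by_cases e2 : M ⊓ stabilizer G a ≤ stabilizer G x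
        · exact (sup_eq_right.1 e1).trans e2
        · exact fun d hd => (mem_D0.1 (mem_inf.1 hd).2).2 x e2)
  obtain ⟨x, x1, x2⟩ := SetLike.not_le_iff_exists.1 fun e : P ≤ M =>
    hp.ne_one (h.idx.symm.trans (relIndex_eq_one.2 e))
  have x3 : ∀ w ∈ P, w ^ p ∈ M := fun w hw => h.idx ▸ pow_relIndex_mem' hw h.nrm
  obtain ⟨m, m1, l, l1, e2⟩ := (mem_sup_nrm (h.el.ab.nrm inf_le_left |>.mono inf_le_left)).1
    (e1.ge (inv_mem (x3 x x1)))
  have w1 : m * x ∈ P := mul_mem (h.le m1.1) x1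
  have w2 : m * x ∉ M := fun e => x2 ((mul_mem_cancel_left (mem_inf.1 m1).1).1 e)
  have w3 : ∀ i < p, (m * x) ^ i • a = x ^ i • a := fun i => by
    induction i with
    | zero => simp
    | succ i ih =>
      intro hi
      rw [pow_succ', mul_smul, ih (by omega), mul_smul, ← mul_smul x, ← pow_succ']
      refine (mem_D0.1 (mem_inf.1 m1).2).2 _ (h.not_mem_N hp hc ha (pow_mem x1 _) fun e => x2 ?_)
      exact mem_of_pow_mem_of_coprime' ((coprime_of_isPGroup_of_not_dvd hp h.syl.isPGroup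
        (Nat.not_dvd_of_pos_of_lt i.succ_pos hi)).coprime_dvd_left (orderOf_dvd_card' x1)) e
  refine h.ord _ w1 w2 (mem_bot.1 (h.eq_bot ha (zpowers_le.2 (x3 _ w1)) (zpowers_le.2 ?_) ?_ ▸
    mem_zpowers _))
  · obtain ⟨i, rfl⟩ := Nat.exists_eq_succ_of_ne_zero hp.ne_zero
    rw [mem_stabilizer_iff, pow_succ', mul_smul, w3 i i.lt_succ_self, mul_smul, ← mul_smul x,
      ← pow_succ', ← mul_smul, h.el.1 _ m1.1 _ (x3 x x1), eq_mul_inv_of_mul_eq e2.symm,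
      mul_inv_cancel_left]
    exact (mem_inf.1 (inv_mem l1)).2
  · rw [← h.sup_eq hp w1 w2]
    exact nrm_of_le_C (sup_le (le_C_symm ((zpowers_le.2 (x3 _ w1)).trans h.el.ab))
      (le_C_symm ((zpowers_le.2 (pow_mem (mem_zpowers _) _)).trans (ab_zpowers _))))

theorem C3.not_dvd_D0 (ha : a ∈ orbit P b) : ¬ p ∣ Nat.card (D0 Ω (M ⊓ stabilizer G a)) := by
  have := Fact.mk hp
  exact (((h.sylC hp hc ha).inf_nrm inf_le_left (nrm_D0.mono (C_le_N _))).eq_bot_iff hp).1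
    (h.inf_D0 hp hc ha)

theorem C3.exists_D0 (tr : ∀ x y : Ω, ∃ g ∈ (⊤ : Subgroup G), g • x = y) (ha : a ∈ orbit P b) :
    ∃ d ∈ D0 Ω (M ⊓ stabilizer G a), M ≤ stabilizer G (d • a) := by
  have := Fact.mk hp
  obtain ⟨z, hz⟩ := h.ne
  obtain ⟨g, -, hg⟩ := tr z a
  have s := (h.sylS z hz).cjj g
  rw [cj_stab, hg] at s
  obtain ⟨k, k1, k2⟩ := s.exists_le_cj (inf_le_right : M ⊓ stabilizer G a ≤ _)
    (h.el.isPGroup.to_le inf_le_left)
  have e1 := (h.el.cjj g).cjj k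
  have e2 := le_X0 hp h.el h.orb (inf_le_left (b := stabilizer G a))
  have s2 : SylIn p M (X0 Ω (M ⊓ stabilizer G a)) := (h.sylC hp hc ha).of_le e2 inf_le_left
  obtain ⟨c, c1, c2⟩ := (h.sylC hp hc ha).exists_le_cj (le_C_symm (k2.trans e1.ab)) e1.isPGroup
  obtain ⟨t, t1, t2⟩ := s2.exists_le_cj (c2.trans ((cj_mono e2).trans
    (nrm_X0.cj_eq (C_le_N _ c1)).le)) e1.isPGroup
  have n1 : Nrm (X0 Ω (M ⊓ stabilizer G a)) (D0 Ω (M ⊓ stabilizer G a)) :=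
    nrm_D0.mono (inf_le_left.trans (C_le_N _))
  obtain ⟨m, m1, d, d1, e3⟩ := s2.exists_mul D0_le_X0 n1 (fun x hx =>
    ⟨1, by rw [pow_one]; exact pow_X0 (h.el.mono inf_le_left) hx⟩) (inv_mem t1)
  refine ⟨d, d1, (le_stab_smul_iff (le_N M m1)).1 ?_⟩
  rw [← mul_smul, ← e3, ← cj_stab, ← cj_le_iff,
    ← eq_of_le_of_card_eq t2 (by rw [card_cj, card_cj, card_cj])]
  exact (s.cj_mem k1).le

theorem C3.orb_D0 (p2 : p ≠ 2) (tr : ∀ x y : Ω, ∃ g ∈ (⊤ : Subgroup G), g • x = y)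
    (ha : a ∈ orbit P b) : ∃ k, p + 1 = 2 ^ k ∧
      ∃ c, orbit (D0 Ω (M ⊓ stabilizer G a)) a = insert c (orbit M a) := by
  refine (lemJ hp p2 h.el.isPGroup (nrm_D0.mono (h.el.ab.nrm inf_le_left).le_N)
    (h.not_dvd_D0 hp hc ha) (h.long hp ha) fun d hd => h.block hp hc ha
      (le_stab_smul (C_le_N _ (mem_D0.1 hd).1) inf_le_right)).resolve_left fun e => ?_
  obtain ⟨d, d1, d2⟩ := h.exists_D0 hp hc tr ha
  obtain ⟨m, m1, m2⟩ := mem_orb.1 (e d1 a (self_orb M a))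
  exact (h.fix _).1 d2 (m2 ▸ smul_orb (h.le m1) ha)

end

theorem C3.compl (H : Hyp G Ω p q) (h : C3 p P M b) :
    ∃ j, (orbit P b)ᶜ.ncard = p * j ∧ p + j = 2 * q ∧ 0 < j := by
  have e1 := Set.ncard_add_ncard_compl (orbit P b)
  rw [ncard_orbit, h.hb, H.card] at e1
  obtain ⟨a, ha⟩ := h.ne
  have e2 := (Set.ncard_pos (Set.toFinite (orbit P b)ᶜ)).2 ⟨a, (h.fix a).1 ha⟩
  have e3 : p < 2 * q := Nat.lt_of_mul_lt_mul_left (a := p) (by nlinarith)
  obtain ⟨j, hj⟩ := Nat.exists_eq_add_of_le e3.le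
  exact ⟨j, by nlinarith, hj.symm, by omega⟩

theorem C3.card_eq [FaithfulSMul G Ω] (H : Hyp G Ω p q) (h : C3 p P M b) : Nat.card M = p := by
  by_contra hc
  obtain ⟨d, d1, d2⟩ := h.exists_D0 H.hp hc H.tr (self_orb P b)
  have := dc (orbit P b)ᶜ (orbit P b) (fun c a => c ∈ orbit (D0 Ω (M ⊓ stabilizer G a)) a)
    (m := p) (n := 1)
    (fun c hc => by
      have c1 := (h.fix c).2 hc
      obtain ⟨n, n1, n2⟩ := h.trN H.hp H.tr d2 c1
      refine (h.long H.hp (h.smul_mem n1 (self_orb P b))).ge.trans (orb_le fun m hm =>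
        ⟨smul_orb (h.le hm) (h.smul_mem n1 (self_orb P b)), mem_orb.2 ⟨m * n * d * (m * n)⁻¹, ?_, ?_⟩⟩)
      · have := conj_D0 (m * n) d1
        rwa [cj_inf, mem_N.1 (mul_mem (le_N M hm) n1), cj_stab, mul_smul] at this
      · rw [← mul_smul m, mul_smul, inv_smul_smul, mul_smul, mul_smul, n2]
        exact c1 hm)
    (fun a ha => by
      obtain ⟨k, -, c, e⟩ := h.orb_D0 H.hp hc H.p2 H.tr ha
      rw [← Set.ncard_singleton c]
      refine Set.ncard_le_ncard fun x hx => (Set.mem_insert_iff.1 (e ▸ hx.2)).resolve_right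
        fun e2 => hx.1 ?_
      obtain ⟨m, m1, rfl⟩ := mem_orb.1 e2
      exact smul_orb (h.le m1) ha)
  obtain ⟨j, j1, j2, j3⟩ := h.compl H
  obtain ⟨k, hk, -⟩ := h.orb_D0 H.hp hc H.p2 H.tr (self_orb P b)
  rw [j1, ncard_orbit, h.hb] at this
  have j4 : j ≤ 1 := Nat.le_of_mul_le_mul_left (by nlinarith) (Nat.mul_pos H.hp.pos H.hp.pos)
  exact H.q2 ((Nat.prime_dvd_prime_iff_eq H.hq Nat.prime_two).1 (H.hq.dvd_of_dvd_pow (n := k)
    ⟨2, by omega⟩))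

end CfsgH5.Elu
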