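import Cfsg.Agent.H5.El4

set_option autoImplicit false
set_option linter.unusedSectionVars false

/-! Elusive groups of degree `2pq`: cyclic Sylow `p`-subgroup of order `p²`, local structure. -/

namespace CfsgH5.Elu
open Subgroup CfsgH5 CfsgH6 CfsgFT CfsgH5.Der MulAction
open scoped commutatorElement

universe u
variable {G : Type u} [Group G] [Finite G] {Ω : Type*} [MulAction G Ω] [Finite Ω]
  {K S B T R W P M Q E L Y : Subgroup G} {p q r : ℕ} {a b c d : Ω}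
variable [FaithfulSMul G Ω] (H : Hyp G Ω p q) (h : C3 p P Y b)
include H h

theorem C3.cardP : Nat.card P = p ^ 2 := by
  rw [← card_mul_relIndex h.le, h.card_eq H, h.idx, sq]

theorem C3.abP : Ab P := ab_of_card_dvd_sq H.hp (h.cardP H).dvd

theorem C3.le_C : P ≤ C Y := (h.abP H).trans (C_anti h.le)

theorem C3.primeY : (Nat.card Y).Prime := (h.card_eq H).symm ▸ H.hp

theorem C3.pow_mem {u : G} (hu : u ∈ P) : u ^ p ∈ Y := h.idx ▸ pow_relIndex_mem' hu h.nrm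

theorem C3.ex : ∃ x ∈ P, x ∉ Y := SetLike.not_le_iff_exists.1 fun e : P ≤ Y =>
  H.hp.ne_one (h.idx.symm.trans (relIndex_eq_one.2 e))

theorem C3.eq_zp {u : G} (h1 : u ∈ P) (h2 : u ∉ Y) : Y = zpowers (u ^ p) :=
  eq_zpowers_of_prime_card (h.primeY H) (h.pow_mem H h1) (h.ord u h1 h2)

theorem C3.cyc : IsCyclic P := by
  obtain ⟨x, x1, x2⟩ := h.ex H
  rw [← h.sup_eq H.hp x1 x2, sup_eq_right.2 (h.eq_zp H x1 x2 ▸ zpowers_le.2
    (Subgroup.pow_mem _ (mem_zpowers x) p))]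
  infer_instance

theorem C3.cent {u n : G} (h1 : u ∈ P) (h2 : u ∉ Y) (h3 : ⁅n, u⁆ ∈ Y) : n ∈ C Y := by
  rw [h.eq_zp H h1 h2, C_zpowers, mem_C1_iff_conj, ← conj_pow]
  have e : n * u * n⁻¹ = ⁅n, u⁆ * u := by rw [commutatorElement_def]; group
  rw [e, (show Commute _ u from (h.abP H).comm (h.le h3) h1).mul_pow, h.el.2 _ h3, one_mul]

theorem C3.stab_long (ha : a ∈ orbit P b) : P ⊓ stabilizer G a = ⊥ := by
  have := card_stab P a
  rw [← ncard_orbit, orb_eq ha, ncard_orbit, h.hb, h.cardP H] at this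
  exact card_eq_one_iff.1 (Nat.eq_of_mul_eq_mul_right (pow_pos H.hp.pos 2) (by rw [this, one_mul]))

theorem C3.stab_short (ha : Y ≤ stabilizer G a) : P ⊓ stabilizer G a = Y :=
  le_antisymm (fun g hg => by_contra fun e => h.fpf g hg.1 e a hg.2) (le_inf h.le ha)

theorem C3.lemK [K.Normal] (hK : P ⊓ K = Y) : False := by
  have := Fact.mk H.hp
  have s : SylIn p Y K := hK ▸ h.syl.inf_nrm le_top (Nrm.of_normal _ _)
  obtain ⟨x, x1, x2⟩ := h.ex H
  have e1 : K ⊓ N Y ≤ C Y := by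
    have e := frattini_arg H.hp (K := (K ⊔ P) ⊓ N Y ⊓ C Y) (M := (K ⊔ P) ⊓ N Y)
      (h.syl.of_le (le_inf (le_inf le_sup_right h.nrm.le_N) (h.le_C H)) le_top)
      ((NormalIn.refl _).inf ((nrm_N_C Y).mono inf_le_right))
    refine (inf_le_inf_right _ (le_sup_left (b := P))).trans (e.ge.trans
      (sup_le inf_le_right fun n hn => h.cent H x1 x2 (hK ▸ mem_inf.2 ⟨?_, ?_⟩)))
    · exact B45.comm_mem_right x1 (mem_inf.1 hn).2
    · exact D_sup_le (Nrm.self K) (Nrm.of_normal P K) (D_le K) (D_eq_bot.2 (h.abP H) ▸ bot_le)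
        (Nrm.of_normal P K).comm_le_left
        (commutator_mem_commutator (mem_inf.1 (mem_inf.1 hn).1).1 (mem_sup_right x1))
  have e2 := s.sdp_of_le_C H.hp e1
  have n1 : Nrm ⊤ (Opc p K) := (Nrm.of_normal ⊤ K).Opi _
  obtain ⟨z, hz⟩ := h.ne
  obtain ⟨g, g1, g2⟩ := H.tr z b
  rw [← frattini_arg H.hp s (normalIn_top.2 inferInstance), ← e2.sup, top_inf_eq, sup_assoc,
    sup_eq_right.2 (le_N Y)] at g1
  obtain ⟨o, o1, n, n2, rfl⟩ := (mem_sup_nrm' (n1.mono le_top)).1 g1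
  have a1 := le_stab_smul n2 hz
  rw [mul_smul] at g2
  have a2 : n • z ∈ orbit (Opc p K) b := by
    rw [← g2, orb_eq (smul_orb o1 (self_orb _ _))]; exact self_orb _ _
  have a3 : n • z ∉ orbit Y b := fun e => (h.fix _).1 a1 (by
    obtain ⟨y, y1, y2⟩ := mem_orb.1 e
    exact y2 ▸ smul_orb (h.le y1) (self_orb P b))
  have e3 : (orbit (Opc p K) b).ncard ∣ 2 * q := by
    have := relIndex_dvd_of_normalIn (H := stabilizer G b) le_top ⟨le_top, n1⟩
    rw [stab_top H.tr, H.card, mul_right_comm] at this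
    rw [ncard_orbit]
    exact (((Nat.Prime.coprime_iff_not_dvd H.hp).2 (not_dvd_card_Opc H.hp K)).symm.coprime_dvd_left
      (relIndex_dvd_card' _ _)).dvd_of_dvd_mul_right this
  have i1 := h.long H.hp (self_orb P b)
  have i2 : Y ≤ SS G (orbit (Opc p K) b) := orb_eq a2 ▸ orb_nrm (n1.mono le_top) a1
  rcases lemJ H.hp H.p2 h.el.isPGroup (n1.mono le_top) (not_dvd_card_Opc H.hp K) i1 (fun d hd => by
    by_contra e
    rw [not_or, h.fix, not_not] at e
    have e4 : Disjoint (orbit Y b) (orbit Y (d • b)) := Set.disjoint_left.2 fun x h1 h2 =>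
      e.1 (by rw [← orb_eq h1, orb_eq h2]; exact self_orb _ _)
    have e5 := Set.ncard_le_ncard (s := orbit Y b ∪ orbit Y (d • b)) (t := orbit (Opc p K) b)
      (Set.union_subset (fun x hx => by
        obtain ⟨y, y1, rfl⟩ := mem_orb.1 hx
        exact i2 y1 _ (self_orb _ _)) fun x hx => by
        obtain ⟨y, y1, rfl⟩ := mem_orb.1 hx
        exact i2 y1 _ (smul_orb hd (self_orb _ _)))
    rw [Set.ncard_union_eq e4, ncard_orbit, ncard_orbit, i1, h.long H.hp e.2] at e5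
    have := Nat.le_of_dvd (by have := H.q3; omega) e3
    have := H.lt
    omega) with e | ⟨k, hk, c, e⟩
  · exact a3 (by simpa [← g2] using e (inv_mem o1) b (self_orb _ _))
  · rw [e] at a2
    rw [e, ← (Set.mem_insert_iff.1 a2).resolve_right a3, Set.ncard_insert_of_notMem a3,
      ncard_orbit, i1, hk] at e3
    have := H.p5
    obtain ⟨k, rfl⟩ : ∃ j, k = j + 2 := Nat.exists_eq_add_of_le' (by
      by_contra e
      interval_cases k <;> omega)
    obtain ⟨i, hi⟩ := H.hq.odd_of_ne_two H.q2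
    obtain ⟨t, ht⟩ := (Dvd.intro_left _ (pow_add 2 k 2).symm).trans e3
    omega

theorem C3.sylC' : SylIn p P (C Y) := h.syl.of_le (h.le_C H) le_top

theorem C3.sdp : SDP (Opc p (C Y)) P (C Y) :=
  (h.sylC' H).sdp_of_le_C H.hp (le_of_forall_isPGroup fun r hr Q hQ => by
    have n1 : Nrm Q P := nrm_of_le_N (hQ.le.trans inf_le_right)
    by_cases e : r = p
    · exact (h.syl.le_of_nrm' H.hp le_top (e ▸ hQ.isPGroup) n1).trans (h.abP H)
    · refine (le_C_or_inf_C_eq_bot H.hp (h.cyc H) h.syl.isPGroup n1 fun e2 => e ?_).resolve_right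
        fun e2 => ne_bot_of_prime_card (h.primeY H) (le_bot_iff.1 (e2 ▸ le_inf h.le
          (le_C_symm (hQ.le.trans inf_le_left))))
      obtain ⟨k, hk⟩ := exists_card_eq_pow hr hQ.isPGroup
      exact ((Nat.prime_dvd_prime_iff_eq H.hp hr).1 (H.hp.dvd_of_dvd_pow (hk ▸ e2))).symm)

theorem C3.le_O (h1 : Q ≤ C Y) (h2 : ¬ p ∣ Nat.card Q) : Q ≤ Opc p (C Y) :=
  le_of_coprime_relIndex h1 (nrm_Opc p _) (by
    rw [(h.sdp H).relIndex_left]
    exact (coprime_of_isPGroup_of_not_dvd H.hp h.syl.isPGroup h2).symm)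

theorem C3.O_fix (ha : a ∈ orbit P b) : Opc p (C Y) ≤ stabilizer G a := by
  have e1 := relIndex_dvd_of_normalIn (H := C Y ⊓ stabilizer G a) inf_le_left (normalIn_Opc p (C Y))
  have e2 : orbit (C Y) a = orbit P b := Set.Subset.antisymm (fun x hx => by
    obtain ⟨g, g1, rfl⟩ := mem_orb.1 hx
    exact h.smul_mem (C_le_N Y g1) ha) fun x hx => by
    obtain ⟨g, g1, rfl⟩ := mem_orb.1 (orb_eq ha ▸ hx : x ∈ orbit P a)
    exact smul_orb (h.le_C H g1) (self_orb _ _)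
  rw [inf_relIndex_left, ← ncard_orbit, e2, ncard_orbit, h.hb] at e1
  exact (relIndex_eq_one.1 (Nat.eq_one_of_dvd_coprimes (((Nat.Prime.coprime_iff_not_dvd H.hp).2
    (not_dvd_card_Opc H.hp (C Y))).pow_left 2) e1 (relIndex_dvd_card' _ _))).trans inf_le_right

theorem C3.mem_Y {z : G} (h1 : z ∈ C Y) (h2 : z ^ p = 1) : z ∈ Y := by
  have := Fact.mk H.hp
  obtain ⟨c, c1, c2⟩ := (h.sylC' H).exists_le_cj (zpowers_le.2 h1) (elAb_zpowers h2).isPGroup
  exact mem_of_isCyclic_of_pow (isCyclic_cj (h.cyc H) c) (cj_of_mem_C c1 ▸ cj_mono h.le)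
    (c2 (mem_zpowers z)) ((h.card_eq H).symm ▸ h2)

theorem C3.ti {x g : G} (h1 : x ∈ C Y) (h2 : x ∉ Opc p (C Y)) (h3 : g * x * g⁻¹ ∈ C Y) :
    g ∈ N Y := by
  obtain ⟨z, z1, z2⟩ := exists_mem_orderOf_eq (X := zpowers x) H.hp (by_contra fun e =>
    h2 (h.le_O H (zpowers_le.2 h1) e (mem_zpowers x)))
  have z3 : z ^ p = 1 := z2 ▸ pow_orderOf_eq_one z
  have z4 : z ≠ 1 := fun e => H.hp.ne_one (by rw [← z2, e, orderOf_one])
  have e := eq_zpowers_of_prime_card (h.primeY H) (h.mem_Y H (zpowers_le.2 h1 z1) z3) z4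
  refine mem_N_of_cj_le ?_
  rw [e, cj_zpowers, ← e, zpowers_le]
  refine h.mem_Y H (zpowers_le.2 h3 ?_) (by rw [conj_pow, z3, mul_one, mul_inv_cancel])
  rw [← cj_zpowers]
  exact mem_cj'.2 ⟨z, z1, rfl⟩

theorem C3.C_long (ha : a ∈ orbit P b) {g : G} (h1 : g ∈ C Y) (h2 : g • a = a) :
    g ∈ Opc p (C Y) := by
  obtain ⟨u, u1, o, o1, rfl⟩ := (h.sdp H).exists_mul' h1
  rw [mul_smul, mem_stabilizer_iff.1 (h.O_fix H ha o1)] at h2
  rwa [mem_bot.1 ((h.stab_long H ha).le (mem_inf.2 ⟨u1, h2⟩)), one_mul]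

theorem C3.C_short (ha : Y ≤ stabilizer G a) : C Y ⊓ stabilizer G a ≤ Opc p (C Y) ⊔ Y :=
  le_of_forall_isPGroup fun r hr Q hQ => by
    by_cases e : r = p
    · exact ((h.sylS a ha).le_of_nrm' H.hp (hQ.le.trans inf_le_right) (e ▸ hQ.isPGroup)
        (nrm_of_le_C (hQ.le.trans inf_le_left))).trans le_sup_right
    · refine (h.le_O H (hQ.le.trans inf_le_left) fun e2 => e ?_).trans le_sup_left
      obtain ⟨k, hk⟩ := exists_card_eq_pow hr hQ.isPGroup
      exact ((Nat.prime_dvd_prime_iff_eq H.hp hr).1 (H.hp.dvd_of_dvd_pow (hk ▸ e2))).symm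

end CfsgH5.Elu
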