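import Cfsg.Agent.H5.El5

set_option autoImplicit false
set_option linter.unusedSectionVars false

/-! Elusive groups of degree `2pq`: cyclic Sylow `p`-subgroup of order `p²`, doubly transitive case. -/

namespace CfsgH5.Elu
open Subgroup CfsgH5 CfsgH6 CfsgFT CfsgH5.Der MulAction
open scoped commutatorElement

universe u
variable {G : Type u} [Group G] [Finite G] {Ω : Type*} [MulAction G Ω] [Finite Ω]
  {K S B T R W P M Q E L Y : Subgroup G} {p q r : ℕ} {a b c d : Ω}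

/-- `Y`-invariant Sylow `2`-subgroup of the normal `p`-complement of a two point stabilizer -/
def Tp (p : ℕ) (Y : Subgroup G) (a c : Ω) (T : Subgroup G) : Prop :=
  SylIn 2 T (Opc p (stabilizer G a ⊓ stabilizer G c)) ∧ Nrm Y T

theorem Tp.symm (h : Tp p Y a c T) : Tp p Y c a T := by rwa [Tp, inf_comm]

theorem Tp.cjj (h : Tp p Y a c T) {n : G} (hn : n ∈ N Y) : Tp p Y (n • a) (n • c) (cj n T) :=
  ⟨by rw [← cj_stab, ← cj_stab, ← cj_inf, ← cj_Opc]; exact h.1.cjj n, mem_N.1 hn ▸ h.2.cjj n⟩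

theorem Tp.le (h : Tp p Y a c T) : T ≤ stabilizer G a := h.1.le.trans ((Opc_le _ _).trans inf_le_left)

variable [FaithfulSMul G Ω] (H : Hyp G Ω p q) (h : C3 p P Y b)
  (h2 : ∀ a b c d : Ω, a ≠ b → c ≠ d → ∃ g : G, g • a = c ∧ g • b = d)
include H h h2

theorem C3.N2 {a' c' : Ω} (ha : Y ≤ stabilizer G a) (hc : Y ≤ stabilizer G c)
    (ha' : Y ≤ stabilizer G a') (hc' : Y ≤ stabilizer G c') (e : a ≠ c) (e' : a' ≠ c') :
    ∃ n ∈ N Y, n • a = a' ∧ n • c = c' := by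
  have := Fact.mk H.hp
  obtain ⟨g, rfl, rfl⟩ := h2 a c a' c' e e'
  have s := ((h.sylS a ha).of_le (le_inf ha hc) inf_le_left).cjj g
  rw [cj_inf, cj_stab, cj_stab] at s
  obtain ⟨k, k1, k2⟩ := s.conj ((h.sylS _ ha').of_le (le_inf ha' hc') inf_le_left)
  exact ⟨k * g, mem_N.2 (by rw [← cj_cj, k2]), by rw [mul_smul]; exact k1.1,
    by rw [mul_smul]; exact k1.2⟩

theorem C3.prim (h1 : NormalIn K (N Y)) (ha : Y ≤ stabilizer G a) (hK : ¬ K ≤ stabilizer G a) :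
    orbit K a = (orbit P b)ᶜ := by
  refine Set.Subset.antisymm (fun x hx => ?_) fun x hx => ?_
  · obtain ⟨k, k1, rfl⟩ := mem_orb.1 hx
    exact (h.fix _).1 (le_stab_smul (h1.le k1) ha)
  · obtain ⟨k, k1, k2⟩ := SetLike.not_le_iff_exists.1 hK
    by_cases e : a = x
    · exact e ▸ self_orb K a
    obtain ⟨n, n1, n2, n3⟩ := h.N2 H h2 ha (le_stab_smul (h1.le k1) ha) ha ((h.fix x).2 hx)
      (Ne.symm k2) e
    exact mem_orb.2 ⟨_, h1.nrm n n1 k k1, by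
      rw [mul_smul, mul_smul, ← n3, inv_smul_eq_iff.2 n2.symm]⟩

theorem C3.C_eq : C Y = P := by
  rw [← (h.sdp H).sup, eq_bot_of_fix (Ω := Ω) (W := Opc p (C Y)) fun x => ?_, bot_sup_eq]
  by_cases e : x ∈ orbit P b
  · exact h.O_fix H e
  by_contra e2
  obtain ⟨j, j1, -⟩ := h.compl H
  rw [← h.prim H h2 ⟨(Opc_le _ _).trans (C_le_N Y), (nrm_N_C Y).Opi _⟩ ((h.fix x).2 e) e2,
    ncard_orbit] at j1
  exact not_dvd_card_Opc H.hp _ ((Dvd.intro _ j1.symm).trans (relIndex_dvd_card' _ _))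

theorem C3.orbP (ha : Y ≤ stabilizer G a) : orbit P a = (orbit P b)ᶜ :=
  h.prim H h2 ⟨h.nrm.le_N, h.C_eq H h2 ▸ nrm_N_C Y⟩ ha (H.not_le h.syl a)

theorem C3.num : (orbit P b)ᶜ.ncard = p ∧ p + 1 = 2 * q := by
  obtain ⟨a, ha⟩ := h.ne
  obtain ⟨j, j1, j2, -⟩ := h.compl H
  have e := H.short h.syl h.hb ((h.fix a).1 ha)
  rw [← ncard_orbit, h.orbP H h2 ha] at e
  have : j = 1 := Nat.eq_of_mul_eq_mul_left H.hp.pos (by rw [← j1, e, mul_one])
  exact ⟨e, this ▸ j2⟩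

theorem C3.N_two (ha : Y ≤ stabilizer G a) (hc : Y ≤ stabilizer G c) (e : a ≠ c) {n : G}
    (h1 : n ∈ N Y) (n1 : n • a = a) (n2 : n • c = c) : n ∈ Y := by
  obtain ⟨u, u1, rfl⟩ := mem_orb.1 ((h.orbP H h2 ha).ge ((h.fix c).1 hc))
  have u2 : u ∉ Y := fun e2 => e (ha e2).symm
  have n3 : n ∈ N P := h.C_eq H h2 ▸ (nrm_N_C Y).le_N h1
  have := h.cent H u1 u2 (n := n) ((h.stab_short H hc).le (mem_inf.2
    ⟨B45.comm_mem_right u1 n3, by
      rw [mem_stabilizer_iff, commutatorElement_def, mul_smul, mul_smul, mul_smul, inv_smul_smul,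
        inv_smul_eq_iff.2 n1.symm, n2]⟩))
  exact (h.stab_short H ha).le (mem_inf.2 ⟨(h.C_eq H h2).le this, n1⟩)

theorem C3.sdpW (ha : Y ≤ stabilizer G a) (hc : Y ≤ stabilizer G c) (e : a ≠ c) :
    SDP (Opc p (stabilizer G a ⊓ stabilizer G c)) Y (stabilizer G a ⊓ stabilizer G c) :=
  ((h.sylS a ha).of_le (le_inf ha hc) inf_le_left).sdp_of_le_C H.hp fun _ hn =>
    h.el.ab (h.N_two H h2 ha hc e hn.2 hn.1.1 hn.1.2)

theorem C3.U_inf (ha : Y ≤ stabilizer G a) (hc : Y ≤ stabilizer G c) (e : a ≠ c) {k : G}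
    (hk : k ∈ Opc p (stabilizer G a ⊓ stabilizer G c) ⊓ C Y) : k = 1 :=
  mem_bot.1 ((h.sdpW H h2 ha hc e).inf.le (mem_inf.2 ⟨hk.1, h.N_two H h2 ha hc e (C_le_N Y hk.2)
    (Opc_le _ _ hk.1).1 (Opc_le _ _ hk.1).2⟩))

theorem C3.Tp_unique (ha : Y ≤ stabilizer G a) (hc : Y ≤ stabilizer G c) (e : a ≠ c)
    (h3 : Tp p Y a c T) (h4 : Tp p Y a c S) : S = T := by
  obtain ⟨k, k1, k2⟩ := sylIn_conj_of_coprime (h.sdpW H h2 ha hc e).nrm
    (coprime_of_isPGroup_of_not_dvd H.hp h.el.isPGroup (not_dvd_card_Opc H.hp _)).symm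
    (Or.inr (solvable_of_isPGroup H.hp h.el.isPGroup)) Nat.prime_two h3.1 h4.1 h3.2 h4.2
  rw [k2, h.U_inf H h2 ha hc e k1, cj_one]

theorem C3.not_dvd_T (h3 : Tp p Y a c T) : ¬ p ∣ Nat.card T := fun e =>
  not_dvd_card_Opc H.hp _ (e.trans (card_dvd_of_le' h3.1.le))

theorem C3.Tp_move (ha : Y ≤ stabilizer G a) (hc : Y ≤ stabilizer G c) (hd : Y ≤ stabilizer G d)
    (e : a ≠ c) (e' : a ≠ d) (h3 : Tp p Y a c T) (h4 : T ≤ stabilizer G d) :
    ∃ n ∈ N Y ⊓ N T, n • a = a ∧ n • c = d := by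
  have := Fact.mk Nat.prime_two
  obtain ⟨n, n1, n2, n3⟩ := h.N2 H h2 ha hc ha hd e e'
  have h5 := h3.cjj n1
  rw [n2, n3] at h5
  refine ⟨n, mem_inf.2 ⟨n1, mem_N.2 (h.Tp_unique H h2 ha hd e' ⟨h5.1.of_card_le
    (le_of_coprime_relIndex (le_inf h3.le h4) (nrm_Opc p _) ?_) h3.1.isPGroup (card_cj _ _).le,
      h3.2⟩ h5)⟩, n2, n3⟩
  rw [(h.sdpW H h2 ha hd e').relIndex_left]
  exact (coprime_of_isPGroup_of_not_dvd H.hp h.el.isPGroup (h.not_dvd_T H h2 h3)).symm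

theorem C3.T_ne (ha : Y ≤ stabilizer G a) (hc : Y ≤ stabilizer G c) (e : a ≠ c)
    (h3 : Tp p Y a c T) : T ≠ ⊥ := by
  refine h3.1.ne_bot Nat.prime_two ?_
  have e1 : orbit ↥(N Y ⊓ stabilizer G a) c = (orbit P b)ᶜ \ {a} := Set.Subset.antisymm
    (fun x hx => by
      obtain ⟨g, g1, rfl⟩ := mem_orb.1 hx
      exact ⟨(h.fix _).1 (le_stab_smul g1.1 hc), fun e2 =>
        e (MulAction.injective g ((mem_inf.1 g1).2.trans e2.symm))⟩)
    fun x hx => by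
      obtain ⟨n, n1, n2, n3⟩ := h.N2 H h2 ha hc ha ((h.fix x).2 hx.1) e (Ne.symm hx.2)
      exact mem_orb.2 ⟨n, mem_inf.2 ⟨n1, n2⟩, n3⟩
  have e2 : orbit (stabilizer G a) c = Set.univ \ {a} := Set.Subset.antisymm
    (fun x hx => by
      obtain ⟨g, g1, rfl⟩ := mem_orb.1 hx
      exact ⟨trivial, fun e2 => e (MulAction.injective g (g1.trans e2.symm))⟩)
    fun x hx => by
      obtain ⟨n, n2, n3⟩ := h2 a c a x e (Ne.symm hx.2)
      exact mem_orb.2 ⟨n, n2, n3⟩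
  have e3 := (relIndex_dvd_card' (stabilizer G c) (N Y ⊓ stabilizer G a)).trans
    (card_dvd_of_le' inf_le_right)
  rw [← ncard_orbit, e1, Set.ncard_diff_singleton_of_mem ((h.fix a).1 ha), (h.num H h2).1,
    ← card_stab _ c, ← ncard_orbit, e2, Set.ncard_diff_singleton_of_mem (Set.mem_univ a),
    Set.ncard_univ, H.card, ← (h.sdpW H h2 ha hc e).card, h.card_eq H] at e3
  obtain ⟨i, hi⟩ := H.hp.odd_of_ne_two H.p2
  have e4 := Nat.mul_pos H.hp.pos H.hq.pos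
  rcases (Nat.prime_two.dvd_mul).1 ((show 2 ∣ p - 1 by omega).trans e3) with e5 | e5
  · exact ((Nat.prime_two.dvd_mul).1 e5).resolve_right (by omega)
  · rw [mul_assoc] at e5
    omega

theorem C3.caseA (ha : Y ≤ stabilizer G a) (hc : Y ≤ stabilizer G c) (hd : Y ≤ stabilizer G d)
    (e : a ≠ c) (e' : a ≠ d) (e'' : c ≠ d) (h3 : Tp p Y a c T) (h4 : T ≤ stabilizer G d) :
    False := by
  obtain ⟨n, n1, n2, n3⟩ := h.Tp_move H h2 ha hc hd e e' h3 h4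
  obtain ⟨m, m1, m2, m3⟩ := h.Tp_move H h2 hc ha hd e.symm e'' h3.symm h4
  have w1 : ⁅n, m⁆ ∈ P := (h.C_eq H h2).le (D_le_C_of_isCyclic
    (isCyclic_of_prime_card' (h.primeY H)) (nrm_N Y) (commutator_mem_commutator n1.1 m1.1))
  have w2 : ⁅n, m⁆ ∉ Y := fun w => by
    have e1 := mem_stabilizer_iff.1 (hc w)
    rw [commutatorElement_def, mul_smul, mul_smul, mul_smul, inv_smul_eq_iff.2 m2.symm,
      ← eq_inv_smul_iff] at e1
    have := h.N_two H h2 hc (le_stab_smul (inv_mem (mem_inf.1 n1).1) hc)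
      (fun e2 => e'' ((eq_inv_smul_iff.1 e2).symm.trans n3)) m1.1 m2 e1
    exact e' ((ha this).symm.trans m3)
  have w3 : P ≤ N T := h.sup_eq H.hp w1 w2 ▸ sup_le h3.2.le_N (zpowers_le.2
    (D_le _ (commutator_mem_commutator (mem_inf.1 n1).2 (mem_inf.1 m1).2)))
  have f1 : ∀ x y : Ω, T ≤ stabilizer G x → y ∈ orbit P x → T ≤ stabilizer G y := fun x y hx hy => by
    obtain ⟨k, k1, rfl⟩ := mem_orb.1 hy
    exact le_stab_smul (w3 k1) hx
  have f2 : ∀ y : Ω, y ∉ orbit P b → T ≤ stabilizer G y := fun y hy =>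
    f1 a y h3.le ((h.orbP H h2 ha).ge hy)
  obtain ⟨x, x1, x2⟩ := exists_fix (Φ := orbit P b) Nat.prime_two h3.1.isPGroup
    (fun g hg x hx => by_contra fun e1 => e1 (by
      rwa [smul_left_cancel g (mem_stabilizer_iff.1 (f2 _ e1 hg))]))
    (by rw [ncard_orbit, h.hb]
        exact fun e1 => H.p2 ((Nat.prime_dvd_prime_iff_eq Nat.prime_two H.hp).1
          (Nat.prime_two.dvd_of_dvd_pow e1)).symm)
  refine h.T_ne H h2 ha hc e h3 (eq_bot_of_fix (Ω := Ω) fun y => ?_)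
  by_cases e1 : y ∈ orbit P b
  · exact f1 x y x2 (orb_eq x1 ▸ e1)
  · exact f2 y e1

theorem C3.not_two : False := by
  obtain ⟨n1, n2⟩ := h.num H h2
  have p5 := H.p5
  obtain ⟨a, c, a1, c1, e⟩ := (Set.one_lt_ncard_iff (Set.toFinite (orbit P b)ᶜ)).1 (by omega)
  have ha := (h.fix a).2 a1
  have hc := (h.fix c).2 c1
  obtain ⟨T, h3⟩ : ∃ T, Tp p Y a c T := exists_sylIn_nrm_of_coprime (h.sdpW H h2 ha hc e).nrm
    (coprime_of_isPGroup_of_not_dvd H.hp h.el.isPGroup (not_dvd_card_Opc H.hp _)).symm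
    (Or.inr (solvable_of_isPGroup H.hp h.el.isPGroup)) Nat.prime_two
  have f : ∀ d : Ω, d ∉ orbit P b → ∀ x ∈ orbit T d, x ∉ orbit P b → x = d := fun d hd x h4 hx => by
    obtain ⟨t, t1, rfl⟩ := mem_orb.1 h4
    obtain ⟨k, k1, k2⟩ := lemG H.hp h.el.isPGroup h3.2 (h.not_dvd_T H h2 h3) ((h.fix d).2 hd) t1
      ((h.fix _).2 hx)
    rw [← k2, h.U_inf H h2 ha hc e (mem_inf.2 ⟨h3.1.le k1.1, k1.2⟩), one_smul]
  have := dc ((orbit P b)ᶜ \ {a, c}) (orbit P b) (fun d x => x ∈ orbit T d) (m := 2 * p) (n := 1)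
    (fun d hd => by
      have hd' := (h.fix d).2 hd.1
      have e1 : {x | x ∈ orbit P b ∧ x ∈ orbit T d} = orbit T d \ {d} := Set.Subset.antisymm
        (fun x hx => ⟨hx.2, fun e1 => hd.1 (e1 ▸ hx.1)⟩)
        fun x hx => ⟨by_contra fun e1 => hx.2 (f d hd.1 x hx.1 e1), hx.1⟩
      obtain ⟨i, hi⟩ : p ∣ {x | x ∈ orbit P b ∧ x ∈ orbit T d}.ncard :=
        dvd_ncard p Y _ (fun y hy x hx => ⟨smul_orb (h.le hy) hx.1, orb_nrm h3.2 hd' hy x hx.2⟩)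
          fun x hx => (h.long H.hp hx.1).symm.dvd
      obtain ⟨k, hk⟩ := exists_relIndex_eq_pow Nat.prime_two h3.1.isPGroup (stabilizer G d)
      have e2 := hi
      rw [e1, Set.ncard_diff_singleton_of_mem (self_orb T d), ncard_orbit, hk] at e2
      have e3 : 2 ^ k ≠ 1 := fun e3 => h.caseA H h2 ha hc hd' e
        (fun e4 => hd.2 (Or.inl e4.symm)) (fun e4 => hd.2 (Or.inr e4.symm)) h3
        (relIndex_eq_one.1 (hk.trans e3))
      have e4 : 2 ^ k ≠ q * 2 := fun e4 => H.q2 ((Nat.prime_dvd_prime_iff_eq H.hq Nat.prime_two).1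
        (H.hq.dvd_of_dvd_pow (n := k) ⟨2, e4⟩))
      have e5 := Nat.two_pow_pos k
      have : 2 ≤ i := by
        by_contra e6
        interval_cases i <;> omega
      rw [hi, mul_comm]
      exact Nat.mul_le_mul_left _ this)
    (fun x _ => (Set.ncard_le_one_iff (Set.toFinite _)).2 fun {d d'} hd hd' =>
      f d' hd'.1.1 d (by rw [← orb_eq hd'.2, orb_eq hd.2]; exact self_orb T d) hd.1.1)
  have e1 := Set.ncard_le_ncard_diff_add_ncard (orbit P b)ᶜ {a, c}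
  have e2 : ({a, c} : Set Ω).ncard ≤ 2 := by rw [Set.ncard_pair e]
  rw [ncard_orbit, h.hb] at this
  nlinarith

end CfsgH5.Elu
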