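import Cfsg.Agent.H5.Der4
import Cfsg.Agent.L.Char9

set_option autoImplicit false
set_option linter.unusedSectionVars false

/-! Characters restricted to a TI set lying over an abelian quotient. -/

namespace CfsgH5.Elu
open Subgroup CfsgH5 CfsgH6 CfsgFT CfsgH5.Der Cfsg CfsgL MulAction
open scoped ComplexConjugate

universe u

theorem dich {I : Type*} [Fintype I] (c : I → ℕ) (a : ℕ) {p e : ℕ} (hI : Fintype.card I = p ^ 2)
    (he : e + 1 ≤ p) (hV : p ^ 2 * ∑ i, c i ^ 2 < (∑ i, c i) ^ 2 + p ^ 2 * e) :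
    (Finset.univ.filter fun i => c i ≠ a).card ≤ e ∨
      p ^ 2 ≤ (Finset.univ.filter fun i => c i ≠ a).card + e := by
  set s := Finset.univ.filter fun i => c i ≠ a with hs
  have z : ∀ i ∈ Finset.univ, i ∉ s → (c i : ℤ) - a = 0 := fun i _ hi => by
    simp only [hs, Finset.mem_filter, Finset.mem_univ, true_and, not_not] at hi
    simp [hi]
  have h1 := sq_sum_le_card_mul_sum_sq (s := s) (f := fun i => (c i : ℤ) - a)
  have h2 : (s.card : ℤ) ≤ ∑ i ∈ s, ((c i : ℤ) - a) ^ 2 := by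
    rw [Finset.card_eq_sum_ones, Nat.cast_sum]
    refine Finset.sum_le_sum fun i hi => ?_
    have : (c i : ℤ) - a ≠ 0 := sub_ne_zero.2 (by exact_mod_cast (Finset.mem_filter.1 hi).2)
    exact_mod_cast (one_le_sq_iff_one_le_abs _).2 (Int.one_le_abs this)
  rw [Finset.sum_subset s.subset_univ fun i h1 h2 => by rw [z i h1 h2]; simp] at h2
  rw [Finset.sum_subset s.subset_univ z,
    Finset.sum_subset s.subset_univ fun i h1 h2 => by rw [z i h1 h2]; simp] at h1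
  have h3 : s.card ≤ p ^ 2 := hI ▸ s.card_le_univ
  simp only [sub_sq, Finset.sum_add_distrib, Finset.sum_sub_distrib, Finset.sum_const,
    Finset.card_univ, hI, nsmul_eq_mul, mul_assoc, ← Finset.mul_sum, ← Finset.sum_mul] at h1 h2
  by_contra hc
  push Not at hc
  obtain ⟨h4, h5⟩ := hc
  zify at hV h3 h4 h5 he
  push_cast at h1 h2
  generalize (∑ i, (c i : ℤ) ^ 2) = X at *
  generalize (∑ i, (c i : ℤ)) = S at *
  generalize (s.card : ℤ) = u at *
  have e1 : (u - e - 1) * (p ^ 2 - e - 1 - u) ≥ 0 := mul_nonneg (by omega) (by omega)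
  have e2 : (p ^ 2 - u : ℤ) * u ≤ (p ^ 2 - u) * (X - 2 * (S * a) + p ^ 2 * a ^ 2) :=
    mul_le_mul_of_nonneg_left h2 (by omega)
  have e3 : ((e : ℤ) + 1) ^ 2 ≤ p ^ 2 := pow_le_pow_left₀ (by omega) he 2
  nlinarith

theorem comb {X I : Type*} [Fintype X] [Fintype I] {p e : ℕ} (hI : Fintype.card I = p ^ 2)
    (p5 : 5 ≤ p) (he : e + 1 ≤ p) (F : Finset I) (hF : F.card + p = p ^ 2) (a : X → ℕ)
    (c : X → I → ℕ) (o : X) (ν : I) (hν : ν ∉ F) (ho : c o ν = 0)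
    (h1 : ∀ i ∈ F, ∑ x, a x * c x i = 1) (h2 : 2 ≤ ∑ x, a x * c x ν)
    (h3 : ∀ x, x ≠ o → a x ≠ 0 → e ≤ ∑ i ∈ F, c x i ∧ ∑ i ∈ F, c x i ≠ 0)
    (hV : ∀ x, p ^ 2 * ∑ i, c x i ^ 2 < (∑ i, c x i) ^ 2 + p ^ 2 * e) :
    ∃ x, a x = 1 ∧ ∀ y, y ≠ o → y ≠ x → a y = 0 := by
  classical
  have k1 : ∀ x, ∀ i ∈ F, a x * c x i ≤ 1 := fun x i hi => h1 i hi ▸
    Finset.single_le_sum (f := fun x => a x * c x i) (fun _ _ => Nat.zero_le _) (Finset.mem_univ x)
  have k2 : ∀ x, a x ≠ 0 → ∀ i ∈ F, c x i ≤ 1 := fun x hx i hi =>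
    (Nat.le_mul_of_pos_left _ (Nat.pos_of_ne_zero hx)).trans (k1 x i hi)
  have k3 : ∀ x, x ≠ o → a x ≠ 0 → a x = 1 := fun x h hx => by
    obtain ⟨i, hi, e⟩ := Finset.exists_ne_zero_of_sum_ne_zero (h3 x h hx).2
    exact le_antisymm ((Nat.le_mul_of_pos_right _ (Nat.pos_of_ne_zero e)).trans (k1 x i hi))
      (Nat.pos_of_ne_zero hx)
  obtain ⟨s, hs⟩ : ∃ s : X → Finset I, ∀ {x i}, i ∈ s x ↔ i ∈ F ∧ c x i ≠ 0 :=
    ⟨fun x => F.filter fun i => c x i ≠ 0, Finset.mem_filter⟩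
  have k4 : ∀ x, x ≠ o → a x ≠ 0 → e ≤ (s x).card := fun x h hx => by
    refine (h3 x h hx).1.trans ?_
    rw [← Finset.sum_subset (s₁ := s x) (fun i hi => (hs.1 hi).1)
      fun i h1 h2 => by_contra fun e => h2 (hs.2 ⟨h1, e⟩), Finset.card_eq_sum_ones]
    exact Finset.sum_le_sum fun i hi => k2 x hx i (hs.1 hi).1
  have k5 : ∀ x y, x ≠ y → a x ≠ 0 → a y ≠ 0 → ∀ i ∈ s x, c y i = 0 := fun x y h hx hy i hi => by
    have := h1 i (hs.1 hi).1 ▸ Finset.add_le_sum (f := fun x => a x * c x i)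
      (fun _ _ => Nat.zero_le _) (Finset.mem_univ x) (Finset.mem_univ y) h
    have := Nat.mul_pos (Nat.pos_of_ne_zero hx) (Nat.pos_of_ne_zero (hs.1 hi).2)
    exact (Nat.mul_eq_zero.1 (by omega)).resolve_left hy
  have k6 : ∀ x, x ≠ o → a x ≠ 0 → c x ν ≠ 0 → p ^ 2 ≤ (s x).card + p + e := fun x h hx e1 => by
    have e2 : (insert ν (s x)).card ≤ (Finset.univ.filter fun i => c x i ≠ 0).card :=
      Finset.card_le_card fun i hi => Finset.mem_filter.2 ⟨Finset.mem_univ _,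
        (Finset.mem_insert.1 hi).elim (· ▸ e1) fun e => (hs.1 e).2⟩
    rw [Finset.card_insert_of_notMem fun e => hν (hs.1 e).1] at e2
    have e3 : (Finset.univ.filter fun i => c x i ≠ 0).card ≤ (s x ∪ Fᶜ).card :=
      Finset.card_le_card fun i hi => Finset.mem_union.2 (or_iff_not_imp_right.2 fun e =>
        hs.2 ⟨by simpa using e, (Finset.mem_filter.1 hi).2⟩)
    have e4 := Finset.card_union_le (s x) Fᶜ
    have e5 := Finset.card_add_card_compl F
    have := dich (c x) 0 hI he (hV x)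
    have := k4 x h hx
    omega
  have k7 : ∀ x y, x ≠ y → a x ≠ 0 → a y ≠ 0 → (s x).card + (s y).card ≤ F.card :=
    fun x y h hx hy => by
    rw [← Finset.card_union_of_disjoint (Finset.disjoint_left.2 fun i h1 h2 =>
      (hs.1 h2).2 (k5 x y h hx hy i h1))]
    exact Finset.card_le_card (Finset.union_subset (fun i hi => (hs.1 hi).1)
      fun i hi => (hs.1 hi).1)
  obtain ⟨x, -, hx⟩ := Finset.exists_ne_zero_of_sum_ne_zero (s := Finset.univ)
    (f := fun x => a x * c x ν) (by omega)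
  obtain ⟨x1, x2⟩ := Nat.mul_ne_zero_iff.1 hx
  have x3 : x ≠ o := fun e => x2 (e ▸ ho)
  have pp : 5 * p ≤ p ^ 2 := by nlinarith
  have x4 := k6 x x3 x1 x2
  rw [Finset.sum_eq_single x (fun y _ hy => by
    by_contra e
    obtain ⟨y1, y2⟩ := Nat.mul_ne_zero_iff.1 e
    have := k6 y (fun e => y2 (e ▸ ho)) y1 y2
    have := k7 y x hy y1 x1
    omega) (by simp), k3 x x3 x1, one_mul] at h2
  refine ⟨x, k3 x x3 x1, fun y y1 y2 => by_contra fun y3 => ?_⟩
  have e2 : (insert ν (s y)).card ≤ (Finset.univ.filter fun i => c x i ≠ 1).card :=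
    Finset.card_le_card fun i hi => Finset.mem_filter.2 ⟨Finset.mem_univ _,
      (Finset.mem_insert.1 hi).elim (fun e => by rw [e]; omega) fun e => by
        rw [k5 y x y2 y3 x1 i e]; exact zero_ne_one⟩
  rw [Finset.card_insert_of_notMem fun e => hν (hs.1 e).1] at e2
  have e3 : (Finset.univ.filter fun i => c x i ≠ 1).card ≤ (s x)ᶜ.card :=
    Finset.card_le_card fun i hi => Finset.mem_compl.2 fun e => by
      have := k2 x x1 i (hs.1 e).1
      have := (hs.1 e).2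
      have := (Finset.mem_filter.1 hi).2
      omega
  have e5 := Finset.card_add_card_compl (s x)
  have := dich (c x) 1 hI he (hV x)
  have := k4 y y1 y3
  omega

variable {A B : Type u} [Group A] [Fintype A] [Group B] [Fintype B] [IsMulCommutative B]

theorem card_irr : Fintype.card (IrrCharacter B) = Nat.card B := by
  have := sum_irr_deg_sq (G := B)
  simp only [fun χ : IrrCharacter B => irr_deg_one_of_comm χ.2, one_pow, Finset.sum_const,
    Finset.card_univ, nsmul_eq_mul, mul_one] at this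
  exact_mod_cast this

open Classical in
theorem bessel (φ : A →* B) (hφ : Function.Surjective φ) (θ : A → ℂ) (c : IrrCharacter B → ℕ)
    (hc : ∀ ν : IrrCharacter B, classInner θ (fun g => (ν : B → ℂ) (φ g)) = c ν) :
    (Nat.card A : ℝ) * (Nat.card B * ∑ ν, (c ν : ℝ) ^ 2 - (∑ ν, c ν) ^ 2) ≤
      Nat.card B * ∑ g ∈ Finset.univ.filter (φ · ≠ 1), ‖θ g‖ ^ 2 := by
  obtain ⟨m, hm⟩ : ∃ m : ℕ, m = Nat.card B := ⟨_, rfl⟩
  obtain ⟨s, hs⟩ : ∃ s : ℕ, s = ∑ ν, c ν := ⟨_, rfl⟩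
  obtain ⟨X, hX⟩ : ∃ X : ℕ, X = ∑ ν, c ν ^ 2 := ⟨_, rfl⟩
  have s1 : ∑ ν, (c ν : ℂ) = s := by rw [hs]; push_cast; rfl
  have s2 : ∑ ν, (c ν : ℂ) ^ 2 = X := by rw [hX]; push_cast; rfl
  let ψ : A → ℂ := ∑ ν : IrrCharacter B, ((m : ℂ) * c ν - s) • fun g => (ν : B → ℂ) (φ g)
  have h0 : ∀ g, φ g = 1 → ψ g = 0 := fun g hg => by
    simp [ψ, hg, fun χ : IrrCharacter B => irr_deg_one_of_comm χ.2, ← Finset.mul_sum, s1,
      card_irr.trans hm.symm]
  have h1 : classInner θ ψ = m * X - s ^ 2 := by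
    simp only [ψ, CfsgL.inner_sum_right, CfsgL.inner_smul_right, hc, map_sub, map_mul, map_natCast,
      sub_mul, mul_assoc, Finset.sum_sub_distrib, ← Finset.mul_sum, ← sq, s1, s2]
  have h2 : classInner ψ ψ = m * (m * X - s ^ 2) := by
    simp only [ψ, CfsgL.inner_sum_right, CfsgL.inner_smul_right, CfsgL.inner_sum_left,
      CfsgL.inner_smul_left, inner_comp_surjective φ hφ, inner_Irr, mul_ite, mul_one, mul_zero,
      Finset.sum_ite_eq', Finset.mem_univ, if_true, map_sub, map_mul, map_natCast]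
    have : ∀ ν, ((m : ℂ) * c ν - s) * (m * c ν - s) = m ^ 2 * c ν ^ 2 - 2 * m * s * c ν + s ^ 2 :=
      fun ν => by ring
    simp only [this, Finset.sum_add_distrib, Finset.sum_sub_distrib, ← Finset.mul_sum, s1, s2,
      Finset.sum_const, Finset.card_univ, card_irr, ← hm, nsmul_eq_mul]
    ring
  have h3 : classInner ψ θ = m * X - s ^ 2 := by
    rw [← CfsgL.inner_conj_symm, h1]; simp
  have e : ∀ a b : A → ℂ, (∀ g, φ g = 1 → a g * conj (b g) = 0) →
      ∑ g ∈ Finset.univ.filter (φ · ≠ 1), a g * conj (b g) = Nat.card A * classInner a b :=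
    fun a b h => by
    rw [← sum_mul_conj_eq]
    exact Finset.sum_subset (Finset.filter_subset _ _) fun g _ hg => h g (by simpa using hg)
  have e1 : ((∑ g ∈ Finset.univ.filter (φ · ≠ 1), ‖m * θ g - ψ g‖ ^ 2 : ℝ) : ℂ) =
      ((m * (m * ∑ g ∈ Finset.univ.filter (φ · ≠ 1), ‖θ g‖ ^ 2 -
        Nat.card A * (m * X - s ^ 2)) : ℝ) : ℂ) := by
    have : ∀ g, ((‖m * θ g - ψ g‖ : ℝ) : ℂ) ^ 2 = m ^ 2 * ((‖θ g‖ : ℝ) : ℂ) ^ 2 -
        m * (θ g * conj (ψ g)) - m * (ψ g * conj (θ g)) + ψ g * conj (ψ g) := fun g => by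
      rw [← Complex.mul_conj', ← Complex.mul_conj']
      simp only [map_sub, map_mul, map_natCast]
      ring
    push_cast
    simp only [this, Finset.sum_add_distrib, Finset.sum_sub_distrib, ← Finset.mul_sum]
    rw [e _ _ fun g hg => by simp [h0 g hg], e _ _ fun g hg => by simp [h0 g hg],
      e _ _ fun g hg => by simp [h0 g hg], h1, h2, h3]
    ring
  have e2 := Finset.sum_nonneg fun g (_ : g ∈ Finset.univ.filter (φ · ≠ 1)) =>
    sq_nonneg ‖m * θ g - ψ g‖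
  rw [Complex.ofReal_inj.1 e1] at e2
  have m0 : (0 : ℝ) < m := by rw [hm]; exact_mod_cast Nat.card_pos
  have e3 := (mul_nonneg_iff_of_pos_left m0).1 e2
  rw [← hm, ← hs, show ∑ ν, (c ν : ℝ) ^ 2 = X by rw [hX]; push_cast; rfl]
  linarith

theorem st (φ : A →* B) (hφ : Function.Surjective φ) (Y : Subgroup A) [Y.Normal] [Fintype Y]
    (F : Finset (IrrCharacter B))
    (hF : ∀ ν ∈ F, ¬ Y ≤ charKer fun g => (ν : B → ℂ) (φ g)) {θ : A → ℂ} (h : IsCharacter A θ) :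
    ∃ s t : ℕ, ∑ ν ∈ F, classInner θ (fun g => (ν : B → ℂ) (φ g)) = s ∧
      Nat.card Y * θ 1 - ∑ y : Y, θ y = Nat.card Y * t ∧ s ≤ t := by
  classical
  refine char_induction (P := fun θ : A → ℂ => ∃ s t : ℕ,
    ∑ ν ∈ F, classInner θ (fun g => (ν : B → ℂ) (φ g)) = s ∧
      Nat.card Y * θ 1 - ∑ y : Y, θ y = Nat.card Y * t ∧ s ≤ t)
    ⟨0, 0, by simp [CfsgL.inner_zero_left], by simp, le_rfl⟩ ?_ ?_ h
  · rintro a b ⟨s, t, h1, h2, h3⟩ ⟨s', t', h1', h2', h3'⟩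
    refine ⟨s + s', t + t', by simp [CfsgL.inner_add_left, Finset.sum_add_distrib, h1, h1'], ?_,
      add_le_add h3 h3'⟩
    simp only [Pi.add_apply, Finset.sum_add_distrib, Nat.cast_add]
    linear_combination h2 + h2'
  · intro ψ hψ
    obtain ⟨n, n0, hn⟩ := irr_deg_pos hψ
    by_cases e : Y ≤ charKer ψ
    · refine ⟨0, 0, (Finset.sum_eq_zero fun ν hν => inner_irr_ne hψ (irr_comp_surjective φ hφ ν.2)
        fun e2 => hF ν hν (e2 ▸ e)).trans Nat.cast_zero.symm,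
        by rw [sum_of_le_charKer Y e]; simp, le_rfl⟩
    have e2 : ∑ y : Y, ψ y = 0 := by_contra fun e2 => e (le_charKer_of_sum_ne_zero Y hψ e2)
    by_cases e3 : ∃ ν ∈ F, ψ = fun g => (ν : B → ℂ) (φ g)
    · obtain ⟨ν, h1, rfl⟩ := e3
      refine ⟨1, n, ?_, by rw [e2, hn, sub_zero], n0⟩
      simp only [inner_comp_surjective φ hφ, inner_Irr, Finset.sum_ite_eq, h1, if_true,
        Nat.cast_one]
    · exact ⟨0, n, (Finset.sum_eq_zero fun ν hν => inner_irr_ne hψ (irr_comp_surjective φ hφ ν.2)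
        fun e4 => e3 ⟨ν, hν, e4⟩).trans Nat.cast_zero.symm, by rw [e2, hn, sub_zero], n.zero_le⟩

variable {G : Type u} [Group G] [Fintype G]

open Classical in
theorem TI_lt (L : Subgroup G) (S : Set G) (h0 : (1 : G) ∉ S) (h1 : ∀ a ∈ S, a ∈ L)
    (h2 : ∀ g ∈ L, ∀ a ∈ S, g * a * g⁻¹ ∈ S) (hT : ∀ a ∈ S, ∀ g : G, g * a * g⁻¹ ∈ S → g ∈ L)
    {χ : G → ℂ} (hχ : IsIrrCharacter G χ) :
    ∑ g ∈ Finset.univ.filter (· ∈ S), ‖χ g‖ ^ 2 < Nat.card L := by
  let θ : L → ℂ := fun h => if (h : G) ∈ S then 1 else 0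
  have hθ : IsClassFunction L θ := fun g h => by
    refine if_congr ⟨fun e => ?_, fun e => h2 _ h.2 _ e⟩ rfl rfl
    simpa [mul_assoc] using h2 _ (inv_mem h.2) _ e
  have hφ : ∀ g, indFun L θ g = if g ∈ clSupp S ⊤ then 1 else 0 := fun g => by
    split_ifs with h
    · obtain ⟨a, ha, x, -, rfl⟩ := h
      rw [indFun_class, indFun_apply_of_TI L S hT hθ (fun h e => if_neg e) ⟨a, h1 a ha⟩ ha]
      exact if_pos ha
    · exact indFun_eq_zero _ _ _ fun x hx => if_neg fun e => h ⟨_, e, x, mem_top _, by group⟩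
  have hc := char_isClass (irr_isChar hχ)
  have e1 := inner_indFun_left L θ (class_mul hc (class_conj hc))
  simp only [classInner, hφ, Pi.mul_apply, Complex.mul_conj', ← Complex.ofReal_pow,
    Complex.conj_ofReal, θ] at e1
  rw [← Finset.sum_subtype (Finset.univ.filter (· ∈ L)) (by simp)
      fun g => (if g ∈ S then (1 : ℂ) else 0) * ((‖χ g‖ ^ 2 : ℝ) : ℂ)] at e1
  simp only [ite_mul, one_mul, zero_mul, ← Finset.sum_filter, Finset.filter_filter] at e1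
  rw [show (Finset.univ.filter fun g => g ∈ L ∧ g ∈ S) = Finset.univ.filter (· ∈ S) from
    Finset.filter_congr fun g _ => ⟨fun e => e.2, fun e => ⟨h1 g e, e⟩⟩] at e1
  have e2 : (Nat.card G : ℝ)⁻¹ * ∑ g ∈ Finset.univ.filter (· ∈ clSupp S ⊤), ‖χ g‖ ^ 2 =
      (Nat.card L : ℝ)⁻¹ * ∑ g ∈ Finset.univ.filter (· ∈ S), ‖χ g‖ ^ 2 :=
    Complex.ofReal_injective (by push_cast at e1 ⊢; exact e1)
  have e3 : (1 : ℝ) = (Nat.card G : ℝ)⁻¹ * ∑ g, ‖χ g‖ ^ 2 := by
    exact_mod_cast (inner_irr_self hχ).symm.trans (inner_self_eq χ)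
  have e4 := Finset.sum_lt_sum_of_subset (Finset.filter_subset (· ∈ clSupp S ⊤) Finset.univ)
    (f := fun g => ‖χ g‖ ^ 2) (Finset.mem_univ 1) (by simpa [one_mem_clSupp] using h0)
    (pow_pos (norm_pos_iff.2 (irr_one_ne_zero hχ)) 2) fun _ _ _ => sq_nonneg _
  have p1 : (0 : ℝ) < Nat.card G := by exact_mod_cast Nat.card_pos
  have p2 : (0 : ℝ) < Nat.card L := by exact_mod_cast Nat.card_pos
  have e5 := mul_lt_mul_of_pos_left e4 (inv_pos.2 p1)
  rwa [e2, ← e3, inv_mul_lt_iff₀ p2, mul_one] at e5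

end CfsgH5.Elu
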