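import Cfsg.Agent.H5.El6
import Cfsg.Agent.H5.El7

set_option autoImplicit false
set_option linter.unusedSectionVars false

/-! Elusive groups of degree `2pq` do not exist. -/

namespace CfsgH5.Elu
open Subgroup CfsgH5 CfsgH6 CfsgFT CfsgH5.Der Cfsg CfsgL MulAction
open scoped ComplexConjugate

universe u
variable {G : Type u} [Group G] [Fintype G] {Ω : Type*} [MulAction G Ω] [Finite Ω]
  {K P Y : Subgroup G} {p q : ℕ} {b : Ω}

theorem dvd_moved (hp : p.Prime) (hY : Nat.card Y = p) [Fintype Y] {χ : G → ℂ}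
    (hχ : IsCharacter G χ) {t : ℕ} (ht : p * χ 1 - ∑ y : Y, χ y = p * t) :
    (C Y).relIndex (N Y) ∣ t ∧ (t = 0 → Y ≤ charKer χ) := by
  have e0 : ∑ y : Y, (χ 1 - χ y) = p * t := by
    rw [Finset.sum_sub_distrib, ← ht, Finset.sum_const, Finset.card_univ, ← Nat.card_eq_fintype_card,
      hY, nsmul_eq_mul]
  refine ⟨?_, fun t0 y hy => (mem_charKer_iff hχ).2 (char_eq_of_re_eq hχ ?_)⟩
  · obtain ⟨w, w1, w2⟩ := sum_free_action (K := img (autm Y) (N Y)) (fun y : Y => χ 1 - χ y)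
      (fun ⟨_, n, _, rfl⟩ y => congrArg (χ 1 - ·)
        ((congrArg χ (coe_autm n y)).trans (char_isClass hχ _ _)))
      (fun y => (char_isIntegral hχ 1).sub (char_isIntegral hχ y))
      (fun ⟨_, n, _, rfl⟩ y h1 h2 => Subtype.ext (MulEquiv.ext fun z => Subtype.ext (by
        have e1 : (n : G) ∈ C1 (y : G) :=
          mem_C1_iff_conj.2 ((coe_autm n y).symm.trans (congrArg Subtype.val h2))
        rw [← C_zpowers, ← eq_zpowers_of_prime_card (hY.symm ▸ hp) y.2 fun e => h1 (by simp [e])]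
          at e1
        exact (coe_autm n z).trans (mem_C1_iff_conj.1 (C_le_C1 z.2 e1)))))
    rw [e0, card_img_autm (nrm_N Y)] at w2
    have e1 := relIndex_C_dvd_of_prime_card hp hY (nrm_N Y)
    have e2 := relIndex_pos (C Y) (N Y)
    refine ((Nat.coprime_of_lt_prime e2.ne' ((Nat.le_of_dvd (by have := hp.two_le; omega) e1).trans_lt
      (by have := hp.two_le; omega)) hp).symm).dvd_of_dvd_mul_left
      (nat_dvd_of_isIntegral_div e2.ne' ?_)
    rwa [Nat.cast_mul, w2, mul_div_cancel_left₀ _ (by exact_mod_cast e2.ne')]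
  · have e1 := congrArg Complex.re e0
    rw [t0, Complex.re_sum] at e1
    simp only [Complex.sub_re, Nat.cast_zero, mul_zero, Complex.zero_re] at e1
    exact (sub_eq_zero.1 ((Finset.sum_eq_zero_iff_of_nonneg fun y _ =>
      sub_nonneg.2 (char_re_le hχ _)).1 e1 ⟨y, hy⟩ (Finset.mem_univ _))).le

theorem sum_fix (K : Subgroup G) [Fintype K] (b : Ω) (tr : ∀ x y : Ω, ∃ g ∈ K, g • x = y) :
    ∑ k : K, Nat.card (fixedBy Ω (k : G)) = Nat.card K := by
  have : Nonempty Ω := ⟨b⟩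
  have := burnside_nat (G := K) (Ω := Ω)
  rwa [card_orbit_quotient_eq_one ⟨fun x y => (tr x y).elim fun g hg => ⟨⟨g, hg.1⟩, hg.2⟩⟩,
    one_mul] at this

variable [FaithfulSMul G Ω] (H : Hyp G Ω p q) (h : C3 p P Y b)
include H h

theorem C3.trans_of_le [K.Normal] (hK : P ≤ K) (x y : Ω) : ∃ g ∈ K, g • x = y := by
  have e1 := relIndex_dvd_of_normalIn (H := stabilizer G b) le_top (normalIn_top (K := K) |>.2 ‹_›)
  have e2 := relIndex_le_of_le_right (H := stabilizer G b) hK (relIndex_ne_zero' _ _)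
  rw [stab_top H.tr] at e1
  obtain ⟨k, hk⟩ := e1
  have e3 : k < 2 := Nat.lt_of_mul_lt_mul_left (a := (stabilizer G b).relIndex K) (by
    rw [← hk, H.card]
    have := H.lt
    rw [h.hb] at e2
    nlinarith [H.hp.pos])
  have e4 : k ≠ 0 := fun e => by
    rw [e, H.card] at hk
    exact (Nat.mul_pos (Nat.mul_pos two_pos H.hp.pos) H.hq.pos).ne' hk
  rw [show k = 1 by omega, mul_one, ← ncard_orbit, ← Set.ncard_univ] at hk
  have e5 := Set.eq_of_subset_of_ncard_le (Set.subset_univ (orbit K b)) hk.le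
  exact mem_orb.1 (by rw [orb_eq (e5 ▸ Set.mem_univ x : x ∈ orbit K b), e5]; trivial)

theorem C3.perm_eq (g : C Y) : (Nat.card (fixedBy Ω (g : G)) : ℂ) =
    {x | x ∉ orbit P b ∧ (g : G) • x = x}.ncard + regChar P ((h.sdp H).proj g) := by
  have e := Set.ncard_inter_add_ncard_diff_eq_ncard (fixedBy Ω (g : G)) (orbit P b)
  rw [Nat.card_coe_set_eq, ← e, add_comm, Nat.cast_add, regChar]
  congr 1
  · congr 2
    ext x
    exact and_comm
  · split_ifs with e1 <;> rw [SDP.proj_eq_one] at e1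
    · rw [(Set.inter_eq_right (s := fixedBy Ω (g : G))).2 fun x hx => h.O_fix H hx e1, ncard_orbit, h.hb, h.cardP H]
    · rw [Set.eq_empty_of_forall_notMem (s := fixedBy Ω (g : G) ∩ orbit P b)
        fun x hx => e1 (h.C_long H hx.2 g.2 hx.1)]
      simp

theorem C3.rank : Nat.card (orbitRel.Quotient G (Ω × Ω)) ≤ 2 := by
  classical
  have := ab_iff_isMulCommutative.1 (h.abP H)
  have hY := h.card_eq H
  have p0 : (p : ℂ) ≠ 0 := by exact_mod_cast H.hp.ne_zero
  obtain ⟨φ, hφ⟩ : ∃ φ, φ = (h.sdp H).proj := ⟨_, rfl⟩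
  have φ1 : ∀ (u : G) (h1 : u ∈ P) (h2 : u ∈ C Y), φ ⟨u, h2⟩ = ⟨u, h1⟩ := fun u h1 h2 =>
    hφ ▸ SDP.proj_right _ h1 h2
  have φ2 : Function.Surjective φ := fun u => ⟨_, φ1 u u.2 (h.le_C H u.2)⟩
  have φ3 : ∀ g : C Y, φ g = 1 ↔ (g : G) ∈ Opc p (C Y) := fun g => hφ ▸ SDP.proj_eq_one _
  obtain ⟨π, hπ⟩ : ∃ π : G → ℕ, ∀ g, Nat.card (fixedBy Ω g) = π g := ⟨_, fun _ => rfl⟩
  have π1 : IsCharacter G fun g => (π g : ℂ) := by simpa only [hπ] using char_perm (G := G) Ω
  obtain ⟨a, a1, a2, a3⟩ := char_coords π1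
  have a4 : ∀ g, (π g : ℂ) = ∑ χ : IrrCharacter G, a χ * (χ : G → ℂ) g := fun g => by
    simpa using congrFun a2 g
  have hi := fun ν : IrrCharacter P => irr_comp_surjective φ φ2 ν.2
  choose c hc using fun (χ : IrrCharacter G) (ν : IrrCharacter P) =>
    char_inner_nat (char_restrict (C Y) (irr_isChar χ.2)) (irr_isChar (hi ν))
  have e1 := relIndex_C_dvd_of_prime_card H.hp hY (nrm_N Y)
  obtain ⟨e, he⟩ : ∃ e, e = (C Y).relIndex (N Y) := ⟨_, rfl⟩
  have p5 := H.p5
  have hV : ∀ χ, p ^ 2 * ∑ ν, c χ ν ^ 2 < (∑ ν, c χ ν) ^ 2 + p ^ 2 * e := fun χ => by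
    have i1 := bessel φ φ2 _ (c χ) (hc χ)
    have i2 := TI_lt (N Y) ((C Y : Set G) \ Opc p (C Y)) (fun e => e.2 (one_mem _))
      (fun x hx => C_le_N Y hx.1) (fun g hg x hx => ⟨nrm_N_C Y g hg x hx.1, fun e => hx.2 (by
        simpa [mul_assoc] using (nrm_N_C Y).Opi _ _ (inv_mem hg) _ e)⟩)
      (fun x hx g hg => h.ti H hx.1 hx.2 hg.1) χ.2
    rw [← Finset.sum_bij (s := Finset.univ.filter (φ · ≠ 1)) (fun g _ => (g : G))
      (fun g hg => by simpa [φ3] using hg) (fun _ _ _ _ => Subtype.ext)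
      (fun g hg => by simpa [φ3, and_comm] using hg) (fun _ _ => rfl),
      ← card_mul_relIndex (C_le_N Y), ← he] at i2
    rw [h.cardP H] at i1
    have i3 : _ < _ * ((Nat.card (C Y) * e : ℕ) : ℝ) := i1.trans_lt
      (mul_lt_mul_of_pos_left (by convert i2; rfl) (by exact_mod_cast pow_pos H.hp.pos 2))
    have i4 : (0 : ℝ) < Nat.card (C Y) := by exact_mod_cast card_pos _
    rw [Nat.cast_mul, mul_left_comm, mul_lt_mul_iff_right₀ i4, sub_lt_iff_lt_add'] at i3
    exact_mod_cast i3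
  have := (nrm_of_le_C (le_refl (C Y))).normal_subgroupOf
  have := h.nrm.normal_subgroupOf
  have hk : ∀ ν : IrrCharacter P, Y.subgroupOf P ≤ charKer (ν : P → ℂ) ↔
      Y.subgroupOf (C Y) ≤ charKer fun g => (ν : P → ℂ) (φ g) := fun ν =>
    ⟨fun e y hy => (mem_charKer_iff (irr_isChar (hi ν))).2 (by
      rw [map_one, φ1 y (h.le hy) y.2]; exact charKer_apply (e hy)),
    fun e y hy => (mem_charKer_iff (irr_isChar ν.2)).2 (by
      have := charKer_apply (e (x := ⟨y, h.el.ab hy⟩) hy)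
      rwa [map_one, φ1 y y.2] at this)⟩
  have ν1 := fun ν : IrrCharacter P => irr_deg_one_of_comm ν.2
  obtain ⟨F, hF⟩ : ∃ F : Finset (IrrCharacter P), ∀ {ν}, ν ∈ F ↔
      ¬ Y.subgroupOf P ≤ charKer (ν : P → ℂ) := ⟨irrSet fun ν => ¬ _ ≤ charKer ν, mem_irrSet⟩
  have hI : Fintype.card (IrrCharacter P) = p ^ 2 := card_irr.trans (h.cardP H)
  have F1 : Fᶜ.card = p := by
    have := sum_ker_deg_sq (Y.subgroupOf P)
    simp only [ν1, one_pow, Finset.sum_const, nsmul_eq_mul, mul_one, Nat.cast_inj] at this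
    rw [← h.idx, relIndex, ← this]
    congr 1
    ext ν
    simp only [Finset.mem_compl, hF, not_not, mem_irrSet]
  have F2 : F.card + p = p ^ 2 := by rw [← F1, Finset.card_add_card_compl, F1, hI]
  obtain ⟨f, hf⟩ : ∃ f : G → ℕ, ∀ g, {x | x ∉ orbit P b ∧ g • x = x}.ncard = f g := ⟨_, fun _ => rfl⟩
  have f1 : ∀ g : C Y, (π g : ℂ) = f g + regChar P (φ g) := fun g => by
    rw [hφ, ← hπ, ← hf, h.perm_eq H]
  have f2 : ∀ x, ∀ y ∈ Y, f (x * y) = f x := fun x y hy => by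
    rw [← hf, ← hf]
    exact congrArg Set.ncard (Set.ext fun z =>
      and_congr_right fun hz => by rw [mul_smul, mem_stabilizer_iff.1 ((h.fix z).2 hz hy)])
  have f3 : ∀ ν, (↑(∑ χ, a χ * c χ ν) : ℂ) =
      classInner (fun g : C Y => (f g : ℂ)) (fun g => (ν : P → ℂ) (φ g)) + 1 := fun ν => by
    have i1 : (fun g : C Y => (f g : ℂ)) + (fun g => regChar P (φ g)) =
        ∑ χ : IrrCharacter G, (a χ : ℂ) • fun g : C Y => (χ : G → ℂ) g := by
      ext g; simp [← f1, a4]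
    have := congrArg (classInner · fun g => (ν : P → ℂ) (φ g)) i1
    simp only [CfsgL.inner_add_left, CfsgL.inner_sum_left, CfsgL.inner_smul_left, hc,
      inner_comp_surjective φ φ2, inner_reg_left, ν1, map_one] at this
    rw [this]; push_cast; rfl
  have h1 : ∀ ν ∈ F, ∑ χ, a χ * c χ ν = 1 := fun ν hν => by
    have := f3 ν
    rw [by_contra fun e => hF.1 hν ((hk ν).2 (le_trans (fun y hy => mem_charKer.2 fun x =>
      congrArg Nat.cast (f2 x y hy)) (charKer_le_of_inner_ne_zero (χ := fun g : C Y => (f g : ℂ)) (by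
        have : (fun g : C Y => (f g : ℂ)) = (fun g : C Y => (π g : ℂ)) - fun g => regChar P (φ g) := by
          ext g; simp [f1]
        rw [this]
        exact class_sub (class_restrict _ (char_isClass π1))
          (class_comp φ (char_isClass char_reg))) (hi ν) e))), zero_add] at this
    exact_mod_cast this
  have h2 : ∀ ν ∉ F, 2 ≤ ∑ χ, a χ * c χ ν := fun ν hν => by
    have i1 := sum_mul_conj_eq (fun g : C Y => (f g : ℂ)) fun g => (ν : P → ℂ) (φ g)
    rw [← sub_eq_iff_eq_add.2 (f3 ν), Finset.sum_congr rfl (g := fun g : C Y => (f g : ℂ))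
      fun g _ => ?_, mul_sub, eq_sub_iff_add_eq, mul_one] at i1
    · have i2 : ∑ g : C Y, f g + Nat.card (C Y) = Nat.card (C Y) * ∑ χ, a χ * c χ ν := by
        exact_mod_cast i1
      have i3 := Finset.single_le_sum (f := fun g : C Y => f g) (fun _ _ => Nat.zero_le _)
        (Finset.mem_univ 1)
      obtain ⟨z, hz⟩ := h.ne
      have i4 : 0 < f (1 : C Y) := hf _ ▸
        (Set.ncard_pos (Set.toFinite _)).2 ⟨z, (h.fix z).1 hz, one_smul _ _⟩
      exact Nat.lt_of_mul_lt_mul_left (a := Nat.card (C Y)) (by omega)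
    · by_cases e : f g = 0
      · simp [e]
      obtain ⟨z, z1, z2⟩ := Set.nonempty_of_ncard_ne_zero ((hf g).trans_ne e)
      obtain ⟨o, o1, y, y1, e2⟩ := (mem_sup_nrm' ((nrm_Opc p _).mono h.el.ab)).1
        (h.C_short H ((h.fix z).2 z1) (mem_inf.2 ⟨g.2, z2⟩))
      have : g = ⟨o, Opc_le _ _ o1⟩ * ⟨y, h.el.ab y1⟩ := Subtype.ext e2
      rw [show φ g = ⟨y, h.le y1⟩ by rw [this, map_mul, (φ3 _).2 o1, one_mul, φ1],
        charKer_apply (not_not.1 (mt hF.2 hν) y1), ν1, map_one, mul_one]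
  set o : IrrCharacter G := ⟨_, irr_one⟩ with ho
  have ao : a o = 1 := by
    have i1 := sum_mul_conj_eq (fun g => (π g : ℂ)) o
    have i2 := burnside_nat (G := G) (Ω := Ω)
    have : Nonempty Ω := ⟨b⟩
    rw [card_orbit_quotient_eq_one ⟨fun x y => (H.tr x y).imp fun _ e => e.2⟩, one_mul] at i2
    rw [a1] at i1
    simp only [ho, map_one, mul_one] at i1
    simp only [hπ] at i2
    refine Nat.eq_of_mul_eq_mul_left (Nat.card_pos (α := G)) ?_
    rw [mul_one]
    exact Eq.trans (by exact_mod_cast i1.symm) i2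
  choose s t s1 s2 s3 using fun χ : IrrCharacter G => st φ φ2 (Y.subgroupOf (C Y)) F
    (fun ν hν => mt (hk ν).2 (hF.1 hν)) (char_restrict (C Y) (irr_isChar χ.2))
  have s4 : ∀ χ, ∑ ν ∈ F, c χ ν = s χ := fun χ => by
    have := s1 χ
    simp only [hc] at this
    exact_mod_cast this
  have s5 : ∀ χ : IrrCharacter G, p * (χ : G → ℂ) 1 - ∑ y : Y, (χ : G → ℂ) y = p * t χ := fun χ => by
    have := s2 χ
    rwa [Nat.card_congr (subgroupOfEquivOfLe h.el.ab).toEquiv, hY, Fintype.sum_equiv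
      (subgroupOfEquivOfLe h.el.ab).toEquiv (fun z => (χ : G → ℂ) z) (fun z : Y => (χ : G → ℂ) z)
      fun _ => rfl] at this
  have s6 : ∑ χ, a χ * s χ = ∑ χ, a χ * t χ := by
    have i1 : ∑ χ, a χ * s χ = F.card := by
      simp only [← s4, Finset.mul_sum]
      rw [Finset.sum_comm, Finset.sum_congr rfl h1, Finset.card_eq_sum_ones]
    have i2 : (p : ℂ) * π 1 - ∑ y : Y, (π y : ℂ) = p * ∑ χ, a χ * t χ := by
      simp only [a4, Nat.cast_sum, Nat.cast_mul, Finset.mul_sum]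
      rw [Finset.sum_comm, ← Finset.sum_sub_distrib]
      refine Finset.sum_congr rfl fun χ _ => ?_
      rw [← Finset.mul_sum]
      linear_combination (a χ : ℂ) * s5 χ
    have i3 : ∀ y : Y, (π y : ℂ) = f 1 + if y = 1 then (p ^ 2 : ℂ) else 0 := fun y => by
      have := f1 ⟨y, h.el.ab y.2⟩
      have e := f2 1 y y.2
      rw [one_mul] at e
      rw [φ1 y (h.le y.2), e] at this
      rw [this, regChar, h.cardP H, Nat.cast_pow]
      by_cases e2 : y = 1
      · rw [if_pos e2, if_pos (show (⟨y, h.le y.2⟩ : P) = 1 from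
          Subtype.ext (congrArg Subtype.val e2 :))]
      · rw [if_neg e2, if_neg fun e3 : (⟨y, h.le y.2⟩ : P) = 1 =>
          e2 (Subtype.ext (congrArg Subtype.val e3 :))]
    have i4 := i3 1
    simp only [coe_one, if_true] at i4
    simp only [i3, i4, Finset.sum_add_distrib, Finset.sum_const, Finset.sum_ite_eq',
      Finset.mem_univ, if_true, Finset.card_univ, ← Nat.card_eq_fintype_card, hY,
      nsmul_eq_mul] at i2
    have i5 : ((F.card + p : ℕ) : ℂ) = (p ^ 2 : ℕ) := congrArg _ F2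
    push_cast at i5
    rw [i1]
    exact_mod_cast mul_left_cancel₀ p0 (by linear_combination i2 + p * i5 :
      (p : ℂ) * F.card = p * (∑ χ, a χ * t χ : ℕ))
  have h3 : ∀ χ, χ ≠ o → a χ ≠ 0 → e ≤ ∑ ν ∈ F, c χ ν ∧ ∑ ν ∈ F, c χ ν ≠ 0 := fun χ χ1 χ2 => by
    rw [s4, Nat.eq_of_mul_eq_mul_left (Nat.pos_of_ne_zero χ2) ((Finset.sum_eq_sum_iff_of_le
      fun χ _ => Nat.mul_le_mul_left _ (s3 χ)).1 s6 χ (Finset.mem_univ _))]
    obtain ⟨d1, d2⟩ := dvd_moved H.hp hY (irr_isChar χ.2) (s5 χ)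
    suffices i : t χ ≠ 0 from ⟨Nat.le_of_dvd (Nat.pos_of_ne_zero i) (he ▸ d1), i⟩
    intro t0
    have := charKer_normal (Irr_class χ)
    rcases eq_or_eq_of_prime_relIndex (h.idx.symm ▸ H.hp) (le_inf h.le (d2 t0)) inf_le_left
      with i | i
    · exact h.lemK H i
    have i1 := sum_fix (charKer (χ : G → ℂ)) b (h.trans_of_le H (inf_eq_left.1 i))
    simp only [hπ] at i1
    choose n n0 hn using fun ψ : IrrCharacter G => irr_deg_pos ψ.2
    have i2 : ((Nat.card (charKer (χ : G → ℂ)) * 1 : ℕ) : ℂ) = (Nat.card (charKer (χ : G → ℂ)) *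
        ∑ ψ : IrrCharacter G,
          if charKer (χ : G → ℂ) ≤ charKer (ψ : G → ℂ) then a ψ * n ψ else 0 : ℕ) := by
      rw [mul_one]
      refine (congrArg Nat.cast i1).symm.trans ?_
      simp only [Nat.cast_sum, Nat.cast_mul, Finset.mul_sum]
      rw [Finset.sum_congr rfl fun k _ => a4 _, Finset.sum_comm]
      refine Finset.sum_congr rfl fun ψ _ => ?_
      rw [← Finset.mul_sum]
      split_ifs with i3
      · rw [sum_of_le_charKer _ i3, hn]; push_cast; ring
      · rw [by_contra fun i4 => i3 (le_charKer_of_sum_ne_zero _ ψ.2 i4)]; simp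
    have i3 := Finset.add_le_sum (f := fun ψ : IrrCharacter G =>
      if charKer (χ : G → ℂ) ≤ charKer (ψ : G → ℂ) then a ψ * n ψ else 0)
      (fun _ _ => Nat.zero_le _) (Finset.mem_univ χ) (Finset.mem_univ o) χ1
    rw [← Nat.eq_of_mul_eq_mul_left (card_pos _) (Nat.cast_injective i2), if_pos le_rfl,
      if_pos (show _ ≤ charKer (o : G → ℂ) from fun _ _ _ => rfl), ao] at i3
    have := Nat.mul_pos (Nat.pos_of_ne_zero χ2) (n0 χ)
    have := n0 o
    omega
  obtain ⟨ν, ν2, ν3⟩ := Finset.exists_mem_ne (s := Fᶜ) (by omega) ⟨_, irr_one⟩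
  obtain ⟨x, x1, x2⟩ := comb hI p5 (by have := Nat.le_of_dvd (by omega) (he ▸ e1); omega) F F2 a c
    o ν (Finset.mem_compl.1 ν2) (by
      have := (hc o ν).symm.trans (inner_irr_ne irr_one (hi ν) fun e => ν3 (Subtype.ext
        (funext fun u => (φ2 u).elim fun g hg => hg ▸ (congrFun e g).symm)))
      exact_mod_cast this) h1 (h2 ν (Finset.mem_compl.1 ν2)) h3 hV
  have i1 := burnside_nat (G := G) (Ω := Ω × Ω)
  simp only [card_fixedBy_prod, hπ] at i1
  have i2 := sum_mul_conj_eq (fun g => (π g : ℂ)) fun g => (π g : ℂ)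
  simp only [map_natCast, a3] at i2
  have i3 : ∑ g, π g * π g = Nat.card G * ∑ χ, a χ ^ 2 := by exact_mod_cast i2
  rw [i1, mul_comm] at i3
  rw [Nat.eq_of_mul_eq_mul_left Nat.card_pos i3, ← Finset.sum_subset (Finset.subset_univ {o, x})
    fun y _ hy => by rw [x2 y (by simp at hy; exact hy.1) (by simp at hy; exact hy.2)]; simp]
  refine (Finset.sum_le_card_nsmul _ _ 1 fun y hy => ?_).trans (by simpa using Finset.card_le_two)
  rcases Finset.mem_insert.1 hy with rfl | hy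
  · rw [ao, one_pow]
  · rw [Finset.mem_singleton.1 hy, x1, one_pow]

omit h in
theorem Hyp.false : False := by
  obtain ⟨P, M, hM⟩ := H.exists_PM
  refine H.main hM fun a => ((Nat.dvd_prime H.hp).1 (hM.orb a)).resolve_left fun e => ?_
  obtain ⟨b, h⟩ := H.c3 hM (relIndex_eq_one.1 e)
  refine h.not_two H fun a b c d hab hcd => by_contra fun e => (h.rank H).not_gt ?_
  classical
  have i : ∀ x y : Ω × Ω, (Quotient.mk (orbitRel G (Ω × Ω)) x = Quotient.mk _ y) →
      ∃ k : G, k • y.1 = x.1 ∧ k • y.2 = x.2 := fun x y e => by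
    obtain ⟨k, rfl⟩ := Quotient.exact e
    exact ⟨k, rfl, rfl⟩
  have := Fintype.ofFinite (orbitRel.Quotient G (Ω × Ω))
  rw [Nat.card_eq_fintype_card]
  refine Fintype.two_lt_card_iff.2 ⟨Quotient.mk _ (c, d), Quotient.mk _ (a, b),
    Quotient.mk _ (a, a), fun h => e (i _ _ h), fun h => ?_, fun h => ?_⟩
  · obtain ⟨k, k1, k2⟩ := i _ _ h
    exact hcd (k1.symm.trans k2)
  · obtain ⟨k, k1, k2⟩ := i _ _ h
    exact hab (k1.symm.trans k2)

end CfsgH5.Elu
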