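import Cfsg.Agent.H8.Count3
import Cfsg.Agent.H8.CC9
import Cfsg.Agent.H8.SolvFit
import Cfsg.Agent.H7.SpecAlt
import Cfsg.Agent.H5.Ord60
import Cfsg.Agent.H9.TwoPrimes

set_option autoImplicit false
set_option maxRecDepth 100000

/-! The alternating groups of degree 4, 5, 6 from the numbers of elements of the same order. -/

namespace CfsgH5.NseAlt

open Subgroup CfsgH8 Finset

section General

variable {G : Type*} [Group G] [Finite G]

theorem frob {p : ℕ} (hp : p.Prime) (k : ℕ) (hk : p ^ k ∣ Nat.card G) :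
    p ^ k ∣ ∑ j ∈ range (k + 1), nord G (p ^ j) := by
  have := frobenius_pow hp hk
  rwa [Nat.sum_divisors_prime_pow hp] at this

theorem zero_of_dvd {n d : ℕ} (h : nord G d = 0) (hd : d ∣ n) : nord G n = 0 := by
  by_contra h0
  have := nord_pos_of_dvd (Nat.pos_of_ne_zero h0) hd
  omega

theorem pos_of_prime {p : ℕ} (hp : p.Prime) (h : p ∣ Nat.card G) : 0 < nord G p := by
  have := Fact.mk hp
  exact nord_pos_iff.2 (exists_prime_orderOf_dvd_card' p h)

theorem dvd_card_of_pos {n : ℕ} (h : 0 < nord G n) : n ∣ Nat.card G := by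
  obtain ⟨g, rfl⟩ := nord_pos_iff.1 h
  exact orderOf_dvd_natCard g

theorem sum_le_card (T : Finset ℕ) : ∑ d ∈ T, nord G d ≤ Nat.card G := by
  classical
  calc ∑ d ∈ T, nord G d = ∑ d ∈ T.filter (fun d => 0 < nord G d), nord G d := by
        rw [sum_filter]
        exact sum_congr rfl fun d _ => by split_ifs <;> omega
    _ ≤ ∑ d ∈ (Nat.card G).divisors, nord G d := by
        refine sum_le_sum_of_subset fun d hd => ?_
        exact Nat.mem_divisors.2 ⟨dvd_card_of_pos (mem_filter.1 hd).2, Nat.card_pos.ne'⟩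
    _ = Nat.card G := card_eq_sum_nord.symm

theorem sum_eq_card (T : Finset ℕ) (h : ∀ d, 0 < nord G d → d ∈ T) :
    ∑ d ∈ T, nord G d = Nat.card G := by
  classical
  refine le_antisymm (sum_le_card T) ?_
  conv_lhs => rw [card_eq_sum_nord]
  refine sum_le_sum_of_ne_zero fun d _ h0 => h d (Nat.pos_of_ne_zero h0)

theorem sum_set_le (S : Finset ℕ) (h : ∀ c ∈ S, ∃ n, nord G n = c) : ∑ c ∈ S, c ≤ Nat.card G := by
  classical
  choose! f hf using h
  refine le_trans (le_of_eq ?_) (sum_le_card (S.image f))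
  rw [sum_image fun a ha b hb hab => by rw [← hf a ha, ← hf b hb, hab]]
  exact sum_congr rfl fun c hc => (hf c hc).symm

theorem even_nord {n : ℕ} (hn : 2 < n) : 2 ∣ nord G n :=
  (Nat.totient_even hn).two_dvd.trans (totient_dvd_nord n)

theorem nord_two_of_odd {n c : ℕ} (h : nord G n = c) (h1 : c ≠ 1) (h2 : c % 2 = 1) :
    nord G 2 = c := by
  have h0 : n ≠ 0 := by
    rintro rfl
    have : nord G 0 = 0 := nord_eq_zero_iff.2 fun g => (orderOf_pos g).ne'
    omega
  have h3 : n ≠ 1 := by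
    rintro rfl
    exact h1 (h ▸ nord_one)
  have h4 : ¬ 2 < n := fun h5 => by
    have := even_nord (G := G) h5
    omega
  obtain rfl : n = 2 := by omega
  exact h

theorem factorization_eq {p a : ℕ} (hp : p.Prime) (h1 : p ^ a ∣ Nat.card G)
    (h2 : ¬ p ^ (a + 1) ∣ Nat.card G) : (Nat.card G).factorization p = a := by
  have h4 := (hp.pow_dvd_iff_le_factorization Nat.card_pos.ne').1 h1
  have h5 := mt (hp.pow_dvd_iff_le_factorization Nat.card_pos.ne').2 h2
  omega

/-- cyclic Sylow subgroups -/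
theorem cyc_sylow {p a : ℕ} [hp : Fact p.Prime] (h2 : ¬ p ^ (a + 1) ∣ Nat.card G)
    (h0 : 0 < nord G (p ^ a)) : nord G (p ^ a) = Nat.card (Sylow p G) * (p ^ a).totient ∧
      nord G p ≤ Nat.card (Sylow p G) * (p - 1) := by
  classical
  have h3 := factorization_eq hp.out (dvd_card_of_pos h0) h2
  obtain ⟨x, hx⟩ := nord_pos_iff.1 h0
  have hP : ∀ P : Sylow p G, ∃ x, orderOf x = p ^ a ∧ zpowers x = (P : Subgroup G) := by
    intro P
    let Q : Sylow p G := Sylow.ofCard (zpowers x) (by rw [Nat.card_zpowers, hx, h3])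
    obtain ⟨g, hg⟩ := MulAction.exists_smul_eq G Q P
    refine ⟨g * x * g⁻¹, by rw [← MulAut.conj_apply, MulEquiv.orderOf_eq, hx], ?_⟩
    refine eq_of_le_of_card_ge (zpowers_le.2 ?_) ?_
    · rw [← hg]
      exact Subgroup.smul_mem_pointwise_smul _ (MulAut.conj g) _ (mem_zpowers x)
    · rw [Nat.card_zpowers, ← MulAut.conj_apply, MulEquiv.orderOf_eq, hx, P.card_eq_multiplicity,
        h3]
  constructor
  · rw [nord_eq_mul]
    congr 1
    refine Nat.card_congr ⟨fun H => Sylow.ofCard H.1 ?_, fun P => ⟨P, hP P⟩, fun _ => rfl,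
      fun _ => rfl⟩
    obtain ⟨x, hx, hH⟩ := H.2
    rw [← hH, Nat.card_zpowers, hx, h3]
  · have key : ∀ y : {y : G // orderOf y = p}, ∃ P : Sylow p G, y.1 ∈ P := by
      rintro ⟨y, hy⟩
      obtain ⟨P, hP⟩ := (IsPGroup.of_card (G := zpowers y) (n := 1)
        (by rw [Nat.card_zpowers, hy, pow_one])).exists_le_sylow
      exact ⟨P, hP (mem_zpowers y)⟩
    choose f hf using key
    have h1 : nord G p ≤ Nat.card (Σ P : Sylow p G, {y : (P : Subgroup G) // orderOf y = p}) := by
      refine Nat.card_le_card_of_injective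
        (fun y => ⟨f y, ⟨y.1, hf y⟩, by rw [orderOf_mk, y.2]⟩) fun y z hyz => ?_
      exact Subtype.ext (congrArg (fun t : (Σ P : Sylow p G, {y : (P : Subgroup G) // orderOf y = p}) =>
        (t.2.1 : G)) hyz)
    have := Fintype.ofFinite (Sylow p G)
    rw [Nat.card_sigma] at h1
    refine h1.trans ?_
    rw [Nat.card_eq_fintype_card (α := Sylow p G), ← card_univ, ← smul_eq_mul]
    refine sum_le_card_nsmul _ _ _ fun P _ => ?_
    obtain ⟨w, hw, hwP⟩ := hP P
    have : IsCyclic (P : Subgroup G) := (Subgroup.isCyclic_iff_exists_zpowers_eq_top _).2 ⟨w, hwP⟩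
    have := Fintype.ofFinite (P : Subgroup G)
    by_cases hd : p ∣ Fintype.card (P : Subgroup G)
    · rw [Nat.card_eq_fintype_card, Fintype.card_subtype, ← Nat.totient_prime hp.out,
        ← IsCyclic.card_orderOf_eq_totient hd]
    · have : IsEmpty {y : (P : Subgroup G) // orderOf y = p} :=
        ⟨fun y => hd (by have := orderOf_dvd_card (x := y.1); rwa [y.2] at this)⟩
      simp

theorem cent_pgroup {p : ℕ} (hp : p.Prime) (h : ∀ r, r.Prime → r ≠ p → nord G (p * r) = 0)
    {x : G} (hx : orderOf x = p) : ∃ k, Nat.card (centralizer ({x} : Set G)) = p ^ k := by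
  have := Fact.mk hp
  refine ⟨_, Nat.eq_prime_pow_of_unique_prime_dvd Nat.card_pos.ne' fun {r} hr hd => ?_⟩
  by_contra hrp
  have := Fact.mk hr
  obtain ⟨y, hy⟩ := exists_prime_orderOf_dvd_card' r hd
  have hc : Commute x (y : G) := (mem_centralizer_singleton_iff.1 y.2).symm
  have hy' : orderOf (y : G) = r := by rw [orderOf_coe, hy]
  refine nord_eq_zero_iff.1 (h r hr hrp) (x * y) ?_
  rw [hc.orderOf_mul_eq_mul_orderOf_of_coprime, hx, hy']
  rw [hx, hy']
  exact (Nat.coprime_primes hp hr).2 (Ne.symm hrp)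

theorem card_dvd_mul_nord {p : ℕ} (hp : p.Prime) (h2 : ¬ p ^ 2 ∣ Nat.card G)
    (h1 : p ∣ Nat.card G) (h : ∀ r, r.Prime → r ≠ p → nord G (p * r) = 0) :
    Nat.card G ∣ p * nord G p := by
  obtain ⟨m, hm⟩ := h1
  rw [hm]
  refine Nat.mul_dvd_mul_left _ (dvd_nord_of_index fun g hg => ?_)
  obtain ⟨k, hk⟩ := cent_pgroup hp h hg
  have h3 := (centralizer ({g} : Set G)).card_mul_index
  have h4 : k < 2 := by
    by_contra h5
    exact h2 ((pow_dvd_pow p (not_lt.1 h5)).trans (hk ▸ card_subgroup_dvd_card _))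
  rw [hk, hm] at h3
  interval_cases k
  · exact ⟨p, by rw [pow_zero, one_mul] at h3; rw [h3, mul_comm]⟩
  · rw [pow_one] at h3
    exact dvd_of_eq (Nat.eq_of_mul_eq_mul_left hp.pos h3).symm

theorem dvd_of_primes {N : ℕ} (hN : N ≠ 0)
    (h : ∀ p, p.Prime → p ∣ Nat.card G → ¬ p ^ (N.factorization p + 1) ∣ Nat.card G) :
    Nat.card G ∣ N := by
  rw [← Nat.factorization_prime_le_iff_dvd Nat.card_pos.ne' hN]
  intro p hp
  by_cases hd : p ∣ Nat.card G
  · have := mt (hp.pow_dvd_iff_le_factorization Nat.card_pos.ne').2 (h p hp hd)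
    omega
  · rw [Nat.factorization_eq_zero_of_not_dvd hd]
    exact Nat.zero_le _

theorem nse_of_image {S : Set ℕ}
    (h : (fun m : ℕ => Nat.card {g : G // orderOf g = m}) '' Set.range (orderOf : G → ℕ) = S) :
    (∀ n, nord G n = 0 ∨ nord G n ∈ S) ∧ ∀ c ∈ S, ∃ n, nord G n = c := by
  subst h
  refine ⟨fun n => ?_, ?_⟩
  · rcases Nat.eq_zero_or_pos (nord G n) with h0 | h0
    · exact Or.inl h0
    · exact Or.inr ⟨n, nord_pos_iff.1 h0, rfl⟩
  · rintro _ ⟨n, -, rfl⟩
    exact ⟨n, rfl⟩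

/-- `p ∣ 1 + nord p`, `p - 1 ∣ nord p` -/
theorem prime_cond {p : ℕ} (hp : p.Prime) (h : p ∣ Nat.card G) :
    p ∣ 1 + nord G p ∧ p - 1 ∣ nord G p ∧ 0 < nord G p := by
  refine ⟨?_, Nat.totient_prime hp ▸ totient_dvd_nord p, pos_of_prime hp h⟩
  have := frob (G := G) hp 1 (by rwa [pow_one])
  simpa [sum_range_succ, nord_one] using this

end General

section Counts

theorem card_alt_pow (n d : ℕ) : Nat.card {g : alternatingGroup (Fin n) // g ^ d = 1} =
    (univ.filter fun σ : Equiv.Perm (Fin n) => Equiv.Perm.sign σ = 1 ∧ σ ^ d = 1).card := by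
  rw [← Fintype.card_subtype, ← Nat.card_eq_fintype_card]
  exact Nat.card_congr ⟨fun g => ⟨g.1.1, Equiv.Perm.mem_alternatingGroup.1 g.1.2,
    congrArg Subtype.val g.2⟩, fun σ => ⟨⟨σ.1, Equiv.Perm.mem_alternatingGroup.2 σ.2.1⟩,
    Subtype.ext σ.2.2⟩, fun _ => rfl, fun _ => rfl⟩

theorem c42 : (univ.filter fun σ : Equiv.Perm (Fin 4) => Equiv.Perm.sign σ = 1 ∧ σ ^ 2 = 1).card
    = 4 := by decide +kernel
theorem c43 : (univ.filter fun σ : Equiv.Perm (Fin 4) => Equiv.Perm.sign σ = 1 ∧ σ ^ 3 = 1).card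
    = 9 := by decide +kernel
theorem c52 : (univ.filter fun σ : Equiv.Perm (Fin 5) => Equiv.Perm.sign σ = 1 ∧ σ ^ 2 = 1).card
    = 16 := by decide +kernel
theorem c53 : (univ.filter fun σ : Equiv.Perm (Fin 5) => Equiv.Perm.sign σ = 1 ∧ σ ^ 3 = 1).card
    = 21 := by decide +kernel
theorem c55 : (univ.filter fun σ : Equiv.Perm (Fin 5) => Equiv.Perm.sign σ = 1 ∧ σ ^ 5 = 1).card
    = 25 := by decide +kernel
theorem c62 : (univ.filter fun σ : Equiv.Perm (Fin 6) => Equiv.Perm.sign σ = 1 ∧ σ ^ 2 = 1).card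
    = 46 := by decide +kernel
theorem c63 : (univ.filter fun σ : Equiv.Perm (Fin 6) => Equiv.Perm.sign σ = 1 ∧ σ ^ 3 = 1).card
    = 81 := by decide +kernel
theorem c64 : (univ.filter fun σ : Equiv.Perm (Fin 6) => Equiv.Perm.sign σ = 1 ∧ σ ^ 4 = 1).card
    = 136 := by decide +kernel
theorem c65 : (univ.filter fun σ : Equiv.Perm (Fin 6) => Equiv.Perm.sign σ = 1 ∧ σ ^ 5 = 1).card
    = 145 := by decide +kernel
theorem perm4_even_pow : ∀ g : Equiv.Perm (Fin 4), Equiv.Perm.sign g = 1 →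
    g ^ 2 = 1 ∨ g ^ 3 = 1 := by decide +kernel

theorem nord_prime {G : Type*} [Group G] [Finite G] {p c : ℕ} (hp : p.Prime)
    (h : Nat.card {g : G // g ^ p = 1} = c + 1) : nord G p = c := by
  rw [card_pow_eq_one_eq_sum hp.ne_zero, hp.sum_divisors, nord_one] at h
  omega

theorem image_eq {G : Type*} [Group G] [Finite G] (T : Finset ℕ)
    (h : ∀ g : G, orderOf g ∈ T) (h' : ∀ d ∈ T, 0 < nord G d) :
    (fun m : ℕ => Nat.card {g : G // orderOf g = m}) '' Set.range (orderOf : G → ℕ) =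
      (T.image (nord G) : Set ℕ) := by
  rw [coe_image]
  congr 1
  ext d
  exact ⟨by rintro ⟨g, rfl⟩; exact h g, fun hd => nord_pos_iff.1 (h' d hd)⟩

theorem image_alt4 : (fun m : ℕ => Nat.card {g : alternatingGroup (Fin 4) // orderOf g = m}) ''
    Set.range (orderOf : alternatingGroup (Fin 4) → ℕ) = {1, 3, 8} := by
  have h2 := nord_prime (c := 3) Nat.prime_two ((card_alt_pow 4 2).trans c42)
  have h3 := nord_prime (c := 8) Nat.prime_three ((card_alt_pow 4 3).trans c43)
  rw [image_eq {1, 2, 3}]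
  · simp [h2, h3, nord_one]
  · intro g
    rcases perm4_even_pow g (Equiv.Perm.mem_alternatingGroup.1 g.2) with h | h
    · have := (Nat.dvd_prime Nat.prime_two).1
        (orderOf_dvd_of_pow_eq_one (x := g) (Subtype.ext h))
      simp only [mem_insert, mem_singleton]; omega
    · have := (Nat.dvd_prime Nat.prime_three).1
        (orderOf_dvd_of_pow_eq_one (x := g) (Subtype.ext h))
      simp only [mem_insert, mem_singleton]; omega
  · simp [h2, h3, nord_one]

theorem image_alt5 : (fun m : ℕ => Nat.card {g : alternatingGroup (Fin 5) // orderOf g = m}) ''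
    Set.range (orderOf : alternatingGroup (Fin 5) → ℕ) = {1, 15, 20, 24} := by
  have h2 := nord_prime (c := 15) Nat.prime_two ((card_alt_pow 5 2).trans c52)
  have h3 := nord_prime (c := 20) Nat.prime_three ((card_alt_pow 5 3).trans c53)
  have h5 := nord_prime (c := 24) Nat.prime_five ((card_alt_pow 5 5).trans c55)
  rw [image_eq {1, 2, 3, 5}]
  · simp [h2, h3, h5, nord_one]
  · intro g
    have : orderOf g ∈ ({1, 2, 3, 5} : Set ℕ) := CfsgH7.spec_alt5' ▸ ⟨g, rfl⟩
    simpa using this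
  · simp [h2, h3, h5, nord_one]

theorem image_alt6 : (fun m : ℕ => Nat.card {g : alternatingGroup (Fin 6) // orderOf g = m}) ''
    Set.range (orderOf : alternatingGroup (Fin 6) → ℕ) = {1, 45, 80, 90, 144} := by
  have h2 := nord_prime (c := 45) Nat.prime_two ((card_alt_pow 6 2).trans c62)
  have h3 := nord_prime (c := 80) Nat.prime_three ((card_alt_pow 6 3).trans c63)
  have h5 := nord_prime (c := 144) Nat.prime_five ((card_alt_pow 6 5).trans c65)
  have h4 : nord (alternatingGroup (Fin 6)) 4 = 90 := by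
    have := (card_alt_pow 6 4).trans c64
    rw [card_pow_eq_one_eq_sum (by norm_num), show Nat.divisors 4 = {1, 2, 4} by decide] at this
    simp [h2, nord_one] at this
    omega
  rw [image_eq {1, 2, 3, 4, 5}]
  · simp [h2, h3, h4, h5, nord_one]
  · intro g
    have : orderOf g ∈ {d | d ∣ 4 ∨ d ∣ 3 ∨ d ∣ 5} := CfsgH7.spec_alt6 ▸ ⟨g, rfl⟩
    have h6 : orderOf g ≤ 5 := by
      rcases this with h | h | h <;> have := Nat.le_of_dvd (by norm_num) h <;> omega
    have h7 := orderOf_pos g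
    simp only [mem_insert, mem_singleton]; omega
  · simp [h2, h3, h4, h5, nord_one]

end Counts

end CfsgH5.NseAlt
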