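import Cfsg.Agent.H5.OB2

set_option autoImplicit false
set_option linter.unusedSectionVars false

namespace CfsgO5

open Subgroup CfsgH5 CfsgH6 CfsgFT CfsgSZ

universe u
variable {G : Type u} [Group G] [Finite G]

theorem tlem (U : Subgroup G) (hs : IsSimpleGroup U) (nc : CfsgOA.NC U) {k g : G} (k2 : k * k = 1)
    (hn : CfsgOA.cg k U = U) (uniq : ∀ q ∈ U, q * q = 1 → q * k = k * q → q = 1 ∨ q = g) :
    ∃ t ∈ U, t * k * t⁻¹ = k * g := by
  by_contra hne
  push Not at hne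
  have h := ns_of_nc hs nc
  have kU : ∀ u ∈ U, k * u * k⁻¹ ∈ U := fun u hu => hn ▸ ⟨u, hu, rfl⟩
  have fin : (∀ u ∈ U, u * k = k * u) → False := fun hc => by
    obtain ⟨a, ha, a2, a1⟩ := pt_exists_invol h.even
    obtain ⟨d, hd, d2, d1, da, -⟩ := h.second ha a1 a2
    exact da (((uniq d hd d2 (hc d hd)).resolve_left d1).trans
      ((uniq a ha a2 (hc a ha)).resolve_left a1).symm)
  by_cases k1 : k = 1
  · exact fin fun u _ => by rw [k1, mul_one, one_mul]
  have nr : Nrm (zpowers k) U := fun a ha u hu => by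
    rcases (mem_zpowers_invol k2).1 ha with rfl | rfl
    · simpa using hu
    · exact kU u hu
  have qU : ∀ t ∈ U, k * (t * k * t⁻¹) ∈ U := fun t ht => by
    have := mul_mem (kU t ht) (inv_mem ht)
    rwa [pt_inv k2, mul_assoc, mul_assoc, ← mul_assoc t] at this
  have kH : k ∈ U ⊔ zpowers k := mem_sup_right (mem_zpowers k)
  have hz := zstar kH k1 k2 (fun a ha c => by
    obtain ⟨t, ht, b, hb, rfl⟩ := (mem_sup_nrm' nr).1 ha
    have e : t * b * k * (t * b)⁻¹ = t * k * t⁻¹ := by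
      rcases (mem_zpowers_invol k2).1 hb with rfl | rfl <;> group
    rw [e] at c ⊢
    have s := pt_sq_conj k2 t
    obtain ⟨m, hm⟩ : ∃ m, m = t * k * t⁻¹ := ⟨_, rfl⟩
    have mU := qU t ht
    have ne := hne t ht
    rw [← hm] at c s mU ne ⊢
    rcases uniq _ mU (by rw [mul_assoc, ← mul_assoc m, ← c.eq, mul_assoc, s, mul_one, k2])
      (by rw [mul_assoc, ← c.eq]) with q | q
    · rw [eq_inv_of_mul_eq_one_right q, pt_inv k2]
    · exact (ne (by rw [← q, ← mul_assoc, k2, one_mul])).elim)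
  have nO := nrm_Opc 2 (U ⊔ zpowers k)
  have OU : Opc 2 (U ⊔ zpowers k) ⊓ U = ⊥ := by
    rcases h.nrm (K := Opc 2 (U ⊔ zpowers k) ⊓ U) inf_le_right (fun a ha x hx =>
      ⟨nO a (mem_sup_left ha) x hx.1, U.mul_mem (U.mul_mem ha hx.2) (U.inv_mem ha)⟩) with e | e
    · exact e
    · exfalso
      obtain ⟨a, ha, a2, a1⟩ := pt_exists_invol h.even
      exact a1 (pt_eq_one (pt_odd_mem (Nat.not_even_iff_odd.1 fun ev =>
        not_dvd_card_Opc Nat.prime_two _ (even_iff_two_dvd.1 ev)) (e.ge ha).1) a2)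
  refine fin fun u hu => ?_
  have uH : u ∈ U ⊔ zpowers k := mem_sup_left hu
  rw [← hz] at uH
  obtain ⟨o, ho, d, hd, e⟩ := (mem_sup_nrm' (Y := (U ⊔ zpowers k) ⊓ C1 k)
    fun a ha b hb => nO a ha.1 b hb).1 uH
  have dk := mem_C1_iff_conj.1 hd.2
  have m : k * (u * k * u⁻¹) ∈ Opc 2 (U ⊔ zpowers k) := by
    have : k * (u * k * u⁻¹) = k * o * k⁻¹ * o⁻¹ := by
      calc _ = k * o * (d * k * d⁻¹) * o⁻¹ := by rw [e]; group
        _ = _ := by rw [dk, pt_inv k2]
    rw [this]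
    exact mul_mem (nO k kH o ho) (inv_mem ho)
  have z : k * (u * k * u⁻¹) = 1 := mem_bot.1 (OU ▸ ⟨m, qU u hu⟩)
  have := eq_inv_of_mul_eq_one_right z
  rw [pt_inv k2, mul_inv_eq_iff_eq_mul] at this
  exact this

end CfsgO5
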