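import Mathlib

set_option autoImplicit false

namespace CfsgQE

variable {G : Type*} [Group G]

theorem comm_aux {A : Type*} [CommGroup A] (h2 : ∀ a : A, a * a = 1) (L : A →* A)
    (h4 : ∀ a, L (L (L (L a))) = a) (h : ∀ a, L (L a) = a → L a = a) (a : A) : L a = a := by
  have k : ∀ x y : A, x * y = 1 → x = y := by
    intro x y hxy
    have := h2 y
    calc x = x * (y * y) := by rw [this, mul_one]
      _ = (x * y) * y := by rw [mul_assoc]
      _ = y := by rw [hxy, one_mul]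
  have h1 : L (L (L a) * a) = L (L a) * a := by
    apply h
    rw [map_mul, map_mul, h4, mul_comm]
  have h3 : L (L a * a) = L a * a := by
    apply h
    simp only [map_mul] at h1 ⊢
    apply k
    have e : L (L (L a)) * L (L a) * (L a * a) = (L (L (L a)) * L a) * (L (L a) * a) := by
      simp only [mul_assoc, mul_comm, mul_left_comm]
    rw [e, h1, h2]
  apply h
  rw [map_mul, mul_comm (L a) a] at h3
  exact mul_right_cancel h3

/-- unipotent action of an element of order dividing 4 on an elementary abelian section -/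
theorem unip (A B : Subgroup G) (f : G) (hf : ∀ a ∈ A, f * a * f⁻¹ ∈ A)
    (hfB : ∀ b ∈ B, f * b * f⁻¹ ∈ B)
    (hn : ∀ a ∈ A, ∀ b ∈ B, a * b * a⁻¹ ∈ B)
    (hcomm : ∀ a ∈ A, ∀ b ∈ A, a * b * a⁻¹ * b⁻¹ ∈ B) (hsq : ∀ a ∈ A, a * a ∈ B)
    (h4 : f * f * (f * f) = 1)
    (h : ∀ a ∈ A, a⁻¹ * (f * f * a * (f * f)⁻¹) ∈ B → a⁻¹ * (f * a * f⁻¹) ∈ B) :
    ∀ a ∈ A, a⁻¹ * (f * a * f⁻¹) ∈ B := by
  let B' : Subgroup A := B.subgroupOf A
  haveI : B'.Normal := ⟨fun b hb a => by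
    simp only [B', Subgroup.mem_subgroupOf] at hb ⊢
    exact hn a a.2 b hb⟩
  let c : A →* A := 
    { toFun := fun a => ⟨f * a * f⁻¹, hf a a.2⟩
      map_one' := by ext; simp
      map_mul' := fun a b => by ext; simp [mul_assoc] }
  have hc : B' ≤ B'.comap c := fun b hb => by
    simp only [B', Subgroup.mem_subgroupOf, Subgroup.mem_comap] at hb ⊢
    exact hfB b hb
  let L : A ⧸ B' →* A ⧸ B' := QuotientGroup.map B' B' c hc
  have hL : ∀ a : A, L (a : A ⧸ B') = ((c a : A) : A ⧸ B') := fun a => rfl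
  letI : CommGroup (A ⧸ B') :=
    { (inferInstance : Group (A ⧸ B')) with
      mul_comm := fun x y => by
        obtain ⟨a, rfl⟩ := QuotientGroup.mk_surjective x
        obtain ⟨b, rfl⟩ := QuotientGroup.mk_surjective y
        rw [← QuotientGroup.mk_mul, ← QuotientGroup.mk_mul, QuotientGroup.eq]
        simp only [B', Subgroup.mem_subgroupOf]
        have := hcomm _ (A.inv_mem b.2) _ (A.inv_mem a.2)
        simpa [mul_assoc] using this }
  have key := comm_aux (A := A ⧸ B') (fun x => by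
      obtain ⟨a, rfl⟩ := QuotientGroup.mk_surjective x
      rw [← QuotientGroup.mk_mul, QuotientGroup.eq_one_iff]
      simp only [B', Subgroup.mem_subgroupOf]
      exact hsq a a.2) L (fun x => by
      obtain ⟨a, rfl⟩ := QuotientGroup.mk_surjective x
      simp only [hL]
      congr 1
      ext
      show f * (f * (f * (f * (a : G) * f⁻¹) * f⁻¹) * f⁻¹) * f⁻¹ = a
      have : f * (f * (f * (f * (a : G) * f⁻¹) * f⁻¹) * f⁻¹) * f⁻¹
          = (f * f * (f * f)) * a * (f * f * (f * f))⁻¹ := by group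
      rw [this, h4]; simp) (fun x hx => by
      obtain ⟨a, rfl⟩ := QuotientGroup.mk_surjective x
      simp only [hL] at hx ⊢
      rw [eq_comm, QuotientGroup.eq] at hx ⊢
      simp only [B', Subgroup.mem_subgroupOf] at hx ⊢
      apply h a a.2
      have e : (a : G)⁻¹ * (f * f * a * (f * f)⁻¹) = ((a⁻¹ * c (c a) : A) : G) := by
        show _ = (a : G)⁻¹ * (f * (f * (a : G) * f⁻¹) * f⁻¹)
        group
      rw [e]; exact hx)
  intro a ha
  have := key ((⟨a, ha⟩ : A) : A ⧸ B')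
  rw [hL, eq_comm, QuotientGroup.eq] at this
  simpa [B', Subgroup.mem_subgroupOf, c] using this

/-- abstract block system for the prime 2 with no singular pair -/
structure Sys (K : Set G) (Bk : Subgroup G → Prop) (Z : Subgroup G → Subgroup G) : Prop where
  conj : ∀ x ∈ K, ∀ g : G, g * x * g⁻¹ ∈ K
  odd : ∀ x ∈ K, Odd (orderOf x)
  ns : ∀ x ∈ K, ∀ y ∈ K, (x⁻¹ * y) * (x⁻¹ * y) = 1 → x = y
  zle : ∀ R, Bk R → Z R ≤ R
  zn : ∀ R, Bk R → ∀ g ∈ Subgroup.normalizer (R : Set G), ∀ z ∈ Z R, g * z * g⁻¹ ∈ Z R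
  zsq : ∀ R, Bk R → ∀ z ∈ Z R, z * z = 1
  zR : ∀ R, Bk R → ∀ z ∈ Z R, ∀ a ∈ R, z * a = a * z
  zx : ∀ R, Bk R → ∀ z ∈ Z R, ∀ x ∈ K, x ∈ Subgroup.normalizer (R : Set G) → z * x = x * z
  cx : ∀ R, Bk R → ∀ x ∈ K, x ∈ Subgroup.normalizer (R : Set G) → ∀ a ∈ R, a * x = x * a → a ∈ Z R
  comm : ∀ R, Bk R → ∀ a ∈ R, ∀ b ∈ R, a * b * a⁻¹ * b⁻¹ ∈ Z R
  sq : ∀ R, Bk R → ∀ a ∈ R, a * a ∈ Z R
  pt : ∀ R, Bk R → ∀ x ∈ K, x ∈ Subgroup.normalizer (R : Set G) → ∀ y ∈ K,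
    y ∈ Subgroup.normalizer (R : Set G) → ∃ a ∈ R, y = a * x * a⁻¹
  surj : ∀ R, Bk R → ∀ x ∈ K, x ∈ Subgroup.normalizer (R : Set G) → ∀ a ∈ R,
    ∃ b ∈ R, ∃ z ∈ Z R, a = x⁻¹ * (b * x * b⁻¹) * z
  ti : ∀ R, Bk R → ∀ u ∈ Z R, u ≠ 1 → ∀ g : G, g * u = u * g → g ∈ Subgroup.normalizer (R : Set G)
  ti2 : ∀ R R1, Bk R → Bk R1 → ∀ u ∈ Z R, u ∈ Z R1 → u ≠ 1 → R = R1
  na : ∀ R R1, Bk R → Bk R1 → ∀ x ∈ K, x ∈ Subgroup.normalizer (R : Set G) →
    x ∈ Subgroup.normalizer (R1 : Set G) → ∀ u ∈ Z R, u ∈ Subgroup.normalizer (R1 : Set G) →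
    u ≠ 1 → R = R1
  pair : ∀ x ∈ K, ∀ y ∈ K, ∃ R, Bk R ∧ x ∈ Subgroup.normalizer (R : Set G) ∧
    y ∈ Subgroup.normalizer (R : Set G)
  bconj : ∀ R, Bk R → ∀ g : G, Bk (R.map (MulAut.conj g).toMonoidHom)

variable {K : Set G} {Bk : Subgroup G → Prop} {Z : Subgroup G → Subgroup G}

theorem nmem {R : Subgroup G} {g a : G} (hg : g ∈ Subgroup.normalizer (R : Set G)) (ha : a ∈ R) :
    g * a * g⁻¹ ∈ R := (Subgroup.mem_normalizer_iff.1 hg a).1 ha

theorem Sys.diff (h : Sys K Bk Z) {R : Subgroup G} (hR : Bk R) {x y : G} (hx : x ∈ K)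
    (hxn : x ∈ Subgroup.normalizer (R : Set G)) (hy : y ∈ K)
    (hyn : y ∈ Subgroup.normalizer (R : Set G)) : x⁻¹ * y ∈ R := by
  obtain ⟨a, ha, rfl⟩ := h.pt R hR x hx hxn y hy hyn
  have := R.mul_mem (nmem (Subgroup.inv_mem _ hxn) ha) (R.inv_mem ha)
  simpa [mul_assoc] using this

theorem Sys.inv_mem_Z (h : Sys K Bk Z) {R : Subgroup G} (hR : Bk R) {x : G} (hx : x ∈ K)
    (hxn : x ∈ Subgroup.normalizer (R : Set G)) {a : G} (ha : a ∈ R) (h2 : a * a = 1) :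
    a ∈ Z R := by
  obtain ⟨b, hb, z, hz, rfl⟩ := h.surj R hR x hx hxn a ha
  have ht : x⁻¹ * (b * x * b⁻¹) ∈ R := by
    have := R.mul_mem (nmem (Subgroup.inv_mem _ hxn) hb) (R.inv_mem hb)
    simpa [mul_assoc] using this
  have h1 := h.zR R hR z hz _ ht
  have h3 := h.zsq R hR z hz
  have : (x⁻¹ * (b * x * b⁻¹)) * (x⁻¹ * (b * x * b⁻¹)) = 1 := by
    set t := x⁻¹ * (b * x * b⁻¹)
    calc t * t = t * (z * z) * t := by rw [h3, mul_one]
      _ = t * z * (z * t) := by group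
      _ = t * z * (t * z) := by rw [h1]
      _ = 1 := h2
  have e := h.ns x hx _ (h.conj x hx b) this
  rw [← e]; simpa using hz

theorem Sys.decomp (h : Sys K Bk Z) {R : Subgroup G} (hR : Bk R) {x : G} (hx : x ∈ K)
    (hxn : x ∈ Subgroup.normalizer (R : Set G)) {w : G} (hw : w * w = 1)
    (hwn : w ∈ Subgroup.normalizer (R : Set G)) (hne : w * x ≠ x * w) :
    ∃ f ∈ R, f * f ≠ 1 ∧ f * w = w * f := by
  have hy : w * x * w⁻¹ ∈ K := h.conj x hx w
  have hyn : w * x * w⁻¹ ∈ Subgroup.normalizer (R : Set G) :=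
    Subgroup.mul_mem _ (Subgroup.mul_mem _ hwn hxn) (Subgroup.inv_mem _ hwn)
  obtain ⟨a, ha, hya⟩ := h.pt R hR x hx hxn _ hy hyn
  obtain ⟨b, hb, z, hz, hab⟩ := h.surj R hR x hx hxn a ha
  set f := x⁻¹ * (b * x * b⁻¹) with hf
  have hfR : f ∈ R := by
    have := R.mul_mem (nmem (Subgroup.inv_mem _ hxn) hb) (R.inv_mem hb)
    simpa [hf, mul_assoc] using this
  have hzx := h.zx R hR z hz x hx hxn
  have hyf : w * x * w⁻¹ = f * x * f⁻¹ := by
    rw [hya, hab]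
    calc f * z * x * (f * z)⁻¹ = f * (z * x) * z⁻¹ * f⁻¹ := by group
      _ = f * (x * z) * z⁻¹ * f⁻¹ := by rw [hzx]
      _ = f * x * f⁻¹ := by group
  have hwi : w⁻¹ = w := by rw [inv_eq_iff_mul_eq_one, hw]
  refine ⟨f, hfR, fun h2 => hne ?_, ?_⟩
  · have hfZ := h.inv_mem_Z hR hx hxn hfR h2
    have := h.zx R hR f hfZ x hx hxn
    have e : w * x * w⁻¹ = x := by rw [hyf, this]; group
    calc w * x = (w * x * w⁻¹) * w := by group
      _ = x * w := by rw [e]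
  · -- e = f⁻¹ w centralises x
    have he : f⁻¹ * w * x * (f⁻¹ * w)⁻¹ = x := by
      calc f⁻¹ * w * x * (f⁻¹ * w)⁻¹ = f⁻¹ * (w * x * w⁻¹) * f := by group
        _ = x := by rw [hyf]; group
    have hfw : w * f * w⁻¹ ∈ R := nmem hwn hfR
    have hc : (w * f * w⁻¹ * f) * x = x * (w * f * w⁻¹ * f) := by
      have : (w * f * w⁻¹ * f) * x * (w * f * w⁻¹ * f)⁻¹ = x := by
        calc (w * f * w⁻¹ * f) * x * (w * f * w⁻¹ * f)⁻¹
            = w * f * w⁻¹ * (f * x * f⁻¹) * (w * f * w⁻¹)⁻¹ := by group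
          _ = w * f * w⁻¹ * (w * x * w⁻¹) * (w * f * w⁻¹)⁻¹ := by rw [← hyf]
          _ = w * (f * x * f⁻¹) * w⁻¹ := by group
          _ = w * (w * x * w⁻¹) * w⁻¹ := by rw [← hyf]
          _ = (w * w) * x * (w * w)⁻¹ := by group
          _ = x := by rw [hw]; simp
      calc (w * f * w⁻¹ * f) * x = ((w * f * w⁻¹ * f) * x * (w * f * w⁻¹ * f)⁻¹) *
            (w * f * w⁻¹ * f) := by group
        _ = _ := by rw [this]
    have hz1 := h.cx R hR x hx hxn _ (R.mul_mem hfw hfR) hc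
    have hz2 := h.sq R hR f hfR
    -- ζ = f⁻¹ * (e f e⁻¹)
    set e := f⁻¹ * w with he_def
    have hen : e ∈ Subgroup.normalizer (R : Set G) :=
      Subgroup.mul_mem _ (Subgroup.inv_mem _ (Subgroup.le_normalizer hfR)) hwn
    have hζ : f⁻¹ * (e * f * e⁻¹) ∈ Z R := by
      have h5 := (Z R).mul_mem ((Z R).inv_mem hz2) hz1
      have : f⁻¹ * (e * f * e⁻¹) = (f * f)⁻¹ * (w * f * w⁻¹ * f) := by
        rw [he_def]; group
      rw [this]; exact h5
    set ζ := f⁻¹ * (e * f * e⁻¹) with hζ_def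
    have hb' : e * b * e⁻¹ * x * (e * b * e⁻¹)⁻¹ = (b * x * b⁻¹) * ζ := by
      have hxe : e * x * e⁻¹ = x := he
      have hxe' : e⁻¹ * x * e = x := by
        calc e⁻¹ * x * e = e⁻¹ * (e * x * e⁻¹) * e := by rw [hxe]
          _ = x := by group
      have h7 : e * f * e⁻¹ = x⁻¹ * (e * b * e⁻¹ * x * (e * b * e⁻¹)⁻¹) := by
        calc e * f * e⁻¹ = (e * x * e⁻¹)⁻¹ * (e * b * e⁻¹ * (e * x * e⁻¹) * (e * b * e⁻¹)⁻¹) := by
              rw [hf]; group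
          _ = _ := by rw [hxe]
      rw [hζ_def, h7, hf]; group
    have hyK : b * x * b⁻¹ ∈ K := h.conj x hx b
    have hyN : b * x * b⁻¹ ∈ Subgroup.normalizer (R : Set G) :=
      Subgroup.mul_mem _ (Subgroup.mul_mem _ (Subgroup.le_normalizer hb) hxn)
        (Subgroup.inv_mem _ (Subgroup.le_normalizer hb))
    have hcm : Commute (b * x * b⁻¹) ζ := (h.zx R hR ζ hζ _ hyK hyN).symm
    obtain ⟨m, hm⟩ := h.odd x hx
    have hp1 : (e * b * e⁻¹ * x * (e * b * e⁻¹)⁻¹) ^ orderOf x = 1 := by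
      rw [conj_pow, pow_orderOf_eq_one]; simp
    have hp2 : (b * x * b⁻¹) ^ orderOf x = 1 := by
      rw [conj_pow, pow_orderOf_eq_one]; simp
    rw [hb', hcm.mul_pow, hp2, one_mul, hm, pow_succ, pow_mul, pow_two, h.zsq R hR ζ hζ,
      one_pow, one_mul] at hp1
    have h8 : e * f * e⁻¹ = f := by
      have : f⁻¹ * (e * f * e⁻¹) = 1 := hp1
      exact (inv_mul_eq_one.1 this).symm
    calc f * w = f * f * (f⁻¹ * w) := by group
      _ = f * (e * f * e⁻¹) * e := by rw [h8]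
      _ = w * f := by rw [he_def]; group

end CfsgQE
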