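import Cfsg.Agent.H5.QE1

set_option autoImplicit false

namespace CfsgQE

variable {G : Type*} [Group G]
variable {K : Set G} {Bk : Subgroup G → Prop} {Z : Subgroup G → Subgroup G}

theorem mem_norm_map {R : Subgroup G} {g x : G} (hx : x ∈ Subgroup.normalizer (R : Set G)) :
    g * x * g⁻¹ ∈ Subgroup.normalizer ((R.map (MulAut.conj g).toMonoidHom : Subgroup G) : Set G) := by
  rw [Subgroup.mem_normalizer_iff] at hx ⊢
  intro a
  have key : ∀ c : G, c ∈ R.map (MulAut.conj g).toMonoidHom ↔ g⁻¹ * c * g ∈ R := by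
    intro c
    constructor
    · rintro ⟨d, hd, rfl⟩
      simpa [mul_assoc] using hd
    · intro hc
      exact ⟨_, hc, by simp [mul_assoc]⟩
  rw [key, key, hx]
  have : x * (g⁻¹ * a * g) * x⁻¹ = g⁻¹ * (g * x * g⁻¹ * a * (g * x * g⁻¹)⁻¹) * g := by group
  rw [this]

theorem norm_of_map_eq {R : Subgroup G} {g : G} (h : R.map (MulAut.conj g).toMonoidHom = R) :
    g ∈ Subgroup.normalizer (R : Set G) := by
  rw [Subgroup.mem_normalizer_iff]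
  intro a
  constructor
  · intro ha
    rw [← h]; exact ⟨a, ha, by simp⟩
  · intro ha
    rw [← h] at ha
    obtain ⟨d, hd, e⟩ := ha
    have : d = a := by simpa using e
    rw [← this]; exact hd

theorem Sys.uniq (h : Sys K Bk Z) {R R1 : Subgroup G} (hR : Bk R) (hR1 : Bk R1) {x y : G}
    (hx : x ∈ K) (hy : y ∈ K) (hxy : x ≠ y)
    (h1 : x ∈ Subgroup.normalizer (R : Set G)) (h2 : y ∈ Subgroup.normalizer (R : Set G))
    (h3 : x ∈ Subgroup.normalizer (R1 : Set G)) (h4 : y ∈ Subgroup.normalizer (R1 : Set G)) :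
    R = R1 :=
  h.ti2 R R1 hR hR1 _ (h.sq R hR _ (h.diff hR hx h1 hy h2)) (h.sq R1 hR1 _ (h.diff hR1 hx h3 hy h4))
    (fun e => hxy (h.ns x hx y hy e))

theorem Sys.cent_V (h : Sys K Bk Z) {R : Subgroup G} (hR : Bk R) {x : G} (hx : x ∈ K)
    (hxn : x ∈ Subgroup.normalizer (R : Set G)) {f : G}
    (hfn : f ∈ Subgroup.normalizer (R : Set G)) (h4 : f * f * (f * f) = 1)
    (hZ : ∀ z ∈ Z R, f * z * f⁻¹ = z) : ∀ a ∈ R, a⁻¹ * (f * a * f⁻¹) ∈ Z R := by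
  apply unip R (Z R) f (fun a ha => nmem hfn ha) (fun b hb => h.zn R hR f hfn b hb)
    (fun a ha b hb => h.zn R hR a (Subgroup.le_normalizer ha) b hb) (h.comm R hR) (h.sq R hR) h4
  intro a ha hLL
  have hLa : f * a * f⁻¹ ∈ R := nmem hfn ha
  set i := a⁻¹ * (f * a * f⁻¹) with hi
  have hiR : i ∈ R := R.mul_mem (R.inv_mem ha) hLa
  -- f i f⁻¹ = i ζ
  have hLi : i⁻¹ * (f * i * f⁻¹) ∈ Z R := by
    have e : i⁻¹ * (f * i * f⁻¹) = ((f * a * f⁻¹)⁻¹ * a * (f * a * f⁻¹) * a⁻¹) *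
        (a * ((f * a * f⁻¹) * (f * a * f⁻¹))⁻¹ * a⁻¹) * (a * a) * (a⁻¹ * (f * f * a * (f * f)⁻¹)) := by
      rw [hi]; group
    rw [e]
    refine (Z R).mul_mem ((Z R).mul_mem ((Z R).mul_mem ?_ ?_) (h.sq R hR a ha)) hLL
    · have := h.comm R hR _ (R.inv_mem hLa) a ha
      simpa using this
    · exact h.zn R hR a (Subgroup.le_normalizer ha) _ ((Z R).inv_mem (h.sq R hR _ hLa))
  set i' := x * i * x⁻¹ with hi'
  have hi'R : i' ∈ R := nmem hxn hiR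
  have hfx : f * x * f⁻¹ ∈ K := h.conj x hx f
  have hfxn : f * x * f⁻¹ ∈ Subgroup.normalizer (R : Set G) :=
    Subgroup.mul_mem _ (Subgroup.mul_mem _ hfn hxn) (Subgroup.inv_mem _ hfn)
  have ht := h.diff hR hx hxn hfx hfxn
  set t := x⁻¹ * (f * x * f⁻¹) with ht_def
  have hLi' : i'⁻¹ * (f * i' * f⁻¹) ∈ Z R := by
    have e : i'⁻¹ * (f * i' * f⁻¹) = x * ((i⁻¹ * t * i * t⁻¹) * (t * (i⁻¹ * (f * i * f⁻¹)) * t⁻¹)) * x⁻¹ := by
      rw [hi', ht_def]; group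
    rw [e]
    refine h.zn R hR x hxn _ ((Z R).mul_mem ?_ (h.zn R hR t (Subgroup.le_normalizer ht) _ hLi))
    have := h.comm R hR _ (R.inv_mem hiR) t ht
    simpa using this
  have hκ := h.comm R hR a ha i' hi'R
  have hκf := hZ _ hκ
  set ζ := i'⁻¹ * (f * i' * f⁻¹) with hζ
  have hζ1 := h.zR R hR ζ hLi' _ (R.inv_mem hLa)
  have hcomm : i * i' = i' * i := by
    have e1 : f * i' * f⁻¹ = i' * ζ := by rw [hζ]; group
    have e2 : f * (a * i' * a⁻¹ * i'⁻¹) * f⁻¹ =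
        (f * a * f⁻¹) * (f * i' * f⁻¹) * (f * a * f⁻¹)⁻¹ * (f * i' * f⁻¹)⁻¹ := by group
    rw [e2, e1] at hκf
    have e3 : (f * a * f⁻¹) * (i' * ζ) * (f * a * f⁻¹)⁻¹ * (i' * ζ)⁻¹ =
        (f * a * f⁻¹) * i' * (ζ * (f * a * f⁻¹)⁻¹) * ζ⁻¹ * i'⁻¹ := by group
    rw [e3, hζ1] at hκf
    have e4 : (f * a * f⁻¹) * i' * (f * a * f⁻¹)⁻¹ = a * i' * a⁻¹ := by
      calc (f * a * f⁻¹) * i' * (f * a * f⁻¹)⁻¹
          = ((f * a * f⁻¹) * i' * ((f * a * f⁻¹)⁻¹ * ζ) * ζ⁻¹ * i'⁻¹) * i' := by group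
        _ = (a * i' * a⁻¹ * i'⁻¹) * i' := by rw [hκf]
        _ = a * i' * a⁻¹ := by group
    calc i * i' = a⁻¹ * ((f * a * f⁻¹) * i' * (f * a * f⁻¹)⁻¹) * (f * a * f⁻¹) := by rw [hi]; group
      _ = a⁻¹ * (a * i' * a⁻¹) * (f * a * f⁻¹) := by rw [e4]
      _ = i' * i := by rw [hi]; group
  have hsq := h.zx R hR _ (h.sq R hR i hiR) x hx hxn
  have hy : i * x * i⁻¹ ∈ K := h.conj x hx i
  have hs : ((i * x * i⁻¹)⁻¹ * x) * ((i * x * i⁻¹)⁻¹ * x) = 1 := by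
    have e1 : (i * x * i⁻¹)⁻¹ * x = x⁻¹ * (i' * i⁻¹) * x := by rw [hi']; group
    have e2 : i' * i⁻¹ * (i' * i⁻¹) = 1 := by
      have c1 : i⁻¹ * i' = i' * i⁻¹ := by
        calc i⁻¹ * i' = i⁻¹ * (i' * i) * i⁻¹ := by group
          _ = i⁻¹ * (i * i') * i⁻¹ := by rw [hcomm]
          _ = i' * i⁻¹ := by group
      calc i' * i⁻¹ * (i' * i⁻¹) = i' * (i⁻¹ * i') * i⁻¹ := by group
        _ = i' * (i' * i⁻¹) * i⁻¹ := by rw [c1]
        _ = x * (i * i) * x⁻¹ * (i * i)⁻¹ := by rw [hi']; group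
        _ = (i * i * x) * x⁻¹ * (i * i)⁻¹ := by rw [hsq]
        _ = 1 := by group
    rw [e1]
    calc x⁻¹ * (i' * i⁻¹) * x * (x⁻¹ * (i' * i⁻¹) * x) = x⁻¹ * (i' * i⁻¹ * (i' * i⁻¹)) * x := by group
      _ = 1 := by rw [e2]; group
  have e := h.ns _ hy x hx hs
  apply h.cx R hR x hx hxn i hiR
  calc i * x = (i * x * i⁻¹) * i := by group
    _ = x * i := by rw [e]

/-- final kill for the prime 2 -/
theorem Sys.kill (h : Sys K Bk Z) {R : Subgroup G} (hR : Bk R) {g g' x : G} (hg : g ∈ K)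
    (hgn : g ∈ Subgroup.normalizer (R : Set G)) (hg' : g' ∈ K)
    (hgn' : g' ∈ Subgroup.normalizer (R : Set G)) (hgg : g ≠ g') (hx : x ∈ K)
    (hxn : x ∉ Subgroup.normalizer (R : Set G)) : False := by
  set u := (g⁻¹ * g') * (g⁻¹ * g') with hu_def
  have hu : u ∈ Z R := h.sq R hR _ (h.diff hR hg hgn hg' hgn')
  have hu1 : u ≠ 1 := fun e => hgg (h.ns g hg g' hg' e)
  have huu := h.zsq R hR u hu
  have hux : u * x ≠ x * u := fun e => hxn (h.ti R hR u hu hu1 x e.symm)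
  have hy : u * x * u⁻¹ ∈ K := h.conj x hx u
  have hxy : x ≠ u * x * u⁻¹ := fun e => hux (by
    calc u * x = (u * x * u⁻¹) * u := by group
      _ = x * u := by rw [← e])
  obtain ⟨R1, hR1, hx1, hy1⟩ := h.pair x hx _ hy
  have hu1n : u ∈ Subgroup.normalizer (R1 : Set G) := by
    apply norm_of_map_eq
    refine h.uniq (h.bconj R1 hR1 u) hR1 hx hy hxy ?_ (mem_norm_map hx1) hx1 hy1
    have := mem_norm_map (g := u) hy1
    have e : u * (u * x * u⁻¹) * u⁻¹ = x := by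
      calc u * (u * x * u⁻¹) * u⁻¹ = (u * u) * x * (u * u)⁻¹ := by group
        _ = x := by rw [huu]; simp
    rwa [e] at this
  have hne : R ≠ R1 := fun e => hxn (e ▸ hx1)
  obtain ⟨f, hf, hf2, hfu⟩ := h.decomp hR1 hx hx1 huu hu1n hux
  have hfn : f ∈ Subgroup.normalizer (R : Set G) := h.ti R hR u hu hu1 f hfu
  have hu' : f * f ∈ Z R1 := h.sq R1 hR1 f hf
  have hu'g : f * f * g ≠ g * (f * f) := fun e =>
    hne (h.na R R1 hR hR1 g hg hgn (h.ti R1 hR1 _ hu' hf2 g e.symm) u hu hu1n hu1)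
  obtain ⟨f1, hf1, hf12, hf1u⟩ := h.decomp hR hg hgn (h.zsq R1 hR1 _ hu')
    (Subgroup.mul_mem _ hfn hfn) hu'g
  have hf1n : f1 ∈ Subgroup.normalizer (R1 : Set G) := h.ti R1 hR1 _ hu' hf2 f1 hf1u
  have hy1Z : f1 * f1 ∈ Z R := h.sq R hR f1 hf1
  have h4 : f1 * f1 * (f1 * f1) = 1 := h.zsq R hR _ hy1Z
  have hZ1 : ∀ z ∈ Z R1, f1 * z * f1⁻¹ = z := by
    have := unip (Z R1) ⊥ f1 (fun a ha => h.zn R1 hR1 f1 hf1n a ha) (by simp) (by simp)
      (fun a ha b hb => by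
        rw [h.zR R1 hR1 a ha b (h.zle R1 hR1 hb)]; simp)
      (fun a ha => by rw [h.zsq R1 hR1 a ha]; simp) h4 (fun v hv hvv => by
        rw [Subgroup.mem_bot] at hvv ⊢
        have hc : v * (f1 * f1) = f1 * f1 * v := by
          have e := inv_mul_eq_one.1 hvv
          calc v * (f1 * f1) = (f1 * f1 * v * (f1 * f1)⁻¹) * (f1 * f1) := by rw [← e]
            _ = f1 * f1 * v := by group
        have hvn := h.ti R hR _ hy1Z hf12 v hc
        have m1 : v⁻¹ * (f1 * v * f1⁻¹) ∈ Z R1 :=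
          (Z R1).mul_mem ((Z R1).inv_mem hv) (h.zn R1 hR1 f1 hf1n v hv)
        have m2 : v⁻¹ * (f1 * v * f1⁻¹) ∈ R := by
          have := R.mul_mem (nmem (Subgroup.inv_mem _ hvn) hf1) (R.inv_mem hf1)
          simpa [mul_assoc] using this
        have m3 := h.inv_mem_Z hR hg hgn m2 (h.zsq R1 hR1 _ m1)
        by_contra hn
        exact hne (h.ti2 R R1 hR hR1 _ m3 m1 hn))
    intro z hz
    have e := this z hz
    rw [Subgroup.mem_bot] at e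
    exact (inv_mul_eq_one.1 e).symm
  have hV := h.cent_V hR1 hx hx1 hf1n h4 hZ1
  have hfx : f1 * x * f1⁻¹ ∈ K := h.conj x hx f1
  have hfxn : f1 * x * f1⁻¹ ∈ Subgroup.normalizer (R1 : Set G) :=
    Subgroup.mul_mem _ (Subgroup.mul_mem _ hf1n hx1) (Subgroup.inv_mem _ hf1n)
  obtain ⟨d, hd, hdx⟩ := h.pt R1 hR1 x hx hx1 _ hfx hfxn
  have hm : f1 * d * f1⁻¹ * d ∈ Z R1 := by
    have e : f1 * d * f1⁻¹ * d = (d * (d⁻¹ * (f1 * d * f1⁻¹)) * d⁻¹) * (d * d) := by group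
    rw [e]
    exact (Z R1).mul_mem (h.zn R1 hR1 d (Subgroup.le_normalizer hd) _ (hV d hd)) (h.sq R1 hR1 d hd)
  have hc := h.zx R1 hR1 _ hm x hx hx1
  apply hxn
  apply h.ti R hR _ hy1Z hf12 x
  have e : f1 * f1 * x * (f1 * f1)⁻¹ = x := by
    calc f1 * f1 * x * (f1 * f1)⁻¹ = f1 * (f1 * x * f1⁻¹) * f1⁻¹ := by group
      _ = f1 * (d * x * d⁻¹) * f1⁻¹ := by rw [hdx]
      _ = (f1 * d * f1⁻¹) * (f1 * x * f1⁻¹) * (f1 * d * f1⁻¹)⁻¹ := by group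
      _ = (f1 * d * f1⁻¹) * (d * x * d⁻¹) * (f1 * d * f1⁻¹)⁻¹ := by rw [hdx]
      _ = (f1 * d * f1⁻¹ * d * x) * (f1 * d * f1⁻¹ * d)⁻¹ := by group
      _ = x := by rw [hc]; group
  calc x * (f1 * f1) = (f1 * f1 * x * (f1 * f1)⁻¹) * (f1 * f1) := by rw [e]
    _ = f1 * f1 * x := by group

end CfsgQE
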