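import Cfsg.Agent.H5.QE2
import Cfsg.Agent.H1.QD

set_option autoImplicit false

open scoped commutatorElement

namespace CfsgQ

variable {G : Type*} [Group G] {p : ℕ} {K : Set G}

theorem BK.e_UN {r : ℕ} (h : BK p r K) {U : Set G} (hU : IsBlk r K U) {x : G} (hx : x ∈ U) :
    x ∈ NS (Dl U : Set G) :=
  NS_le_NS_Dl U (h.cl_le U hU (Subgroup.subset_closure hx))

theorem BK.e_mem {r : ℕ} (h : BK p r K) {U : Set G} (hU : IsBlk r K U) {x : G} (hx : x ∈ K)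
    (hn : x ∈ NS (Dl U : Set G)) : x ∈ U := by
  have hne : NS (Dl U : Set G) ≠ ⊤ := by
    intro e
    have hN : (Dl U).Normal := Subgroup.normalizer_eq_top_iff.1 e
    have hb := h.nor _ hN (h.pg U hU)
    obtain ⟨z, hz, hz1⟩ := h.Z_ne U hU
    have := ZZ_le U hz
    rw [hb, Subgroup.mem_bot] at this
    exact hz1 this
  obtain ⟨U', hU', -, hs⟩ := h.fl _ hne x hx hn ⊥ IsPGroup.of_bot bot_le (by
    rw [mem_NS]; intro n; simp)
  have : U = U' := h.eq_of_sub U U' hU hU' fun y hy => hs ⟨h.sub U hU hy, h.e_UN hU hy⟩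
  rw [this]; exact hs ⟨hx, hn⟩

theorem BK.e_NS {r : ℕ} (h : BK p r K) {U : Set G} (hU : IsBlk r K U) {g : G}
    (hn : g ∈ NS (Dl U : Set G)) : g ∈ NS U := by
  have key : ∀ g ∈ NS (Dl U : Set G), ∀ x ∈ U, g * x * g⁻¹ ∈ U := fun g hg x hx =>
    h.e_mem hU (h.conj x (h.sub U hU hx) g)
      (Subgroup.mul_mem _ (Subgroup.mul_mem _ hg (h.e_UN hU hx)) (Subgroup.inv_mem _ hg))
  rw [mem_NS]
  intro n
  refine ⟨key g hn n, fun hh => ?_⟩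
  have := key g⁻¹ (Subgroup.inv_mem _ hn) _ hh
  simpa [mul_assoc] using this

theorem e_Dl_conj (U : Set G) (g : G) :
    (Dl U).map (MulAut.conj g).toMonoidHom = Dl ((fun x => g * x * g⁻¹) '' U) := by
  apply le_antisymm
  · rw [Subgroup.map_le_iff_le_comap]
    apply Dl_le
    intro x hx y hy
    rw [Subgroup.mem_comap]
    have := mem_Dl (S := (fun x => g * x * g⁻¹) '' U) ⟨x, hx, rfl⟩ ⟨y, hy, rfl⟩
    convert this using 1
    simp [mul_assoc]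
  · apply Dl_le
    rintro _ ⟨x, hx, rfl⟩ _ ⟨y, hy, rfl⟩
    exact ⟨x⁻¹ * y, mem_Dl hx hy, by simp [mul_assoc]⟩

theorem BK.e_surj {r : ℕ} (h : BK p r K) {U : Set G} (hU : IsBlk r K U) {x : G} (hx : x ∈ U)
    {a : G} (ha : a ∈ Dl U) : ∃ b ∈ Dl U, ∃ z ∈ ZZ U, a = x⁻¹ * (b * x * b⁻¹) * z := by
  have hxn := h.e_UN hU hx
  have hb : ∀ b ∈ Dl U, x⁻¹ * b * x ∈ Dl U := fun b hb => by
    simpa using CfsgQE.nmem (Subgroup.inv_mem _ hxn) hb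
  have hzc : ∀ z ∈ ZZ U, ∀ a ∈ Dl U, z * a = a * z := fun z hz a ha =>
    h.Z_comm U hU z hz a (Dl_le_cl U ha)
  let T : Subgroup G :=
    { carrier := {a | ∃ b ∈ Dl U, ∃ z ∈ ZZ U, a = x⁻¹ * (b * x * b⁻¹) * z}
      one_mem' := ⟨1, Subgroup.one_mem _, 1, Subgroup.one_mem _, by simp⟩
      mul_mem' := by
        rintro _ _ ⟨b, hb1, z1, hz1, rfl⟩ ⟨c, hc1, z2, hz2, rfl⟩
        have m : c * (x⁻¹ * c * x)⁻¹ ∈ Dl U := Subgroup.mul_mem _ hc1 (Subgroup.inv_mem _ (hb c hc1))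
        refine ⟨b * c, Subgroup.mul_mem _ hb1 hc1, ⁅b, c * (x⁻¹ * c * x)⁻¹⁆ * (z1 * z2),
          Subgroup.mul_mem _ (comm_mem_ZZ hb1 m) (Subgroup.mul_mem _ hz1 hz2), ?_⟩
        have e := hzc z1 hz1 _ (Subgroup.inv_mem _ m)
        calc x⁻¹ * (b * x * b⁻¹) * z1 * (x⁻¹ * (c * x * c⁻¹) * z2)
            = x⁻¹ * (b * x * b⁻¹) * (z1 * (c * (x⁻¹ * c * x)⁻¹)⁻¹) * z2 := by group
          _ = x⁻¹ * (b * x * b⁻¹) * ((c * (x⁻¹ * c * x)⁻¹)⁻¹ * z1) * z2 := by rw [e]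
          _ = _ := by rw [commutatorElement_def]; group
      inv_mem' := by
        rintro _ ⟨b, hb1, z, hz, rfl⟩
        have m : b * (x⁻¹ * b * x)⁻¹ ∈ Dl U := Subgroup.mul_mem _ hb1 (Subgroup.inv_mem _ (hb b hb1))
        refine ⟨b⁻¹, Subgroup.inv_mem _ hb1, ⁅b⁻¹, x⁻¹ * b * x⁆ * z⁻¹,
          Subgroup.mul_mem _ (comm_mem_ZZ (Subgroup.inv_mem _ hb1) (hb b hb1))
            (Subgroup.inv_mem _ hz), ?_⟩
        have e := hzc z⁻¹ (Subgroup.inv_mem _ hz) _ m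
        calc (x⁻¹ * (b * x * b⁻¹) * z)⁻¹ = z⁻¹ * (b * (x⁻¹ * b * x)⁻¹) := by group
          _ = (b * (x⁻¹ * b * x)⁻¹) * z⁻¹ := e
          _ = _ := by rw [commutatorElement_def]; group }
  have hT : Dl U ≤ T := by
    apply Dl_le
    intro y hy y' hy'
    have k : ∀ w ∈ U, x⁻¹ * w ∈ T := fun w hw => by
      obtain ⟨f, hf, rfl⟩ := h.ex_conj U hU x hx w hw
      exact ⟨f, hf, 1, Subgroup.one_mem _, by simp⟩
    have := T.mul_mem (T.inv_mem (k y hy)) (k y' hy')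
    simpa [mul_assoc] using this
  exact hT ha

theorem BK.e_zsq (h : BK p 2 K) {U : Set G} (hU : IsBlk 2 K U) {z : G} (hz : z ∈ ZZ U) :
    z * z = 1 := by
  have hzc : ∀ z ∈ ZZ U, ∀ a ∈ Dl U, z * a = a * z := fun z hz a ha =>
    h.Z_comm U hU z hz a (Dl_le_cl U ha)
  have hz' := hz
  rw [ZZ, Subgroup.commutator_def] at hz'
  induction hz' using Subgroup.closure_induction with
  | mem d hd =>
    obtain ⟨a, ha, b, hb, rfl⟩ := hd
    have h1 := hzc _ (h.pow_Z U hU a ha) b hb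
    have h2 := hzc _ (comm_mem_ZZ ha hb) a ha
    rw [pow_two] at h1
    calc ⁅a, b⁆ * ⁅a, b⁆ = (⁅a, b⁆ * a) * (b * a⁻¹ * b⁻¹) := by
          simp only [commutatorElement_def]; group
      _ = (a * ⁅a, b⁆) * (b * a⁻¹ * b⁻¹) := by rw [h2]
      _ = (a * a * b) * (a * a)⁻¹ * b⁻¹ := by simp only [commutatorElement_def]; group
      _ = 1 := by rw [h1]; group
  | one => simp
  | mul a b ha hb iha ihb =>
    have ha' : a ∈ ZZ U := by rw [ZZ, Subgroup.commutator_def]; exact ha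
    have hb' : b ∈ ZZ U := by rw [ZZ, Subgroup.commutator_def]; exact hb
    have e := hzc b hb' a (ZZ_le U ha')
    calc a * b * (a * b) = a * (b * a) * b := by group
      _ = (a * a) * (b * b) := by rw [e]; group
      _ = 1 := by rw [iha ha', ihb hb', one_mul]
  | inv a ha ih =>
    have ha' : a ∈ ZZ U := by rw [ZZ, Subgroup.commutator_def]; exact ha
    rw [← mul_inv_rev, ih ha', inv_one]

theorem BK.e_sys (h : BK p 2 K) (hna : NA 2 K)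
    (hs : ∀ x ∈ K, ∀ y ∈ K, (x⁻¹ * y) ^ 2 = 1 → x = y) :
    CfsgQE.Sys K (fun R => ∃ U, IsBlk 2 K U ∧ R = Dl U) (fun R => ⁅R, R⁆) where
  conj := h.conj
  odd := fun x hx => (h.hp.odd_of_ne_two h.hp2).of_dvd_nat (orderOf_dvd_of_pow_eq_one (h.ord x hx))
  ns := fun x hx y hy e => hs x hx y hy (by rw [pow_two]; exact e)
  zle := by rintro _ ⟨U, hU, rfl⟩; exact ZZ_le U
  zn := by rintro _ ⟨U, hU, rfl⟩ g hg z hz; exact conj_mem_ZZ (h.e_NS hU hg) hz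
  zsq := by rintro _ ⟨U, hU, rfl⟩ z hz; exact h.e_zsq hU hz
  zR := by rintro _ ⟨U, hU, rfl⟩ z hz a ha; exact h.Z_comm U hU z hz a (Dl_le_cl U ha)
  zx := by
    rintro _ ⟨U, hU, rfl⟩ z hz x hx hn
    exact h.Z_comm U hU z hz x (Subgroup.subset_closure (h.e_mem hU hx hn))
  cx := by
    rintro _ ⟨U, hU, rfl⟩ x hx hn a ha e
    exact h.cent_Z U hU x (h.e_mem hU hx hn) a ha e
  comm := by rintro _ ⟨U, hU, rfl⟩ a ha b hb; exact comm_mem_ZZ ha hb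
  sq := by rintro _ ⟨U, hU, rfl⟩ a ha; rw [← pow_two]; exact h.pow_Z U hU a ha
  pt := by
    rintro _ ⟨U, hU, rfl⟩ x hx hn y hy hn'
    exact h.ex_conj U hU x (h.e_mem hU hx hn) y (h.e_mem hU hy hn')
  surj := by
    rintro _ ⟨U, hU, rfl⟩ x hx hn a ha
    exact h.e_surj hU (h.e_mem hU hx hn) ha
  ti := by
    rintro _ ⟨U, hU, rfl⟩ u hu hu1 g e
    apply NS_le_NS_Dl U (h.mem_N U hU u hu hu1 g ?_)
    rw [e, mul_inv_cancel_right]; exact hu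
  ti2 := by
    rintro _ _ ⟨U, hU, rfl⟩ ⟨U1, hU1, rfl⟩ u hu hu' hu1
    rw [h.Z_inf U U1 hU hU1 u hu hu' hu1]
  na := by
    rintro _ _ ⟨U, hU, rfl⟩ ⟨U1, hU1, rfl⟩ x hx hn hn1 u hu hun hu1
    rw [hna U U1 hU hU1 x (h.e_mem hU hx hn) (h.e_mem hU1 hx hn1) u hu hu1 (h.e_NS hU1 hun)]
  pair := fun x hx y hy => by
    obtain ⟨U, hU, h1, h2⟩ := h.pair_blk x hx y hy
    exact ⟨Dl U, ⟨U, hU, rfl⟩, h.e_UN hU h1, h.e_UN hU h2⟩
  bconj := by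
    rintro _ ⟨U, hU, rfl⟩ g
    exact ⟨_, h.blk_conj U hU g, e_Dl_conj U g⟩

theorem BK.fin (h : BK p 2 K) (hna : NA 2 K)
    (hs : ∀ x ∈ K, ∀ y ∈ K, (x⁻¹ * y) ^ 2 = 1 → x = y) : False := by
  have hK : ∃ x, x ∈ K := by
    by_contra hn
    apply h.bad
    have : Dl K = ⊥ := le_bot_iff.1 (Dl_le fun x hx => absurd ⟨x, hx⟩ hn)
    rw [this]; exact IsPGroup.of_bot
  obtain ⟨g, hg⟩ := hK
  obtain ⟨U, hU, hgU, -⟩ := h.pair_blk g hg g hg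
  obtain ⟨x, hx, hxU⟩ := h.ne U hU
  have : ∃ g' ∈ U, g ≠ g' := by
    by_contra hn
    push Not at hn
    obtain ⟨z, hz, hz1⟩ := h.Z_ne U hU
    have hb : Dl U ≤ ⊥ := Dl_le fun a ha b hb => by rw [← hn a ha, ← hn b hb]; simp
    exact hz1 (Subgroup.mem_bot.1 (hb (ZZ_le U hz)))
  obtain ⟨g', hg', hne⟩ := this
  exact (h.e_sys hna hs).kill ⟨U, hU, rfl⟩ hg (h.e_UN hU hgU) (h.sub U hU hg') (h.e_UN hU hg') hne
    hx (fun hn => hxU (h.e_mem hU hx hn))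

end CfsgQ
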