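import Mathlib

set_option autoImplicit false

/-! Schur rings: primitive groups with a regular subgroup; Schur's theorem for cyclic groups. -/

namespace CfsgH5.SRing

open MonoidAlgebra

variable {H : Type*} [Group H] [Fintype H]

/-- `f` is constant on the classes of `r`. -/
def Inv {R : Sort*} (r : H → H → Prop) (f : H → R) : Prop := ∀ x y, r x y → f x = f y

/-- A primitive Schur partition of `H`. -/
structure SR (H : Type*) [Group H] [Fintype H] where
  r : H → H → Prop
  refl : ∀ x, r x x
  symm : ∀ {x y}, r x y → r y x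
  trans : ∀ {x y z}, r x y → r y z → r x z
  one : ∀ {x}, r x 1 → x = 1
  inv : ∀ {x y}, r x y → r x⁻¹ y⁻¹
  mul : ∀ f g : H → ℤ, Inv r f → Inv r g → Inv r (fun z => ∑ x, f x * g (x⁻¹ * z))
  prim : ∀ K : Subgroup H, (∀ x y, r x y → x ∈ K → y ∈ K) → K = ⊥ ∨ K = ⊤

/-- element of the group algebra with given coefficients -/
noncomputable def ofF {R : Type*} [Semiring R] (f : H → R) : MonoidAlgebra R H :=
  .ofCoeff (Finsupp.equivFunOnFinite.symm f)

@[simp] theorem coeff_ofF {R : Type*} [Semiring R] (f : H → R) (x : H) : (ofF f).coeff x = f x := rfl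

theorem cmul {R : Type*} [Semiring R] (f g : MonoidAlgebra R H) (z : H) :
    (f * g).coeff z = ∑ x, f.coeff x * g.coeff (x⁻¹ * z) := by
  rw [coeff_mul_apply_left, Finsupp.sum_fintype]
  intro x; simp

theorem cone {R : Type*} [Semiring R] [DecidableEq H] (z : H) :
    (1 : MonoidAlgebra R H).coeff z = if z = 1 then 1 else 0 := by
  rw [one_def, coeff_single, Finsupp.single_apply]
  simp [eq_comm]

theorem ext' {R : Type*} [Semiring R] {f g : MonoidAlgebra R H} (h : ∀ x, f.coeff x = g.coeff x) :
    f = g := coeff_injective (Finsupp.ext h)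

theorem eq_sum {R : Type*} [Semiring R] (f : MonoidAlgebra R H) :
    f = ∑ x, single x (f.coeff x) := by
  conv_lhs => rw [← sum_coeff_single f]
  rw [Finsupp.sum_fintype]
  intro x; simp

theorem sum_pow_comm {A ι : Type*} [Ring A] (p : ℕ) [Fact p.Prime] [CharP A p] (s : Finset ι)
    (f : ι → A) (h : ∀ i ∈ s, ∀ j ∈ s, Commute (f i) (f j)) :
    (∑ i ∈ s, f i) ^ p = ∑ i ∈ s, f i ^ p := by
  classical
  induction s using Finset.induction_on with
  | empty => simp [(Fact.out : p.Prime).ne_zero]
  | insert a s ha ih =>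
    rw [Finset.sum_insert ha, Finset.sum_insert ha, add_pow_char_of_commute,
      ih (fun i hi j hj => h i (by simp [hi]) j (by simp [hj]))]
    exact Commute.sum_right _ _ _ (fun j hj => h a (by simp) j (by simp [hj]))

theorem charP_alg (p : ℕ) [Fact p.Prime] : CharP (MonoidAlgebra (ZMod p) H) p := by
  apply charP_of_injective_algebraMap (R := ZMod p)
  intro a b h
  have := congrArg (fun f : MonoidAlgebra (ZMod p) H => f.coeff 1) h
  simpa using this

theorem pow_char [DecidableEq H] (p : ℕ) [Fact p.Prime] (f : MonoidAlgebra (ZMod p) H)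
    (hc : ∀ x y, f.coeff x ≠ 0 → f.coeff y ≠ 0 → Commute x y) (y : H) :
    (f ^ p).coeff y = ∑ x with x ^ p = y, f.coeff x := by
  haveI := charP_alg (H := H) p
  conv_lhs => rw [eq_sum f]
  rw [sum_pow_comm p, coeff_sum, Finsupp.finset_sum_apply, Finset.sum_filter]
  · apply Finset.sum_congr rfl
    intro x _
    rw [single_pow, coeff_single, Finsupp.single_apply, ZMod.pow_card]
  · intro i _ j _
    by_cases hi : f.coeff i = 0
    · simp [hi]
    by_cases hj : f.coeff j = 0
    · simp [hj]
    exact single_commute_single (hc i j hi hj) (Commute.all _ _)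

namespace SR

variable (S : SR H)

theorem iff_of {x y : H} (h : S.r x y) (z : H) : S.r z x ↔ S.r z y :=
  ⟨fun h' => S.trans h' h, fun h' => S.trans h' (S.symm h)⟩

theorem inv_cls (x : H) : Inv S.r (fun y => S.r x y) := fun _ _ h => propext (S.iff_of h x)

theorem mulR {R : Type*} [CommRing R] (f g : H → R) (hf : Inv S.r f) (hg : Inv S.r g) :
    Inv S.r (fun z => ∑ x, f x * g (x⁻¹ * z)) := by
  classical
  let s : Setoid H := ⟨S.r, S.refl, S.symm, S.trans⟩
  let c : H → Quotient s := Quotient.mk s
  have hc : ∀ x y, S.r x y → c x = c y := fun x y h => Quotient.sound h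
  have hc' : ∀ x, S.r (c x).out x := fun x => Quotient.mk_out (s := s) x
  have key : ∀ z, ∑ x, f x * g (x⁻¹ * z) = ∑ a : Quotient s, ∑ b : Quotient s, f a.out * g b.out *
      ((∑ x, (if c x = a then 1 else 0) * (if c (x⁻¹ * z) = b then 1 else 0) : ℤ) : R) := by
    intro z
    push_cast
    simp only [Finset.mul_sum]
    rw [Finset.sum_comm]
    conv_rhs => enter [2, b]; rw [Finset.sum_comm]
    rw [Finset.sum_comm]
    apply Finset.sum_congr rfl
    intro x _
    simp only [mul_ite, mul_one, mul_zero]
    rw [Finset.sum_eq_single (c (x⁻¹ * z)), Finset.sum_eq_single (c x)]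
    · simp [hf _ _ (hc' x), hg _ _ (hc' (x⁻¹ * z))]
    · intro b _ hb; simp [Ne.symm hb]
    · simp
    · intro b _ hb; simp [Ne.symm hb]
    · simp
  intro y z hyz
  simp only [key]
  apply Finset.sum_congr rfl; intro a _
  apply Finset.sum_congr rfl; intro b _
  congr 2
  exact S.mul (fun x => if c x = a then 1 else 0) (fun x => if c x = b then 1 else 0)
    (fun u v h => by simp only [hc u v h]) (fun u v h => by simp only [hc u v h]) y z hyz

/-- the Schur ring with coefficients in `R` -/
def alg (R : Type*) [CommRing R] : Subalgebra R (MonoidAlgebra R H) where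
  carrier := {f | Inv S.r f.coeff}
  mul_mem' := by
    intro f g hf hg x y h
    rw [cmul, cmul]
    exact S.mulR _ _ hf hg x y h
  add_mem' := by
    intro f g hf hg x y h
    simp only [coeff_add, Finsupp.add_apply, hf x y h, hg x y h]
  algebraMap_mem' := by
    classical
    intro a x y h
    have : x = 1 ↔ y = 1 := ⟨fun e => S.one (S.symm (e ▸ h)), fun e => S.one (e ▸ h)⟩
    simp [Finsupp.single_apply, eq_comm, this]

theorem mem_alg {R : Type*} [CommRing R] {f : MonoidAlgebra R H} :
    f ∈ S.alg R ↔ Inv S.r f.coeff := Iff.rfl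

theorem ofF_mem {R : Type*} [CommRing R] {f : H → R} (h : Inv S.r f) : ofF f ∈ S.alg R := h

open Classical in
/-- indicator function -/
noncomputable def _root_.CfsgH5.SRing.ind (R : Type*) [Zero R] [One R] (T : H → Prop) : H → R :=
  fun x => if T x then 1 else 0

theorem ind_inv (R : Type*) [Zero R] [One R] {T : H → Prop} (h : Inv S.r T) :
    Inv S.r (ind R T) := fun x y e => by unfold ind; rw [h x y e]

/-- A class contained in a proper subgroup is trivial. -/
theorem eq_one_of_le {K : Subgroup H} (hK : K ≠ ⊤) {x : H} (h : ∀ y, S.r x y → y ∈ K) : x = 1 := by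
  classical
  let K' : Subgroup H :=
    { carrier := {x | ∀ y, S.r x y → y ∈ K}
      one_mem' := fun y hy => by rw [S.one (S.symm hy)]; exact K.one_mem
      inv_mem' := fun {x} hx y hy => by
        have := hx y⁻¹ (by simpa using S.inv hy)
        simpa using this
      mul_mem' := fun {a b} ha hb z hz => by
        have h1 := S.mul _ _ (S.ind_inv ℤ (S.inv_cls a)) (S.ind_inv ℤ (S.inv_cls b)) _ _ hz
        have h2 : 0 < ∑ x, ind ℤ (S.r a) x * ind ℤ (S.r b) (x⁻¹ * (a * b)) := by
          apply Finset.sum_pos'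
          · intro i _; simp only [ind]; split_ifs <;> simp
          · exact ⟨a, by simp, by simp [ind, S.refl]⟩
        simp only at h1
        rw [h1] at h2
        obtain ⟨u, -, hu⟩ := Finset.exists_ne_zero_of_sum_ne_zero h2.ne'
        simp only [ind, mul_ite, mul_one, mul_zero, ne_eq, ite_eq_right_iff, not_forall] at hu
        obtain ⟨h3, h4, -⟩ := hu
        have := K.mul_mem (ha u h4) (hb _ h3)
        simpa using this }
  rcases S.prim K' (fun a b hab ha y hy => ha y (S.trans hab hy)) with h1 | h1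
  · have : x ∈ K' := h
    rw [h1] at this
    simpa using this
  · exact absurd (eq_top_iff.2 fun y _ => (show y ∈ K' from h1 ▸ Subgroup.mem_top y) y (S.refl y)) hK

/-- An invariant function vanishing outside a proper subgroup vanishes off `1`. -/
theorem eq_zero_of_le {R : Type*} [Zero R] {K : Subgroup H} (hK : K ≠ ⊤) {f : H → R}
    (hf : Inv S.r f) (h : ∀ y, y ∉ K → f y = 0) {x : H} (hx : x ≠ 1) : f x = 0 := by
  by_contra h0
  refine hx (S.eq_one_of_le hK fun y hy => ?_)
  by_contra h1
  exact h0 ((hf x y hy).trans (h y h1))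

/-- An invariant set stable under a nontrivial left translation is empty or everything. -/
theorem stab_cases {T : H → Prop} (hT : Inv S.r T) {e : H} (he : e ≠ 1)
    (h : ∀ y, T y → T (e * y)) : (∀ y, ¬ T y) ∨ ∀ y, T y := by
  classical
  have hT' : Inv S.r (fun y => T y⁻¹) := fun x y e => hT _ _ (S.inv e)
  have h1 := S.mul _ _ (S.ind_inv ℤ hT) (S.ind_inv ℤ hT')
  have key : ∀ x, (∀ y, T y → T (x⁻¹ * y)) ↔
      ∑ y, ind ℤ T y * ind ℤ (fun y => T y⁻¹) (y⁻¹ * x) = ∑ y, ind ℤ T y := by
    intro x
    rw [Finset.sum_eq_sum_iff_of_le]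
    · simp only [Finset.mem_univ, true_imp_iff, ind, mul_inv_rev, inv_inv]
      apply forall_congr'
      intro y
      by_cases h1 : T y <;> by_cases h2 : T (x⁻¹ * y) <;> simp [h1, h2]
    · intro y _
      simp only [ind]
      split_ifs <;> simp
  let K : Submonoid H :=
    { carrier := {x | ∀ y, T y → T (x⁻¹ * y)}
      one_mem' := fun y hy => by simpa using hy
      mul_mem' := fun {a b} ha hb y hy => by
        have := hb _ (ha y hy)
        simpa [mul_assoc] using this }
  let K' : Subgroup H :=
    { K with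
      inv_mem' := fun {x} hx => by
        have : x⁻¹ = x ^ (orderOf x - 1) := by
          rw [inv_eq_iff_mul_eq_one, ← pow_succ', Nat.sub_add_cancel (orderOf_pos x),
            pow_orderOf_eq_one]
        rw [this]
        exact K.pow_mem hx _ }
  rcases S.prim K' (fun a b hab ha => (key b).2 ((h1 a b hab).symm.trans ((key a).1 ha))) with
    h2 | h2
  · have : e⁻¹ ∈ K' := fun y hy => by simpa using h y hy
    rw [h2] at this
    simp [he] at this
  · by_cases h3 : ∃ y, T y
    · obtain ⟨y, hy⟩ := h3
      refine Or.inr fun z => ?_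
      have : y * z⁻¹ ∈ K' := h2 ▸ Subgroup.mem_top _
      simpa using this y hy
    · exact Or.inl (by simpa using h3)

end SR

/-- Schur partition of a regular subgroup of a primitive group. -/
theorem two_trans {G Ω : Type*} [Group G] [MulAction G Ω] (φ : H →* G) (a : Ω)
    (hb : Function.Bijective (fun h : H => φ h • a)) (hprim : MulAction.IsPreprimitive G Ω)
    (h : ∀ S : SR H, ∀ x y, x ≠ 1 → y ≠ 1 → S.r x y) : MulAction.IsMultiplyPretransitive G Ω 2 := by
  classical
  let e : H ≃ Ω := Equiv.ofBijective _ hb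
  have he : ∀ x, e x = φ x • a := fun _ => rfl
  have hmul : ∀ x y, e (x * y) = φ x • e y := fun x y => by rw [he, he, map_mul, mul_smul]
  have he1 : e 1 = a := by simp [he]
  let r : H → H → Prop := fun x y => ∃ g : G, g • a = a ∧ g • e x = e y
  have key : ∀ (g : G) (x y : H), r (x⁻¹ * y) ((e.symm (g • e x))⁻¹ * e.symm (g • e y)) := by
    intro g x y
    refine ⟨(φ (e.symm (g • e x)))⁻¹ * g * φ x, ?_, ?_⟩
    · rw [mul_smul, mul_smul, ← he, inv_smul_eq_iff, ← he, Equiv.apply_symm_apply]
    · rw [mul_smul, mul_smul, ← hmul, mul_inv_cancel_left, hmul, map_inv, Equiv.apply_symm_apply]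
  let S : SR H :=
    { r := r
      refl := fun x => ⟨1, by simp, by simp⟩
      symm := fun ⟨g, h1, h2⟩ => ⟨g⁻¹, by rw [inv_smul_eq_iff, h1], by rw [inv_smul_eq_iff, h2]⟩
      trans := fun ⟨g, h1, h2⟩ ⟨g', h1', h2'⟩ =>
        ⟨g' * g, by rw [mul_smul, h1, h1'], by rw [mul_smul, h2, h2']⟩
      one := fun {x} ⟨g, h1, h2⟩ => by
        rw [he1, ← h1, smul_left_cancel_iff, ← he1] at h2
        exact e.injective h2
      inv := fun {x y} ⟨g, h1, h2⟩ => by
        have := key g x 1
        rw [h2, he1, h1, ← he1] at this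
        simpa using this
      mul := by
        rintro f f' hf hf' x y ⟨g, h1, h2⟩
        let σ : H ≃ H := e.trans ((MulAction.toPerm g).trans e.symm)
        have hσ : ∀ z, σ z = e.symm (g • e z) := fun _ => rfl
        simp only
        rw [← Equiv.sum_comp σ (fun z => f z * f' (z⁻¹ * y))]
        apply Finset.sum_congr rfl
        intro z _
        have h3 := key g z x
        rw [h2, Equiv.symm_apply_apply] at h3
        rw [hf' _ _ h3, hf z (σ z) ⟨g, h1, by rw [hσ, Equiv.apply_symm_apply]⟩, hσ]
      prim := by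
        intro K hK
        have hB : MulAction.IsBlock G (e '' (K : Set H)) := by
          have h0 : ∀ (g : G) (b : Ω), b ∈ e '' (K : Set H) → g • b ∈ e '' (K : Set H) →
              ∀ c ∈ e '' (K : Set H), g • c ∈ e '' (K : Set H) := by
            rintro g _ ⟨k, hk, rfl⟩ ⟨k', hk', h1⟩ _ ⟨k2, hk2, rfl⟩
            have h2 := hK _ _ (key g k k2) (K.mul_mem (K.inv_mem hk) hk2)
            rw [← h1, Equiv.symm_apply_apply] at h2
            exact ⟨_, by simpa using K.mul_mem hk' h2, Equiv.apply_symm_apply _ _⟩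
          rw [MulAction.isBlock_iff_smul_eq_of_mem]
          intro g b hb1 hb2
          apply Set.Subset.antisymm
          · rintro _ ⟨c, hc, rfl⟩
            exact h0 g b hb1 hb2 c hc
          · intro c hc
            exact ⟨g⁻¹ • c, h0 g⁻¹ (g • b) hb2 (by simpa using hb1) c hc, by simp⟩
        rcases hprim.isTrivialBlock_of_isBlock hB with h1 | h1
        · left
          rw [eq_bot_iff]
          intro x hx
          exact e.injective (h1 ⟨x, hx, rfl⟩ ⟨1, K.one_mem, rfl⟩)
        · right
          rw [eq_top_iff]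
          intro x _
          obtain ⟨y, hy, h2⟩ : e x ∈ e '' (K : Set H) := h1 ▸ Set.mem_univ _
          exact e.injective h2 ▸ hy }
  rw [MulAction.is_two_pretransitive_iff]
  intro b c b' c' hbc hbc'
  obtain ⟨x, rfl⟩ := e.surjective b
  obtain ⟨y, rfl⟩ := e.surjective c
  obtain ⟨x', rfl⟩ := e.surjective b'
  obtain ⟨y', rfl⟩ := e.surjective c'
  obtain ⟨g, h1, h2⟩ := h S (x⁻¹ * y) (x'⁻¹ * y')
    (fun h => hbc (by rw [inv_mul_eq_one.1 h])) (fun h => hbc' (by rw [inv_mul_eq_one.1 h]))
  refine ⟨φ x' * g * (φ x)⁻¹, ?_, ?_⟩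
  · rw [mul_smul, mul_smul, he x, inv_smul_smul, h1, he]
  · rw [mul_smul, mul_smul, ← map_inv, ← hmul, h2, ← hmul, mul_inv_cancel_left]

omit [Fintype H] in
theorem bij_of_regular {G Ω : Type*} [Group G] [MulAction G Ω] (C : Subgroup G) (φ : H ≃* C)
    (hC : MulAction.IsPretransitive ↥C Ω ∧ ∀ a : Ω, MulAction.stabilizer ↥C a = ⊥) (a : Ω) :
    Function.Bijective (fun h : H => (C.subtype.comp φ.toMonoidHom) h • a) := by
  constructor
  · intro x y h
    have h1 : (φ x)⁻¹ * φ y ∈ MulAction.stabilizer C a := by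
      rw [MulAction.mem_stabilizer_iff, mul_smul, inv_smul_eq_iff]
      exact h.symm
    rw [hC.2, Subgroup.mem_bot, inv_mul_eq_one] at h1
    exact φ.injective h1
  · intro b
    obtain ⟨c, hc⟩ := hC.1.exists_smul_eq a b
    exact ⟨φ.symm c, by simpa [Subgroup.smul_def] using hc⟩

@[to_additive fiber_full_add]
theorem fiber_full {C : Type*} [CommGroup C] [Fintype C] [DecidableEq C] [IsCyclic C] {p : ℕ}
    (hp : 0 < p) (T : C → Prop) [DecidablePred T] {x : C} (hx : T x)
    (h : p ∣ (Finset.univ.filter (fun y => y ^ p = x ^ p ∧ T y)).card) {e : C} (he : e ^ p = 1) :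
    T (e * x) := by
  have h1 : (Finset.univ.filter (fun y : C => y ^ p = x ^ p)).card ≤ p := by
    refine le_trans ?_ (IsCyclic.card_pow_eq_one_le (α := C) hp)
    apply Finset.card_le_card_of_injOn (fun y => y * x⁻¹)
    · intro y hy
      simp only [Finset.coe_filter, Finset.mem_univ, true_and, Set.mem_setOf_eq] at hy ⊢
      rw [mul_pow, hy, inv_pow, mul_inv_cancel]
    · intro y _ z _ h
      exact mul_right_cancel h
  have h2 : (Finset.univ.filter (fun y => y ^ p = x ^ p ∧ T y)) ⊆
      (Finset.univ.filter (fun y : C => y ^ p = x ^ p)) := by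
    intro y; simp only [Finset.mem_filter]; tauto
  have h3 := Finset.eq_of_subset_of_card_le h2 (h1.trans (Nat.le_of_dvd
    (Finset.card_pos.2 ⟨x, by simp [hx]⟩) h))
  have h4 : e * x ∈ (Finset.univ.filter (fun y : C => y ^ p = x ^ p)) := by
    simp [mul_pow, he]
  rw [← h3] at h4
  exact (Finset.mem_filter.1 h4).2.2

theorem sum_ind {C : Type*} [Fintype C] (R : Type*) [Semiring R] (P T : C → Prop) [DecidablePred P]
    [DecidablePred T] : ∑ x with P x, ind R T x =
      ((Finset.univ.filter (fun y => P y ∧ T y)).card : R) := by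
  classical
  rw [← Finset.filter_filter, ← Finset.sum_boole]
  apply Finset.sum_congr rfl
  intro x _
  unfold ind
  split_ifs <;> rfl

/-- Schur's theorem. -/
theorem cyclic {C : Type*} [CommGroup C] [Fintype C] [IsCyclic C] (S : SR C) {p l : ℕ}
    (hp : p.Prime) (hl : l.Prime) (hpl : p ≠ l) (hpd : p ∣ Fintype.card C)
    (hld : l ∣ Fintype.card C) (x y : C) (hx : x ≠ 1) (hy : y ≠ 1) : S.r x y := by
  classical
  have frob : ∀ (q : ℕ) [Fact q.Prime] (z : C), Inv S.r (fun w =>
      ((Finset.univ.filter (fun y => y ^ q = w ∧ S.r z y)).card : ZMod q)) := by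
    intro q _ z u v h
    have h1 := (S.alg (ZMod q)).pow_mem (S.ofF_mem (S.ind_inv (ZMod q) (S.inv_cls z))) q u v h
    rw [pow_char q _ (fun _ _ _ _ => Commute.all _ _), pow_char q _ (fun _ _ _ _ => Commute.all _ _)]
      at h1
    simpa only [coeff_ofF, sum_ind] using h1
  haveI := Fact.mk hp
  haveI := Fact.mk hl
  obtain ⟨e, he⟩ := exists_prime_orderOf_dvd_card p hpd
  have he1 : e ≠ 1 := by rintro rfl; exact hp.one_lt.ne (by simpa using he)
  have hep : e ^ p = 1 := he ▸ pow_orderOf_eq_one e
  have hK : (powMonoidHom p : C →* C).range ≠ ⊤ := by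
    intro h
    have h1 : Function.Surjective (powMonoidHom p : C →* C) := MonoidHom.range_eq_top.1 h
    have h2 := Finite.injective_iff_surjective.2 h1
    exact he1 (h2 (by simpa using hep))
  have meet : ∀ z, z ≠ 1 → ∃ w, w ≠ 1 ∧ w ^ p = 1 ∧ S.r z w := by
    intro z hz
    by_contra hc
    push Not at hc
    have h1 : ∀ w, S.r z w → S.r z (e * w) := by
      intro w hw
      have hw1 : w ≠ 1 := fun h => hz (S.one (h ▸ hw))
      have h2 := S.eq_zero_of_le hK (frob p z) (fun u hu => by
        rw [Finset.filter_eq_empty_iff.2]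
        · simp
        · rintro v - ⟨h, -⟩
          exact hu ⟨v, h⟩) (x := w ^ p) (fun h => hc w hw1 h hw)
      exact fiber_full hp.pos _ hw ((ZMod.natCast_eq_zero_iff _ _).1 h2) hep
    rcases S.stab_cases (S.inv_cls z) he1 h1 with h | h
    · exact h z (S.refl z)
    · exact hz (S.one (h 1))
  obtain ⟨k, hk⟩ := exists_prime_orderOf_dvd_card l hld
  have hk1 : k ≠ 1 := by rintro rfl; exact hl.one_lt.ne (by simpa using hk)
  obtain ⟨w, hw1, hwp, hw⟩ := meet k hk1
  have all : ∀ v, v ≠ 1 → v ^ p = 1 → S.r k v := by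
    intro v hv1 hvp
    have how : orderOf w = p := orderOf_eq_prime hwp hw1
    have hov : orderOf v = p := orderOf_eq_prime hvp hv1
    obtain ⟨j, rfl⟩ : ∃ j : ℕ, w ^ j = v := by
      have h1 : Subgroup.zpowers v = Subgroup.zpowers w := by
        have h2 : ∀ u : C, orderOf u = p → Subgroup.zpowers u = (powMonoidHom p : C →* C).ker := by
          intro u hu
          apply Subgroup.eq_of_le_of_card_ge
          · rw [Subgroup.zpowers_le, MonoidHom.mem_ker, powMonoidHom_apply, ← hu, pow_orderOf_eq_one]
          · rw [Nat.card_zpowers, hu]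
            have := IsCyclic.card_pow_eq_one_le (α := C) hp.pos
            rw [Nat.card_eq_fintype_card, Fintype.card_subtype]
            simpa [MonoidHom.mem_ker] using this
        rw [h2 v hov, h2 w how]
      have h3 : v ∈ Subgroup.zpowers w := h1 ▸ Subgroup.mem_zpowers v
      exact (mem_powers_iff_mem_zpowers.2 h3)
    have hj : j.Coprime p := by
      rw [Nat.coprime_comm, hp.coprime_iff_not_dvd, ← how, orderOf_dvd_iff_pow_eq_one]
      exact hv1
    have hco : p.Coprime l := (Nat.coprime_primes hp hl).2 hpl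
    obtain ⟨m, hm1, hm2⟩ := Nat.chineseRemainder hco j 1
    have hm : m.Coprime (p * l) := by
      apply Nat.Coprime.mul_right
      · rw [Nat.Coprime, hm1.gcd_eq]; exact hj
      · rw [Nat.Coprime, hm2.gcd_eq]; simp
    obtain ⟨q, hq1, hq2, hq3⟩ := Nat.forall_exists_prime_gt_and_modEq (Fintype.card C)
      (Nat.mul_ne_zero hp.ne_zero hl.ne_zero) hm
    haveI := Fact.mk hq2
    have hqc : (Nat.card C).Coprime q := by
      rw [Nat.coprime_comm, hq2.coprime_iff_not_dvd, Nat.card_eq_fintype_card]
      exact fun h => absurd (Nat.le_of_dvd Fintype.card_pos h) (by omega)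
    have hinj : Function.Injective (fun u : C => u ^ q) := (powCoprime hqc).injective
    have hkq : k ^ q = k := by
      conv_rhs => rw [← pow_one k]
      rw [pow_eq_pow_iff_modEq, hk]
      exact (hq3.of_mul_left p).trans hm2
    have hwq : w ^ q = w ^ j := by
      rw [pow_eq_pow_iff_modEq, how]
      exact (hq3.of_mul_right l).trans hm1
    -- the class of `k` is contained in its `q`-th power, hence equal to it
    let T := Finset.univ.filter (S.r k)
    have h1 : T ⊆ T.image (fun u => u ^ q) := by
      intro u hu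
      have h2 := frob q k k u (Finset.mem_filter.1 hu).2
      have h3 : Finset.univ.filter (fun y => y ^ q = k ∧ S.r k y) = {k} := by
        ext y
        simp only [Finset.mem_filter, Finset.mem_univ, true_and, Finset.mem_singleton]
        exact ⟨fun h => hinj (h.1.trans hkq.symm), by rintro rfl; exact ⟨hkq, S.refl _⟩⟩
      simp only [h3, Finset.card_singleton, Nat.cast_one] at h2
      by_contra h4
      rw [Finset.filter_eq_empty_iff.2] at h2
      · simp at h2
      · rintro y - ⟨h5, h6⟩
        exact h4 (Finset.mem_image.2 ⟨y, Finset.mem_filter.2 ⟨Finset.mem_univ _, h6⟩, h5⟩)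
    have h2 := Finset.eq_of_subset_of_card_le h1 Finset.card_image_le
    have h3 : w ^ j ∈ T := by
      rw [h2, ← hwq]
      exact Finset.mem_image.2 ⟨w, Finset.mem_filter.2 ⟨Finset.mem_univ _, hw⟩, rfl⟩
    exact (Finset.mem_filter.1 h3).2
  obtain ⟨u, hu1, hup, hu⟩ := meet x hx
  obtain ⟨v, hv1, hvp, hv⟩ := meet y hy
  exact S.trans hu (S.trans (S.symm (all u hu1 hup)) (S.trans (all v hv1 hvp) (S.symm hv)))

end CfsgH5.SRing
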