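import Cfsg.Agent.H5.W3Loc2

set_option autoImplicit false
set_option linter.unusedSectionVars false

/-! S3422, piece (LOC): the group of elations. -/

namespace CfsgW3

open Cfsg CfsgH5 CfsgH6 CfsgFT Subgroup CfsgH5.Der
open CfsgU3 (RE)

universe u

variable {G : Type u} [Group G] [Finite G] {q r d m e : ℕ} {K A B R P : Subgroup G} {Zs : Set G}
  {g k x y z : G}

theorem lc_ncj (X : Subgroup G) : {Y | ∃ g, cj g X = Y}.ncard * Nat.card (N X) = Nat.card G := by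
  letI : MulAction G (Subgroup G) :=
    { smul := cj, one_smul := cj_one, mul_smul := fun a b X => (cj_cj a b X).symm }
  rw [show N X = MulAction.stabilizer G X from Subgroup.ext fun _ => mem_N,
    ← (MulAction.stabilizer G X).index_mul_card, MulAction.index_stabilizer]
  rfl

namespace VZ

variable (V : VZ G q r d m e Zs)
include V

theorem lc_cnt (A : Subgroup G) :
    (Zs ∩ A).ncard + (CfsgFT.sharp A \ Zs).ncard + 1 = Nat.card A := by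
  have := Set.ncard_inter_add_ncard_diff_eq_ncard (CfsgFT.sharp A) Zs
  rw [ncard_sharp, show CfsgFT.sharp A ∩ Zs = Zs ∩ A from Set.ext fun x =>
    ⟨fun c => ⟨c.2, c.1.1⟩, fun c => ⟨⟨c.2, (V.Zr x c.1).1⟩, c.1⟩⟩] at this
  have := card_pos A
  omega

theorem lc_top (hP : Nat.card P = q ^ 3) (hA : IsPGroup r A) : ∃ g, A ≤ cj g P := by
  haveI := Fact.mk V.par.pr
  obtain ⟨S, hS⟩ := exists_sylIn r (⊤ : Subgroup G)
  obtain ⟨g, -, c⟩ := (hS.of_card_le le_top (V.par.lc_pg hP.dvd) (hP ▸ (V.par.lc_syl hS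
    (by rw [card_top, V.card, ord, mul_assoc]) V.par.not_dvd_r).le)).exists_le_cj le_top hA
  exact ⟨g, c⟩

theorem lc_one (hP : Nat.card P = q ^ 3) (hN : (q - 1) * e ∣ Nat.card (N P))
    (h : q + 1 + (Zs ∩ P).ncard = 2 * q ^ 2) (hx : RE r x) (x1 : x ∉ Zs) (h1 : x ∈ P)
    (h2 : x ∈ cj g P) : cj g P = P := by
  have a := CfsgU3.ti_dc {x | RE r x ∧ x ∉ Zs} {Y | ∃ g, cj g P = Y} fun x Y => x ∈ Y
  have b := CfsgU3.ti_le (A := {x | RE r x ∧ x ∉ Zs}) (m := 1)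
    (f := fun x => {Y ∈ {Y | ∃ g, cj g P = Y} | x ∈ Y}.ncard) fun x hx => by
      obtain ⟨g, c⟩ := V.lc_top hP hx.1.isPGroup
      exact (Set.ncard_pos (Set.toFinite _)).2 ⟨_, ⟨g, rfl⟩, c (mem_zpowers x)⟩
  rw [CfsgU3.ti_eq (m := (CfsgFT.sharp P \ Zs).ncard) (A := {Y | ∃ g, cj g P = Y}) (by
    rintro _ ⟨g, rfl⟩
    rw [← Set.ncard_image_of_injective (CfsgFT.sharp P \ Zs) (MulAut.conj g).injective]
    refine congrArg _ (Set.ext fun y => ⟨fun c => ⟨g⁻¹ * y * g, ⟨⟨mem_cj.1 c.2,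
      by simpa using conj_ne_one g⁻¹ c.1.1.1⟩, fun n => c.1.2 ?_⟩, by simp [mul_assoc]⟩, ?_⟩)
    · simpa [mul_assoc] using V.Zcj _ n g
    · rintro ⟨y, ⟨⟨c1, c2⟩, c3⟩, rfl⟩
      exact ⟨⟨(RE.of_mem (V.par.lc_pg hP.dvd) c1 c2).conj (isConj_iff.2 ⟨g, rfl⟩),
        fun n => c3 (by simpa [mul_assoc] using V.Zcj _ n g⁻¹)⟩, conj_mem_cj.2 c1⟩)] at a
  have c1 := Set.ncard_inter_add_ncard_diff_eq_ncard {x : G | RE r x} Zs
  rw [Set.inter_eq_right.2 (show Zs ⊆ {x : G | RE r x} from V.Zr), V.Zn, V.Rn] at c1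
  have c2 := V.lc_cnt P
  have c3 := Nat.mul_le_mul_left {Y | ∃ g, cj g P = Y}.ncard (Nat.le_of_dvd (card_pos _)
    (((V.par.lc_cop V.par.not_dvd_pred 3).mul_left (V.par.lc_cop V.par.not_dvd_e 3)).mul_dvd_of_dvd_of_dvd
      hN (hP ▸ card_dvd_of_le' (le_N P))))
  rw [lc_ncj, V.card, V.par.ord_eq, show (q + 1) * e * (q ^ 3 * (q ^ 2 + q + 1) * (q - 1)) =
    (q + 1) * (q ^ 2 + q + 1) * ((q - 1) * e * q ^ 3) by ring] at c3
  have q2 := V.par.q2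
  have c4 := Nat.le_of_mul_le_mul_right c3 (Nat.mul_pos (Nat.mul_pos (by omega) V.par.e_pos)
    (pow_pos (by omega) _))
  have c5 : {x | RE r x ∧ x ∉ Zs}.ncard = (q + 1) * (q ^ 2 + q + 1) * (CfsgFT.sharp P \ Zs).ncard := by
    change ({x : G | RE r x} \ Zs).ncard = _
    rw [hP] at c2
    have := Nat.one_le_pow 2 q (by omega)
    have := Nat.one_le_pow 6 q (by omega)
    zify [*] at c1 c2 h ⊢
    linear_combination c1 - (q + 1) * (q ^ 2 + q + 1) * (c2 - h)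
  have c6 := b.2 (le_antisymm (by rw [a, c5, mul_one]; exact Nat.mul_le_mul_right _ c4) b.1) x
    ⟨hx, x1⟩
  exact (Set.ncard_le_one (Set.toFinite _)).1 c6.le _ ⟨⟨g, rfl⟩, h2⟩ _ ⟨⟨1, cj_one P⟩, h1⟩

theorem lc_sq (hB : (q - 1) * e ∣ Nat.card B) (e2 : 2 ≤ e) (hA : Nat.card A = q ^ 2) (hn : Nrm B A) :
    ∀ x ∈ A, x ≠ 1 → x ∈ Zs := fun x hx x1 => by
  have pA := V.par.lc_pg hA.dvd
  have a := V.lc_M2 hB (S := CfsgFT.sharp A \ Zs) (fun g hg x hx =>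
    ⟨⟨hn g hg x hx.1.1, conj_ne_one g hx.1.2⟩,
      fun n => hx.2 (by simpa [mul_assoc] using V.Zcj _ n g⁻¹)⟩)
    fun x hx => ⟨RE.of_mem pA hx.1.1 hx.1.2, hx.2⟩
  have b := V.res A pA
  have c := V.lc_cnt A
  have q2 := V.par.q2
  rw [hA, add_assoc, Nat.dvd_add_right dvd_rfl, sq, ← mul_one_add] at b
  obtain ⟨k, hk⟩ := Nat.dvd_of_mul_dvd_mul_left (by omega) b
  obtain ⟨t, ht⟩ : q ∣ (CfsgFT.sharp A \ Zs).ncard := (Nat.dvd_add_right ⟨k, hk⟩).1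
    ⟨q, by rw [← sq, ← hA]; omega⟩
  have t0 : t = 0 := by
    rw [ht] at a
    refine Nat.eq_zero_of_dvd_of_lt (((V.par.lc_cop V.par.not_dvd_pred 1).mul_left
      (V.par.lc_cop V.par.not_dvd_e 1)).dvd_of_dvd_mul_left (by rwa [pow_one])) ?_
    have : q * t < q * q := by rw [← sq, ← hA]; omega
    have := Nat.lt_of_mul_lt_mul_left this
    have := Nat.mul_le_mul_left (q - 1) e2
    omega
  by_contra n
  have := (Set.ncard_pos (s := CfsgFT.sharp A \ Zs) (Set.toFinite _)).2 ⟨x, ⟨hx, x1⟩, n⟩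
  rw [ht, t0] at this
  omega

end VZ

namespace HL

variable (H : HL G q r e K) (V : VZ G q r d m e Zs)
include H V

theorem lc_two (hP : Nat.card P = q ^ 3) (hB : (q - 1) * e ∣ Nat.card B) (hn : Nrm B P) :
    q + 1 + (Zs ∩ P).ncard = 2 * q ^ 2 := by
  have pP := V.par.lc_pg hP.dvd
  have q3 := H.lc_q3 V
  have a := H.lc_M1 V hB (S := Zs ∩ P) (fun g hg x hx => ⟨V.Zcj x hx.1 g, hn g hg x hx.2⟩)
    fun x hx => V.Zr x hx.1
  have b := V.res P pP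
  have c := V.res2 P pP
  rw [hP, show q ^ 2 + q + q * (Zs ∩ P).ncard = q * (q + 1 + (Zs ∩ P).ncard) by ring] at b c
  rw [pow_succ'] at b
  obtain ⟨k, hk⟩ := Nat.dvd_of_mul_dvd_mul_left (by omega) b
  rw [hk, show q * (q ^ 2 * k) = q ^ 3 * k by ring, ← mul_two] at c
  have := Nat.le_of_mul_le_mul_left c (pow_pos (by omega) _)
  interval_cases k
  · omega
  · obtain ⟨t, rfl⟩ : ∃ t, q = t + 1 := ⟨q - 1, by omega⟩
    have := Nat.dvd_one.1 ((Nat.dvd_add_right a).1 ⟨t + 1, by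
      rw [Nat.add_sub_cancel]; nlinarith⟩)
    omega
  · omega

theorem lc_last (hz : z ∈ Zs) (hP : Op r (C1 z) = P) (hR : Nat.card (Z P) = q) (zP : z ∈ P)
    (hB : (q - 1) * e ∣ Nat.card B) (hn : Nrm B P) : ∃ E, FL G q r Zs E := by
  have q3 := H.lc_q3 V
  have cP : Nat.card P = q ^ 3 := hP ▸ H.lc_cardP V hz
  have pP := V.par.lc_pg cP.dvd
  have a := H.lc_two V cP hB hn
  have zZ : z ∈ Z P := ⟨zP, le_C1_iff.1 (hP ▸ Op_le _ _)⟩
  obtain ⟨y, ⟨hy, yP⟩, y1⟩ : ∃ y ∈ Zs ∩ P, y ∉ (Z P : Set G) := Set.not_subset.1 fun c => by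
    have := Set.ncard_le_ncard c
    rw [← Nat.card_coe_set_eq (Z P : Set G), SetLike.coe_sort_coe, hR] at this
    nlinarith
  obtain ⟨g, rfl⟩ := H.lc_conj V hz hy
  have b : cj g P ≠ P := fun c => y1 (by
    rw [← c, ← cj_Z]; exact conj_mem_cj.2 zZ)
  have b1 : Z P ≤ cj g P := by
    rw [← hP, cj_Op' V.par.pr, cj_C1, hP]
    exact H.lc_leP V hy ((Z_le_C P).trans (C_le_C1 yP)) pP.to_inf_left
  have b2 : Z (cj g P) ≤ C (Z P) := (Z_le_C _).trans (C_anti b1)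
  have b3 : Z (cj g P) ≤ P := (H.lc_leP V hz (b2.trans (C_le_C1 zZ))
    (isPGroup_cj pP g).to_inf_left).trans hP.le
  have b4 : Z P ⊓ Z (cj g P) = ⊥ := eq_bot_iff.2 fun x hx => by_contra fun x1 => by
    have xZ := V.lc_Z3 (RE.of_mem pP hx.1.1 x1) cP (le_C1_iff.2 hx.1.2)
    exact b ((eq_of_le_of_card_eq (H.lc_leP V xZ (le_C1_iff.2 hx.2.2) (isPGroup_cj pP g))
      (by rw [card_cj, cP, H.lc_cardP V xZ])).trans (eq_of_le_of_card_eq
        (H.lc_leP V xZ (le_C1_iff.2 hx.1.2) pP) (by rw [cP, H.lc_cardP V xZ])).symm)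
  refine ⟨Z P ⊔ Z (cj g P), H.lc_clo V, ?_, (ab_Z _).sup (ab_Z _) (le_C_symm b2), fun x hx x1 => ?_⟩
  · rw [card_sup_of_inf_eq_bot (.inr (nrm_of_le_C b2)) b4, ← cj_Z, card_cj, hR, sq]
  · have xP := sup_le (Z_le P) b3 hx
    exact by_contra fun n => b (V.lc_one cP (hB.trans (card_dvd_of_le' hn.le_N)) a
      (RE.of_mem pP xP x1) n xP (sup_le b1 (Z_le _) hx))

theorem fl : ∃ E, FL G q r Zs E := by
  have q3 := H.lc_q3 V
  obtain ⟨R, hR⟩ := exists_sylIn r (C K)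
  have cR := H.lc_cardR V hR
  have aR := H.lc_abR V hR
  have hB := H.lc_B V hR
  obtain ⟨z, hz, z1⟩ := ex_ne (one_lt_card.1 (by rw [cR]; omega : 1 < Nat.card R))
  have zZ := H.lc_RZ V hR hz z1
  have cP := H.lc_cardP V zZ
  have lP := Op_le r (C1 z)
  obtain ⟨P, hP⟩ : ∃ P, Op r (C1 z) = P := ⟨_, rfl⟩
  rw [hP] at cP lP
  have pP := V.par.lc_pg cP.dvd
  have nW : Nrm (C K ⊓ N R) (P ⊓ C R) := fun g hg x hx => by
    have := conj_mem_of_mem_N ((nrm_N_C R).le_N hg.2) hx.2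
    exact ⟨hP ▸ H.lc_memP V zZ (C_le_C1 hz this)
      ((((piG_single V.par.pr).2 pP).piE hx.1).conj g), this⟩
  have RW : R ≤ Z (P ⊓ C R) := le_inf (le_inf (hP ▸ H.lc_leP V zZ (aR.trans (C_le_C1 hz))
    hR.isPGroup) aR) (le_C_symm inf_le_right)
  obtain ⟨j, hj⟩ := H.lc_M3 V hB pP.to_inf_left nW
  obtain ⟨i, hi⟩ := H.lc_M3 V hB pP.to_inf_left.to_inf_left nW.Z
  have a1 := card_dvd_of_le' RW
  have a2 := card_dvd_of_le' (Z_le (P ⊓ C R))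
  have a3 := card_dvd_of_le' (inf_le_left : P ⊓ C R ≤ P)
  rw [hi, cR, ← pow_one q, ← pow_mul, Nat.pow_dvd_pow_iff_le_right (by omega)] at a1
  rw [hi, hj, Nat.pow_dvd_pow_iff_le_right (by omega)] at a2
  rw [hj, cP, Nat.pow_dvd_pow_iff_le_right (by omega)] at a3
  by_cases i2 : i = 2
  · exact ⟨_, H.lc_clo V, i2 ▸ hi, ab_Z _, V.lc_sq hB H.e2 (i2 ▸ hi) nW.Z⟩
  by_cases W : P ⊓ C R = P
  · rw [W] at hi nW RW
    by_cases i1 : i = 1
    · exact H.lc_last V zZ hP (by rw [hi, i1, pow_one]) (RW hz).1 hB nW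
    have a := V.lc_cnt P
    have b := H.lc_two V cP hB nW
    have ZP := eq_of_le_of_card_eq (Z_le P) (by rw [hi, cP]; congr 1; omega)
    rw [show CfsgFT.sharp P \ Zs = ∅ from Set.diff_eq_empty.2 fun x hx => V.lc_Z3
      (RE.of_mem pP hx.1 hx.2) cP (le_C1_iff.2 (ZP.ge hx.1).2), Set.ncard_empty, cP] at a
    nlinarith
  · have j3 : j ≠ 3 := fun c => W (eq_of_le_of_card_eq inf_le_left (by rw [hj, cP, c]))
    have ZR := eq_of_le_of_card_eq RW (by rw [hi, cR, show i = 1 by omega, pow_one])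
    refine absurd (lt_inf_N_of_nilpotent (nilpotent_of_isPGroup V.par.pr pP)
      (lt_of_le_of_ne inf_le_left W)) (not_lt_of_ge fun g hg => ⟨hg.1, ?_⟩)
    exact H.lc_NR V hR hz z1 ⟨lP hg.1, ZR ▸ (nrm_N _).Z.le_N hg.2⟩

end HL

end CfsgW3
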