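import Cfsg.Agent.H7.W3Par
import Cfsg.Agent.H5.Der2
import Cfsg.Agent.H3.OrdSqA

set_option autoImplicit false
set_option linter.unusedSectionVars false

/-! S3422, piece (LOC): centralisers of transvections. -/

namespace CfsgW3

open Cfsg CfsgH5 CfsgH6 CfsgFT Subgroup CfsgH5.Der
open CfsgU3 (RE)

universe u

variable {G : Type u} [Group G] [Finite G] {q r d m e : ℕ} {K A R : Subgroup G} {Zs : Set G}
  {g k x y z : G}

theorem lc_re (hr : r.Prime) : RE r x ↔ x ≠ 1 ∧ PiE {r} x :=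
  and_congr_right fun _ => (piE_single hr).symm

theorem lc_dvd (hr : r.Prime) (h : RE r x) : r ∣ orderOf x := by
  rw [← Nat.card_zpowers]
  exact prime_dvd_card_of_isPGroup hr h.isPGroup (zpowers_ne_bot.2 h.1)

theorem Par.lc_cop (h : Par q r d m e) {n : ℕ} (hn : ¬ r ∣ n) (i : ℕ) : n.Coprime (q ^ i) := by
  obtain ⟨k, rfl⟩ := h.pw
  exact ((h.pr.coprime_iff_not_dvd.2 hn).symm.pow_right _).pow_right _

theorem Par.lc_ndvd (h : Par q r d m e) {p : ℕ} (hp : p.Prime) (hr : p ≠ r) (i : ℕ) :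
    ¬ p ∣ q ^ i := hp.coprime_iff_not_dvd.1
  (h.lc_cop (fun c => hr ((Nat.prime_dvd_prime_iff_eq h.pr hp).1 c).symm) i)

theorem Par.lc_pg (h : Par q r d m e) {i : ℕ} (c : Nat.card A ∣ q ^ i) : IsPGroup r A := by
  obtain ⟨k, rfl⟩ := h.pw
  exact IsPGroup.of_card_dvd_pow (n := k * i) (by rwa [pow_mul])

theorem Par.lc_syl (h : Par q r d m e) {i n : ℕ} (hS : SylIn r R A) (c : Nat.card A = q ^ i * n)
    (hn : ¬ r ∣ n) : Nat.card R = q ^ i := by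
  haveI := Fact.mk h.pr
  obtain ⟨j, hj⟩ := IsPGroup.iff_card.1 hS.isPGroup
  refine Nat.dvd_antisymm (Nat.Coprime.dvd_of_dvd_mul_right ?_ (c ▸ card_dvd_of_le' hS.le))
    ((h.lc_cop hS.not_dvd_relIndex i).symm.dvd_of_dvd_mul_right
      (by rw [card_mul_relIndex hS.le, c]; exact dvd_mul_right _ _))
  exact coprime_of_isPGroup_of_not_dvd h.pr hS.isPGroup hn

namespace HL

variable (H : HL G q r e K)
include H

theorem lc_cj (g : G) : HL G q r e (cj g K) where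
  e2 := H.e2
  cardK := (card_cj g K).trans H.cardK
  nrm k hk k1 x hx := by
    rw [← cj_C, mem_cj]
    refine H.nrm _ (mem_cj.1 hk) (by simpa using conj_ne_one g⁻¹ k1) _ ?_
    have := mem_cj.1 hx
    rwa [show g⁻¹ * (x * k * x⁻¹) * g = g⁻¹ * x * g * (g⁻¹ * k * g) * (g⁻¹ * x * g)⁻¹ by group]
      at this
  cardL := by rw [← cj_C, card_cj, H.cardL]
  cov a a1 a2 a3 := by
    obtain ⟨x, hx⟩ := H.cov a a1 a2 a3
    exact ⟨g * x, by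
      rw [show g * x * a * (g * x)⁻¹ = g * (x * a * x⁻¹) * g⁻¹ by group]; exact conj_mem_cj.2 hx⟩

theorem lc_C1 (hk : k ∈ K) (k1 : k ≠ 1) : C1 k = C K :=
  le_antisymm (fun x hx => H.nrm k hk k1 x (by rwa [mem_C1_iff_conj.1 hx])) (C_le_C1 hk)

theorem lc_ab : K ≤ C K := fun x hx => by
  obtain ⟨k, hk, k1⟩ := ex_ne (one_lt_card.1 (H.cardK ▸ H.e2 : 1 < Nat.card K))
  exact H.nrm k hk k1 x (Nrm.self K x hx k hk)

theorem lc_ti (hk : k ∈ K) (k1 : k ≠ 1) (h : k ∈ cj g K) : g ∈ C K :=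
  H.nrm _ (mem_cj.1 h) (by simpa using conj_ne_one g⁻¹ k1) g (by simpa [mul_assoc] using hk)

theorem lc_cov (hr : r.Prime) (g1 : g ≠ 1) (h : ¬ r ∣ orderOf g) (hz : RE r z) (c : z ∈ C1 g) :
    ∃ x, g ∈ cj x K ∧ z ∈ C (cj x K) := by
  obtain ⟨x, hx⟩ := H.cov g g1 h ((lc_dvd hr hz).trans (orderOf_dvd_card' c))
  have : g ∈ cj x⁻¹ K := by rwa [mem_cj, inv_inv]
  exact ⟨_, this, (H.lc_cj _).lc_C1 this g1 ▸ c⟩

variable (V : VZ G q r d m e Zs)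
include V

theorem lc_cz (hz : z ∈ Zs) : Nat.card (C1 z) = q ^ 3 * e := by
  have hP := V.par
  obtain ⟨n, hn, e1⟩ := V.cz z hz
  have q0 : 0 < q ^ 3 * e := Nat.mul_pos (pow_pos (by have := hP.q2; omega) _) hP.e_pos
  rw [← hP.de, mul_comm d, ← mul_assoc] at e1
  have n0 : n ≠ 0 := by rintro rfl; have := hP.d_pos; rw [mul_zero] at e1; nlinarith
  by_cases nd : n = d
  · exact Nat.eq_of_mul_eq_mul_right hP.d_pos (nd ▸ e1)
  exfalso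
  obtain rfl : d = 3 := by rcases hP.d_cases with c | c <;> omega
  haveI := Fact.mk Nat.prime_three
  obtain ⟨S, hS⟩ := exists_sylIn 3 (C1 z)
  have a : ∀ x, ¬ S ≤ cj x K := fun x c => by
    obtain ⟨j, hj⟩ := card_dvd_of_le' c
    rw [(H.lc_cj x).cardK] at hj
    rw [← card_mul_relIndex hS.le, hj, mul_assoc, show q ^ 3 * (Nat.card S * j) * 3 =
      Nat.card S * (3 * (q ^ 3 * j)) by ring] at e1
    rcases (Nat.prime_three.dvd_mul).1 ⟨_, Nat.eq_of_mul_eq_mul_left (card_pos S) e1⟩ with c | c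
    · exact hS.not_dvd_relIndex c
    · omega
  have b : ∀ y ∈ S, y ≠ 1 → ∃ x, y ∈ cj x K ∧ z ∈ C (cj x K) := fun y hy y1 =>
    H.lc_cov hP.pr y1 (((piG_compl_of_isPGroup Nat.prime_three hS.isPGroup
      (hP.r_ne rfl).symm).piE hy).not_dvd' hP.pr rfl) (V.Zr z hz) (mem_C1_comm.1 (hS.le hy))
  obtain ⟨x, hx, x1⟩ := ex_ne (Z_ne_bot_of_nilpotent (nilpotent_of_isPGroup Nat.prime_three
    hS.isPGroup) fun c => a 1 (c ▸ bot_le))
  obtain ⟨a1, a2, a3⟩ := b x hx.1 x1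
  obtain ⟨y, hy, y1⟩ := SetLike.not_le_iff_exists.1 (a a1)
  obtain ⟨b1, b2, b3⟩ := b y hy fun c => y1 (c ▸ one_mem _)
  have H1 := H.lc_cj a1
  have H2 := H.lc_cj b1
  have c1 : cj a1 K ≤ C (cj b1 K) := by
    rw [← H2.lc_C1 b2 fun c => y1 (c ▸ one_mem _), le_C1_iff, ← H1.lc_C1 a2 x1]
    exact le_C1_iff.2 hx.2 hy
  have c2 : cj a1 K ⊓ cj b1 K = ⊥ := eq_bot_iff.2 fun k hk => by_contra fun k1 => y1 (by
    have := H1.lc_ti (g := b1 * a1⁻¹) hk.1 k1 (by rw [cj_cj, inv_mul_cancel_right]; exact hk.2)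
    rwa [← cj_of_mem_C this, cj_cj, inv_mul_cancel_right])
  have c3 := (card_dvd_of_le' (sup_le (le_C1_iff.2 a3) (le_C1_iff.2 b3))).trans ⟨_, e1.symm⟩
  rw [card_sup_of_inf_eq_bot (.inl (nrm_of_le_C c1)) c2, H1.cardK, H2.cardK, mul_assoc] at c3
  have c4 := Nat.dvd_of_mul_dvd_mul_left hP.e_pos (((hP.lc_cop hP.not_dvd_e 3).mul_left
    (hP.lc_cop hP.not_dvd_e 3)).dvd_of_dvd_mul_left c3)
  have c5 : q = 10 := by
    have := hP.he
    have := H.e2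
    rcases (Nat.dvd_prime Nat.prime_three).1 c4 with c | c <;> omega
  have c6 : ∀ p : ℕ, p.Prime → p ∣ 10 → p = r := fun p hp c => by_contra fun n =>
    hP.lc_ndvd hp n 1 (by rwa [pow_one, c5])
  have := (c6 2 Nat.prime_two (by norm_num)).trans (c6 5 Nat.prime_five (by norm_num)).symm
  omega

theorem lc_conj (hz : z ∈ Zs) (hy : y ∈ Zs) : ∃ g, g * z * g⁻¹ = y := by
  have a := card_inf_mul_relIndex (C1 z) ⊤
  rw [← ncard_cl, inf_top_eq, H.lc_cz V hz, card_top, V.card, V.par.ord_eq] at a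
  have b : (clSupp {z} ⊤).ncard = Zs.ncard := by
    refine Nat.eq_of_mul_eq_mul_left (H.lc_cz V hz ▸ card_pos (C1 z)) (a.trans ?_)
    rw [V.Zn, show q ^ 2 - 1 = (q + 1) * (q - 1) from Nat.sq_sub_sq q 1]; ring
  obtain ⟨_, rfl, g, -, c⟩ := (Set.eq_of_subset_of_ncard_le (s := clSupp {z} ⊤) (by
    rintro _ ⟨_, rfl, g, -, rfl⟩; exact V.Zcj _ hz g) b.ge).ge hy
  exact ⟨g, c.symm⟩

theorem lc_sylK {p : ℕ} (hp : p.Prime) (hr : p ≠ r) (hK : K ≤ A) (hA : Nat.card A ∣ q ^ 3 * e)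
    (hR : SylIn p R K) : SylIn p R A :=
  hR.trans_not_dvd hp hK fun c => V.par.lc_ndvd hp hr 3 (c.trans (by
    rw [← card_mul_relIndex hK, H.cardK, mul_comm] at hA
    exact Nat.dvd_of_mul_dvd_mul_right V.par.e_pos hA))

theorem lc_kc (hK : K ≤ A) (hK' : cj g K ≤ A) (hA : Nat.card A ∣ q ^ 3 * e) :
    ∃ c ∈ A, c * g ∈ C K := by
  obtain ⟨p, hp, pe⟩ := Nat.exists_prime_and_dvd (show e ≠ 1 by have := H.e2; omega)
  haveI := Fact.mk hp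
  have pr : p ≠ r := fun c => V.par.not_dvd_e (c ▸ pe)
  obtain ⟨T, hT⟩ := exists_sylIn p K
  obtain ⟨c, hc, e1⟩ := ((H.lc_cj g).lc_sylK V hp pr hK' hA (hT.cjj g)).conj
    (H.lc_sylK V hp pr hK hA hT)
  obtain ⟨t, ht, t1⟩ := ex_ne (hT.ne_bot hp (H.cardK ▸ pe))
  refine ⟨c, hc, H.lc_ti (hT.le ht) t1 (cj_mono hT.le ?_)⟩
  rwa [← cj_cj, e1]

theorem lc_pnil (hz : z ∈ Zs) {p : ℕ} (hp : p.Prime) (hr : p ≠ r) : PNil p (C1 z) := by
  by_cases c : p ∣ Nat.card (C1 z)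
  swap
  · exact pNil_of_not_dvd hp c
  obtain ⟨s, hs, sp⟩ := exists_mem_orderOf_eq hp c
  obtain ⟨x, -, b⟩ := H.lc_cov V.par.pr (fun c => hp.ne_one (by rw [← sp, c, orderOf_one]))
    (fun c => hr ((Nat.prime_dvd_prime_iff_eq V.par.pr hp).1 (sp ▸ c)).symm) (V.Zr z hz)
    (mem_C1_comm.1 hs)
  have H1 := H.lc_cj x
  obtain ⟨T, hT⟩ := exists_sylIn p (cj x K)
  have hT' := H1.lc_sylK V hp hr (le_C1_iff.2 b) (H.lc_cz V hz).dvd hT
  obtain ⟨t, ht, t1⟩ := ex_ne (hT'.ne_bot hp c)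
  exact hT'.pNil_of_le_C hp fun g hg =>
    C_anti hT.le (H1.nrm t (hT.le ht) t1 g (hT.le (conj_mem_of_mem_N hg.2 ht)))

theorem lc_syl (hz : z ∈ Zs) : SylIn r (Op r (C1 z)) (C1 z) := by
  obtain ⟨S, hS⟩ := exists_sylIn r (C1 z)
  let J := C1 z ⊓ ⨅ p : {p : ℕ // p.Prime ∧ p ≠ r}, (H.lc_pnil V hz p.2.1 p.2.2).compl
  have mJ : ∀ x, x ∈ J ↔ x ∈ C1 z ∧ PiE {r} x := fun x => by
    rw [mem_inf, mem_iInf]
    exact and_congr_right fun hx => ⟨fun a p hp c => by_contra fun n =>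
      hp.coprime_iff_not_dvd.1 (a ⟨p, hp, n⟩).2.symm c,
      fun a p => ⟨hx, (p.2.1.coprime_iff_not_dvd.2 fun c => p.2.2 (a p p.2.1 c)).symm⟩⟩
  have := hS.eq_of_le inf_le_left ((piG_single V.par.pr).1 (piG_of_forall (H := J) fun x hx =>
    ((mJ x).1 hx).2)) fun x hx => (mJ x).2 ⟨hS.le hx,
      ((piG_single V.par.pr).2 hS.isPGroup).piE hx⟩
  rwa [← hS.eq_Op V.par.pr (this ▸ fun a ha x hx => (mJ _).2
    ⟨Nrm.self _ a ha x ((mJ x).1 hx).1, ((mJ x).1 hx).2.conj a⟩)]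

theorem lc_cardP (hz : z ∈ Zs) : Nat.card (Op r (C1 z)) = q ^ 3 :=
  V.par.lc_syl (H.lc_syl V hz) (H.lc_cz V hz) V.par.not_dvd_e

theorem lc_leP (hz : z ∈ Zs) (h1 : A ≤ C1 z) (h2 : IsPGroup r A) : A ≤ Op r (C1 z) :=
  le_Op_of_sylIn V.par.pr (H.lc_syl V hz) h1 h2

theorem lc_memP (hz : z ∈ Zs) (h1 : x ∈ C1 z) (h2 : PiE {r} x) : x ∈ Op r (C1 z) :=
  H.lc_leP V hz (zpowers_le.2 h1) ((piG_single V.par.pr).1 (piE_iff_piG.1 h2)) (mem_zpowers x)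

theorem lc_clo (z : G) (hz : z ∈ Zs) :
    ∃ P : Subgroup G, Nat.card P = q ^ 3 ∧ P ≤ C1 z ∧ ∀ x ∈ C1 z, RE r x → x ∈ P :=
  ⟨_, H.lc_cardP V hz, Op_le _ _, fun _ a b => H.lc_memP V hz a ((lc_re V.par.pr).1 b).2⟩

end HL

end CfsgW3
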