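import Cfsg.Agent.H5.W3Loc1
import Mathlib.GroupTheory.FixedPointFree

set_option autoImplicit false
set_option linter.unusedSectionVars false

/-! S3422, piece (LOC): the Sylow subgroup of the centraliser of the homology group. -/

namespace CfsgW3

open Cfsg CfsgH5 CfsgH6 CfsgFT Subgroup CfsgH5.Der
open CfsgU3 (RE)

universe u

variable {G : Type u} [Group G] [Finite G] {q r d m e : ℕ} {K A B R : Subgroup G} {Zs : Set G}
  {g k x y z : G}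

theorem lc_odd (h : g * z * g⁻¹ = z⁻¹) {n : ℕ} (hn : Odd n) :
    g * g ∈ C1 z ∧ g ^ n * z * (g ^ n)⁻¹ = z⁻¹ := by
  have a : g * g ∈ C1 z := mem_C1_iff_conj.2 (by
    rw [show g * g * z * (g * g)⁻¹ = g * (g * z * g⁻¹) * g⁻¹ by group, h,
      show g * z⁻¹ * g⁻¹ = (g * z * g⁻¹)⁻¹ by group, h, inv_inv])
  obtain ⟨k, rfl⟩ := hn
  refine ⟨a, ?_⟩
  rw [pow_succ', pow_mul, sq, show g * (g * g) ^ k * z * (g * (g * g) ^ k)⁻¹ =
    g * ((g * g) ^ k * z * ((g * g) ^ k)⁻¹) * g⁻¹ by group, mem_C1_iff_conj.1 (pow_mem a k), h]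

theorem lc_fpf (hg : g ∈ N R) (h2 : g * g ∈ C R) (h : ∀ y ∈ R, g ∈ C1 y → y = 1) : Ab R := by
  let φ : R →* R := ((MulAut.conj g).toMonoidHom.comp R.subtype).codRestrict R
    fun x => conj_mem_of_mem_N hg x.2
  refine ab_iff.2 fun x hx y hy => congrArg Subtype.val
    (MonoidHom.FixedPointFree.commute_all_of_involutive (φ := φ) (fun a c => Subtype.ext
      (h a a.2 (mem_C1_iff_conj.2 (congrArg Subtype.val c)))) (fun a => Subtype.ext ?_)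
      ⟨x, hx⟩ ⟨y, hy⟩).eq
  change g * (g * a * g⁻¹) * g⁻¹ = a
  rw [← mem_C1_iff_conj.1 (C_le_C1 a.2 h2)]
  nth_rewrite 1 [mem_C1_iff_conj.1 (C_le_C1 a.2 h2)]
  group

namespace VZ

variable (V : VZ G q r d m e Zs)
include V

theorem lc_Z3 (hx : RE r x) (hA : Nat.card A = q ^ 3) (h : A ≤ C1 x) : x ∈ Zs := by
  by_contra c
  have := (card_dvd_of_le' h).trans (V.cu x hx c)
  rw [hA, Nat.pow_dvd_pow_iff_le_right V.par.q2] at this
  omega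

theorem lc_M2 (hB : (q - 1) * e ∣ Nat.card B) {S : Set G} (hS : ∀ g ∈ B, ∀ x ∈ S, g * x * g⁻¹ ∈ S)
    (h : ∀ x ∈ S, RE r x ∧ x ∉ Zs) : (q - 1) * e ∣ S.ncard :=
  Cfsg.Agent.H3.OrdSq.dvd_ncard_conj B _ S hS fun x hx => by
    rw [← card_inf_mul_relIndex (C1 x)] at hB
    exact (((V.par.lc_cop V.par.not_dvd_pred 2).mul_left (V.par.lc_cop V.par.not_dvd_e 2)).coprime_dvd_right
      ((card_dvd_of_le' inf_le_left).trans (V.cu x (h x hx).1 (h x hx).2))).dvd_of_dvd_mul_left hB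

end VZ

namespace HL

variable (H : HL G q r e K) (V : VZ G q r d m e Zs)
include H V

theorem lc_q3 : 3 ≤ q := by
  have := V.par.he
  have := Nat.mul_le_mul V.par.d_pos H.e2
  omega

theorem lc_ZL (hx : x ∈ C K) (h : RE r x) : x ∈ Zs := by
  by_contra c
  have := (card_dvd_of_le' (le_C1_iff.2 hx)).trans (V.cu x h c)
  rw [H.cardK] at this
  have := (V.par.lc_cop V.par.not_dvd_e 2).eq_one_of_dvd this
  have := H.e2
  omega

theorem lc_tr (hz : z ∈ Zs) (hy : y ∈ Zs) (zL : z ∈ C K) (yL : y ∈ C K) :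
    ∃ g ∈ C K, g * z * g⁻¹ = y := by
  obtain ⟨g, rfl⟩ := H.lc_conj V hz hy
  obtain ⟨c, hc, a⟩ := H.lc_kc V (g := g) (le_C1_iff.2 yL)
    (cj_C1 g z ▸ cj_mono (le_C1_iff.2 zL)) (H.lc_cz V hy).dvd
  exact ⟨_, a, by rw [← mem_C1_iff_conj.1 hc]; group⟩

theorem lc_pow (hy : y ∈ Zs) (yL : y ∈ C K) (h1 : x ∈ C1 y) (h2 : x ∈ C K) : x ^ q ^ 3 ∈ K := by
  have a := (card_dvd_of_le' (inf_le_left : C1 y ⊓ C K ≤ _)).trans (H.lc_cz V hy).dvd
  rw [← card_mul_relIndex (le_inf (le_C1_iff.2 yL) H.lc_ab), H.cardK, mul_comm] at a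
  obtain ⟨j, hj⟩ := Nat.dvd_of_mul_dvd_mul_right V.par.e_pos a
  rw [hj, pow_mul]
  exact pow_mem (pow_relIndex_mem' (M := C1 y ⊓ C K) ⟨h1, h2⟩ (nrm_of_le_C inf_le_right)) j

theorem lc_M1 (hB : (q - 1) * e ∣ Nat.card B) {S : Set G} (hS : ∀ g ∈ B, ∀ x ∈ S, g * x * g⁻¹ ∈ S)
    (h : ∀ x ∈ S, RE r x) : q - 1 ∣ S.ncard :=
  Cfsg.Agent.H3.OrdSq.dvd_ncard_conj B _ S hS fun x hx => by
    rw [← card_inf_mul_relIndex (C1 x)] at hB
    have a : Nat.card ↥(C1 x ⊓ B) ∣ q ^ 3 * e := (card_dvd_of_le' inf_le_left).trans (by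
      by_cases c : x ∈ Zs
      · exact (H.lc_cz V c).dvd
      · exact ((V.cu x (h x hx) c).trans (pow_dvd_pow q (by norm_num))).mul_right _)
    have b := hB.trans (Nat.mul_dvd_mul_right a _)
    rw [mul_right_comm] at b
    exact (V.par.lc_cop V.par.not_dvd_pred 3).dvd_of_dvd_mul_left
      (Nat.dvd_of_mul_dvd_mul_right V.par.e_pos b)

theorem lc_M3 (hB : (q - 1) * e ∣ Nat.card B) (hA : IsPGroup r A) (hn : Nrm B A) :
    ∃ j, Nat.card A = q ^ j := by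
  haveI := Fact.mk V.par.pr
  have a := H.lc_M1 V hB (S := sharp A) (fun g hg x hx => ⟨hn g hg x hx.1, conj_ne_one g hx.2⟩)
    fun x hx => RE.of_mem hA hx.1 hx.2
  obtain ⟨j, hj⟩ := IsPGroup.iff_card.1 hA
  obtain ⟨k, hk⟩ := V.par.pw
  rw [ncard_sharp, hj, hk] at a
  have b := Nat.pow_sub_one_gcd_pow_sub_one r k j
  rw [Nat.gcd_eq_left a] at b
  have c := pow_pos V.par.pr.pos k
  have c' := pow_pos V.par.pr.pos (k.gcd j)
  obtain ⟨i, rfl⟩ := Nat.gcd_eq_left_iff_dvd.1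
    (Nat.pow_right_injective V.par.pr.two_le (show r ^ k.gcd j = r ^ k by omega))
  exact ⟨i, by rw [hj, hk, pow_mul]⟩

variable (hR : SylIn r R (C K))
include hR

theorem lc_cardR : Nat.card R = q := by
  rw [← pow_one q]
  refine V.par.lc_syl hR (n := (q + 1) * (q - 1) * e)
    (by rw [H.cardL, show q ^ 2 - 1 = (q + 1) * (q - 1) from Nat.sq_sub_sq q 1]; ring) fun c => ?_
  rcases V.par.pr.dvd_mul.1 c with c | c
  · exact (V.par.pr.dvd_mul.1 c).elim V.par.not_dvd_succ V.par.not_dvd_pred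
  · exact V.par.not_dvd_e c

theorem lc_RZ (hz : z ∈ R) (z1 : z ≠ 1) : z ∈ Zs :=
  H.lc_ZL V (hR.le hz) (RE.of_mem hR.isPGroup hz z1)

theorem lc_R (hz : z ∈ R) (z1 : z ≠ 1) (h : R ≤ C1 z) : Op r (C1 z) ⊓ C K = R :=
  hR.eq_of_le inf_le_right ((isPGroup_Op' V.par.pr _).to_inf_left)
    (le_inf (H.lc_leP V (H.lc_RZ V hR hz z1) h hR.isPGroup) hR.le)

theorem lc_abR : Ab R := by
  have q3 := H.lc_q3 V
  by_cases r2 : r = 2
  · obtain ⟨z, hz, z2⟩ := exists_mem_orderOf_eq V.par.pr (H.lc_cardR V hR ▸ V.par.r_dvd)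
    have a : ∀ x ∈ R, x⁻¹ = x := fun x hx => by
      by_cases c : x = 1
      · rw [c, inv_one]
      obtain ⟨g, rfl⟩ := H.lc_conj V (H.lc_RZ V hR hz fun c =>
        V.par.pr.ne_one (by rw [← z2, c, orderOf_one])) (H.lc_RZ V hR hx c)
      rw [inv_eq_iff_mul_eq_one, ← sq, ← r2, ← z2, ← orderOf_conj' g, pow_orderOf_eq_one]
    exact ab_iff.2 fun x hx y hy => by
      rw [← a _ (mul_mem hx hy), mul_inv_rev, a x hx, a y hy]
  obtain ⟨z, hz, z1⟩ := ex_ne (Z_ne_bot_of_nilpotent (nilpotent_of_isPGroup V.par.pr hR.isPGroup)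
    (one_lt_card.1 (by rw [H.lc_cardR V hR]; omega)))
  have zZ := H.lc_RZ V hR hz.1 z1
  have zL := hR.le hz.1
  obtain ⟨g, gL, c⟩ := H.lc_tr V zZ (H.lc_RZ V hR (inv_mem hz.1) (inv_ne_one.2 z1)) zL (inv_mem zL)
  have o : Odd (q ^ 3) := (V.par.odd r2).pow
  obtain ⟨a1, a2⟩ := lc_odd c o
  refine lc_fpf (g := g ^ q ^ 3) (mem_N.2 ?_) ?_ fun y hy b => by_contra fun y1 => r2 ?_
  · rw [← H.lc_R V hR hz.1 z1 (le_C1_iff.2 hz.2), cj_inf, cj_Op' V.par.pr, cj_C1, a2, C1_inv,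
      cj_self (pow_mem gL _)]
  · rw [← (Commute.refl g).mul_pow]
    exact le_C_symm hR.le (H.lc_pow V zZ zL a1 (mul_mem gL gL))
  · have b1 := mem_C1_iff_conj.1 (le_C1_iff.2 zL
      (H.lc_pow V (H.lc_RZ V hR hy y1) (hR.le hy) b (pow_mem gL _)))
    rw [(lc_odd a2 o).2, inv_eq_iff_mul_eq_one, ← sq] at b1
    exact (Nat.prime_dvd_prime_iff_eq V.par.pr Nat.prime_two).1
      ((lc_dvd V.par.pr (V.Zr z zZ)).trans (orderOf_dvd_of_pow_eq_one b1))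

theorem lc_B : (q - 1) * e ∣ Nat.card ↥(C K ⊓ N R) := by
  have q3 := H.lc_q3 V
  obtain ⟨z, hz, z1⟩ := ex_ne (one_lt_card.1 (by rw [H.lc_cardR V hR]; omega : 1 < Nat.card R))
  have a : clSupp {z} (C K ⊓ N R) = CfsgFT.sharp R := Set.ext fun y => ⟨by
    rintro ⟨_, rfl, g, hg, rfl⟩
    exact ⟨conj_mem_of_mem_N hg.2 hz, conj_ne_one g z1⟩, fun ⟨hy, y1⟩ => by
    obtain ⟨g, gL, rfl⟩ := H.lc_tr V (H.lc_RZ V hR hz z1) (H.lc_RZ V hR hy y1) (hR.le hz) (hR.le hy)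
    refine ⟨z, rfl, g, ⟨gL, mem_N.2 ?_⟩, rfl⟩
    nth_rewrite 1 [← H.lc_R V hR hz z1 ((H.lc_abR V hR).trans (C_le_C1 hz))]
    rw [cj_inf, cj_Op' V.par.pr, cj_C1, cj_self gL,
      H.lc_R V hR hy y1 ((H.lc_abR V hR).trans (C_le_C1 hy))]⟩
  rw [← card_inf_mul_relIndex (C1 z), ← ncard_cl, a, ncard_sharp, H.lc_cardR V hR, mul_comm,
    ← H.cardK]
  exact Nat.mul_dvd_mul_right (card_dvd_of_le' (le_inf (le_C1_iff.2 (hR.le hz))
    (le_inf H.lc_ab ((le_C_symm hR.le).trans (C_le_N _))))) _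

theorem lc_NR (hz : z ∈ R) (z1 : z ≠ 1) : C1 z ⊓ N R ≤ C R := fun g hg => by
  have zZ := H.lc_RZ V hR hz z1
  have KR := le_C_symm hR.le
  obtain ⟨c, hc, a⟩ := H.lc_kc V (g := g) KR
    (by rw [← mem_N.1 hg.2, ← cj_C]; exact cj_mono KR)
    ((card_dvd_of_le' (C_le_C1 hz)).trans (H.lc_cz V zZ).dvd)
  have b : c * g ∈ C1 z := mul_mem (C_le_C1 hz hc) hg.1
  rw [← mul_mem_cancel_left hc, ← ppart_mul_ppart {r} (c * g)]
  refine mul_mem (H.lc_abR V hR ((H.lc_R V hR hz z1 ((H.lc_abR V hR).trans (C_le_C1 hz))).le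
    ⟨H.lc_memP V zZ (ppart_mem _ b) (piE_ppart _ _), ppart_mem _ a⟩)) (KR ?_)
  exact mem_of_pow_mem_of_coprime' (V.par.lc_cop ((piE_ppart {r}ᶜ _).not_dvd' V.par.pr rfl) 3)
    (H.lc_pow V zZ (hR.le hz) (ppart_mem _ b) (ppart_mem _ a))

end HL

end CfsgW3
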