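import Cfsg.Agent.H5.Wong11
import Cfsg.Agent.H5.Wong4
import Cfsg.Agent.H5.PGLp
import Cfsg.Agent.H5.TW
import Cfsg.Agent.L.Char5
import Cfsg.Agent.S3331

/-! Wong's theorem on subdegree three, part 12: small stabilisers. -/

set_option autoImplicit false
set_option linter.style.haveILetI false
set_option linter.unusedSectionVars false

namespace CfsgH5.Wong

open Subgroup CfsgH6 CfsgFT Equiv
open scoped MatrixGroups

universe u

variable {G : Type u} [Group G]

theorem solv_of_card {M : Type*} [Group M] [Finite M] (a b : ℕ) (h : Nat.card M = 2 ^ a * 3 ^ b) :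
    Group.IsSolvable M := CfsgL.burnside_pq' Nat.prime_two Nat.prime_three h

theorem sc3 [Finite G] {x : G} (x3 : x ^ 3 = 1) (x1 : x ≠ 1)
    (hC : ∀ g, g * x = x * g → g ∈ zpowers x)
    (hs : ∀ N : Subgroup G, N.Normal → Group.IsSolvable N → N = ⊥) :
    Nonempty (G ≃* alternatingGroup (Fin 5)) ∨ Nonempty (G ≃* PSL(2, ZMod 7)) := by
  have ns : ¬ Group.IsSolvable G := fun c => x1 (mem_bot.1 (hs ⊤ inferInstance inferInstance ▸ mem_top x))
  rcases Cfsg.Agent.S3331.result (zpowers x) (by rw [Nat.card_zpowers, CfsgH8.Mat.orderOf_three x3 x1])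
    (le_antisymm (fun g hg => hC g (hg x (mem_zpowers x)).symm) (ab_zpowers x)) with
    ⟨N, hN, a, -, b⟩ | ⟨N, hN, a, -, ⟨b⟩⟩ | c
  · obtain rfl := hs N hN inferInstance
    refine absurd ?_ ns
    have c := Nat.card_congr (QuotientGroup.quotientBot (G := G)).toEquiv
    rcases b with b | ⟨⟨b⟩⟩
    · exact solv_of_card 0 1 (c ▸ b)
    · exact solv_of_card 1 1 (by rw [← c, Nat.card_congr b.toEquiv, Nat.card_perm]; simp; rfl)
  · obtain rfl := hs N hN (Group.isSolvable_of_comm a.is_comm.comm)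
    exact Or.inl ⟨QuotientGroup.quotientBot.symm.trans b⟩
  · exact Or.inr c

theorem exists_s [Finite G] {H T : Subgroup G} {g : G} (h3 : (cj g H).relIndex H = 3) (hT : T ≤ H)
    {k : ℕ} (cT : Nat.card T = 2 ^ k) (cH : Nat.card H = 2 ^ k * 3) : ∃ s ∉ H, s ∈ N T := by
  haveI := Fact.mk Nat.prime_two
  have sT : SylIn 2 T H := sylIn_of_not_dvd hT (IsPGroup.of_card cT)
    (by rw [relIndex_eq_of_mul hT (n := 3) (by rw [cT, cH])]; norm_num)
  have cB : Nat.card ↥(cj g H ⊓ H) = 2 ^ k := by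
    have := card_inf_mul_relIndex (cj g H) H
    rw [h3, cH] at this
    omega
  obtain ⟨a, ha, ea⟩ := sT.conj (sT.of_card_le inf_le_right (IsPGroup.of_card cB) (by rw [cT, cB]))
  obtain ⟨b, hb, eb⟩ := sT.conj (sT.of_card_le (X := cj g⁻¹ (cj g H ⊓ H))
    (cj_le_iff.2 (by rw [inv_inv]; exact inf_le_left))
    (isPGroup_cj (IsPGroup.of_card cB) _) (by rw [card_cj, cT, cB]))
  refine ⟨a⁻¹ * g * b, fun c => ?_, mem_N.2 (by
    rw [← cj_cj, eb, ← cj_cj, cj_cj_inv, ← ea, cj_inv_cj])⟩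
  rw [H.mul_mem_cancel_right hb, H.mul_mem_cancel_left (inv_mem ha)] at c
  rw [cj_self c, relIndex_self] at h3
  omega

local instance fact7 : Fact (Nat.Prime 7) := ⟨by norm_num⟩

def m7i : SL(2, ZMod 7) := ⟨!![0, 6; 1, 0], by decide⟩
def m7j : SL(2, ZMod 7) := ⟨!![2, 3; 3, 5], by decide⟩
def m7o : SL(2, ZMod 7) := ⟨!![6, 2; 3, 0], by decide⟩
def m7y : SL(2, ZMod 7) := ⟨!![4, 1; 4, 3], by decide⟩

/-- a maximal core-free soluble subgroup of an insoluble group -/
structure Pm {M : Type} [Group M] (e : M →* G) : Prop where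
  inj : Function.Injective e
  max : IsCoatom e.range
  cf : ∀ N : Subgroup G, N.Normal → N ≤ e.range → N = ⊥
  ins : ¬ Group.IsSolvable G
  sol : Group.IsSolvable M

namespace Pm

variable [Finite G] {M : Type} [Group M] {e : M →* G} (h : Pm e)
include h

theorem card : Nat.card e.range = Nat.card M :=
  Nat.card_congr (MonoidHom.ofInjective h.inj).toEquiv.symm

theorem card_map (X : Subgroup M) : Nat.card (X.map e) = Nat.card X := card_map_of_injective h.inj

theorem ne {a b : M} (hab : a ≠ b) : e a ≠ e b := fun c => hab (h.inj c)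

theorem ne1 {a : M} (ha : a ≠ 1) : e a ≠ 1 := fun c => ha (h.inj (c.trans e.map_one.symm))

theorem eq_top {K : Subgroup G} (hK : e.range ≤ K) {g : G} (hg : g ∈ K) (hg' : g ∉ e.range) :
    K = ⊤ := h.max.2 K (lt_of_le_of_ne hK fun c => hg' (c ▸ hg))

theorem le_of_nrm {W : Subgroup G} (hW : Group.IsSolvable W) (hn : Nrm e.range W) :
    W ≤ e.range := fun g hg => by
  by_contra c
  haveI := h.sol
  have := solvable_sup (Group.isSolvable_of_surjective e.rangeRestrict_surjective) hW (Or.inl hn)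
  rw [h.eq_top le_sup_left (mem_sup_right hg) c] at this
  exact h.ins (Group.isSolvable_of_surjective (f := (⊤ : Subgroup G).subtype) fun x => ⟨⟨x, trivial⟩, rfl⟩)

theorem nsol (N : Subgroup G) (hN : N.Normal) (hs : Group.IsSolvable N) : N = ⊥ :=
  h.cf N hN (h.le_of_nrm hs (Nrm.of_normal _ _))

theorem nsol2 {K : Subgroup G} (hK : K.index = 2) (N : Subgroup K) (hN : N.Normal)
    (hs : Group.IsSolvable N) : N = ⊥ := by
  haveI := normal_of_index_eq_two hK
  have h1 := Nrm.map_subtype N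
  have h2 : Group.IsSolvable (N.map K.subtype) :=
    Group.isSolvable_of_surjective
      (f := (N.equivMapOfInjective _ K.subtype_injective).toMonoidHom) (MulEquiv.surjective _)
  rw [← map_eq_bot_iff_of_injective _ K.subtype_injective]
  have h0 := map_subtype_le N
  generalize N.map K.subtype = X at *
  obtain ⟨w, hw⟩ : ∃ w, w ∉ K := by
    by_contra c
    push Not at c
    rw [(eq_top_iff' _).2 c, index_top] at hK
    omega
  have h3 : ∀ g, Nrm K (cj g X) := fun g => by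
    simpa [(Nrm.of_normal ⊤ K).cj_eq (mem_top g)] using h1.cjj g
  refine eq_bot_iff.2 (le_sup_left.trans (h.nsol (X ⊔ cj w X) (Nrm.normal_of_top
    (nrm_of_cj_le fun g _ => ?_)) (solvable_sup h2 (solvable_cj h2 w) (Or.inl ((h3 w).mono h0)))).le)
  by_cases c : g ∈ K
  · exact ((h1.sup (h3 w)).cj_eq c).le
  · have a : w⁻¹ * g ∈ K := (mul_mem_iff_of_index_two hK).2 (by simp [hw, c])
    have b : g * w ∈ K := (mul_mem_iff_of_index_two hK).2 (by simp [hw, c])
    rw [cj_sup, cj_cj, h1.cj_eq b, ← mul_inv_cancel_left w g, ← cj_cj, h1.cj_eq a, sup_comm]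

theorem mem_N {X : Subgroup G} (hX : X ≤ e.range) (hn : Nrm e.range X) (h1 : X ≠ ⊥) {g : G}
    (hg : ∀ x ∈ X, g * x * g⁻¹ ∈ X) : ∃ m, e m = g :=
  primSub_of_isCoatom h.max h.cf X hX hn h1 g hg

theorem mem_Nz {a : M} (a1 : a ≠ 1) (ha : ∀ m, m * a * m⁻¹ = a ∨ m * a * m⁻¹ = a⁻¹) {g : G}
    (hg : g * e a * g⁻¹ ∈ zpowers (e a)) : ∃ m, e m = g := by
  have key : ∀ g : G, g * e a * g⁻¹ ∈ zpowers (e a) → ∀ x ∈ zpowers (e a),
      g * x * g⁻¹ ∈ zpowers (e a) := by
    rintro g hg _ ⟨i, rfl⟩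
    simp only
    rw [← conj_zpow]
    exact zpow_mem hg i
  refine h.mem_N (zpowers_le.2 ⟨a, rfl⟩) ?_ (by simpa using h.ne1 a1) (key g hg)
  rintro _ ⟨m, rfl⟩
  refine key _ ?_
  rw [← map_inv, ← map_mul, ← map_mul]
  rcases ha m with c | c <;> simp [c]

theorem mem_C {a : M} (a1 : a ≠ 1) (ha : ∀ m, m * a * m⁻¹ = a ∨ m * a * m⁻¹ = a⁻¹) {g : G}
    (hg : g * e a = e a * g) : ∃ m, m * a = a * m ∧ e m = g := by
  obtain ⟨m, rfl⟩ := h.mem_Nz a1 ha (g := g) (by simp [hg])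
  exact ⟨m, h.inj (by simpa using hg), rfl⟩

theorem cent (K : Subgroup G) [K.Normal] (hC : ∀ g, (∀ t ∈ K, g * t = t * g) → g ∈ e.range)
    (c : G) (hc : ∀ t ∈ K, c * t = t * c) : c = 1 :=
  mem_bot.1 (h.cf (C K) inferInstance (fun g hg => hC g fun a ha => (hg a ha).symm) ▸
    CfsgFT.mem_C.2 fun t ht => (hc t ht).symm)

theorem small {a : M} (a3 : a ^ 3 = 1) (a1 : a ≠ 1)
    (ha : ∀ m, m * a * m⁻¹ = a ∨ m * a * m⁻¹ = a⁻¹) (hC : ∀ m, m * a = a * m → m ∈ zpowers a)
    (h6 : Nat.card M ∣ 6) : Nonempty (G ≃* alternatingGroup (Fin 5)) := by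
  haveI := Fact.mk Nat.prime_three
  have x3 : e a ^ 3 = 1 := by rw [← map_pow, a3, map_one]
  refine (sc3 x3 (h.ne1 a1) (fun g hg => ?_) h.nsol).resolve_right fun ⟨f⟩ => ?_
  · obtain ⟨m, hm, rfl⟩ := h.mem_C a1 ha hg
    exact e.map_zpowers a ▸ mem_map_of_mem e (hC m hm)
  let φ := f.symm.toMonoidHom.comp (pmk (ZMod 7))
  have hφ : ∀ A B, φ A = φ B ↔ A = B ∨ A = -B := fun A B => f.symm.injective.eq_iff.trans pmk_eq
  have e1 : ∀ A, φ A = 1 ↔ A = 1 ∨ A = -1 := fun A => by rw [← hφ, map_one]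
  have ii : φ m7i * φ m7i = 1 := by rw [← map_mul, e1]; decide
  have jj : φ m7j * φ m7j = 1 := by rw [← map_mul, e1]; decide
  have ij : φ m7i * φ m7j = φ m7j * φ m7i := by rw [← map_mul, ← map_mul, hφ]; decide
  have o3 : orderOf (φ m7o) = 3 := orderOf_eq_prime (by rw [← map_pow, e1]; decide)
    (by rw [Ne, e1]; decide)
  have y2 : orderOf (φ m7y) = 2 := orderOf_eq_prime (by rw [← map_pow, e1]; decide)
    (by rw [Ne, e1]; decide)
  have nV : ∀ A, (A = m7o ∨ A = m7y) → φ A ∈ N (four _ _ ii jj ij) := fun A hA => mem_N_of_conj <| by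
    rintro _ (rfl | rfl | rfl | rfl)
    · simp [one_mem]
    all_goals
      simp only [mem_four, ← map_mul, ← map_inv, hφ, e1]
      rcases hA with rfl | rfl <;> decide
  have syl : ∀ x : G, orderOf x = 3 → SylIn 3 (zpowers x) ⊤ := fun x hx =>
    sylIn_of_not_dvd le_top (IsPGroup.of_card (n := 1) (by simp [hx])) (by
      rw [relIndex_eq_of_mul le_top (n := 56) (by
        rw [Nat.card_zpowers, hx, card_top, Nat.card_congr f.toEquiv, CfsgH7.card_psl27])]
      norm_num)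
  obtain ⟨g, -, hg⟩ := (syl _ o3).conj (syl _ (CfsgH8.Mat.orderOf_three x3 (h.ne1 a1)))
  have hN : ∀ A, (A = m7o ∨ A = m7y) → g * φ A * g⁻¹ ∈ e.range ⊓ N (cj g (four _ _ ii jj ij)) :=
    fun A hA => ⟨h.mem_Nz a1 ha (conj_mem_of_mem_N (by
      rw [← hg, ← cj_N, conj_mem_cj]
      refine mem_N_of_conj ?_
      rintro _ ⟨k, rfl⟩
      simp only
      rw [← conj_zpow]
      refine zpow_mem ?_ k
      rcases hA with rfl | rfl
      · simp
      · rw [show φ m7y * φ m7o * (φ m7y)⁻¹ = (φ m7o)⁻¹ by simp only [← map_mul, ← map_inv, hφ]; decide]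
        simp) (mem_zpowers _)), by rw [← cj_N]; exact conj_mem_cj.2 (nV A hA)⟩
  have h1 : e.range ⊓ N (cj g (four _ _ ii jj ij)) = e.range := eq_of_le_of_card_dvd inf_le_left
    ((h.card ▸ h6).trans (Nat.Coprime.mul_dvd_of_dvd_of_dvd (m := 2) (n := 3) (by norm_num)
      (by simpa [orderOf_conj', y2] using orderOf_dvd_natCard _ (hN _ (Or.inr rfl)))
      (by simpa [orderOf_conj', o3] using orderOf_dvd_natCard _ (hN _ (Or.inl rfl)))))
  have h2 := card_dvd_of_le (h.le_of_nrm (solvable_cj (solvable_of_isPGroup Nat.prime_two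
    fun v => ⟨1, Subtype.ext (by simpa [sq] using four_sq v.2)⟩) g)
    (nrm_of_le_N (h1 ▸ inf_le_right)))
  rw [card_cj, card_four (by rw [Ne, e1]; decide) (by rw [Ne, e1]; decide)
    (by rw [Ne, hφ]; decide), h.card] at h2
  exact absurd (h2.trans h6) (by norm_num)

end Pm

end CfsgH5.Wong
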