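import Cfsg.Agent.H5.Wong12

/-! Wong's theorem on subdegree three, part 13: stabilisers `D₁₂` and `S₄`. -/

set_option autoImplicit false
set_option linter.style.haveILetI false
set_option linter.unusedSectionVars false

namespace CfsgH5.Wong

open Subgroup CfsgH6 CfsgFT Equiv DihedralGroup
open scoped MatrixGroups

universe u

variable {G : Type u} [Group G]

theorem thompson [Finite G] {S S₀ : Subgroup G} (hS : SylIn 2 S ⊤) (h0 : S₀ ≤ S)
    (hi : S₀.relIndex S = 2) {t : G} (ht : t * t = 1) (h : ∀ g : G, g * t * g⁻¹ ∉ S₀) :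
    ∃ N : Subgroup G, N.index = 2 ∧ t ∉ N := by
  haveI := Fact.mk Nat.prime_two
  have h1 := hS.not_dvd_relIndex
  rw [relIndex_top_right] at h1
  exact thompson_transfer (m := S.index) (by rw [← relIndex_mul_index h0, hi])
    (Nat.not_even_iff_odd.1 (by rwa [even_iff_two_dvd])) ht h

theorem card_C1 {M : Type} [Group M] [Fintype M] [DecidableEq M] (a : M) :
    Nat.card (C1 a) = (Finset.univ.filter fun m => m * a = a * m).card := by
  rw [← Fintype.card_subtype, ← Nat.card_eq_fintype_card]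
  exact Nat.card_congr (Equiv.subtypeEquivRight fun _ => mem_C1)

theorem psl_zmod {F : Type} [Field F] [Fintype F] {p : ℕ} [Fact p.Prime] (h : Fintype.card F = p)
    (f : G ≃* PSL(2, F)) : Nonempty (G ≃* PSL(2, ZMod p)) :=
  (nonempty_psl_congr (n := 2) (h.trans (ZMod.card p).symm)).map f.trans

theorem Pm.d12 [Finite G] {e : DihedralGroup 6 →* G} (h : Pm e) {g : G}
    (h3 : (cj g e.range).relIndex e.range = 3) :
    Nonempty (G ≃* Perm (Fin 5)) ∨
      Nonempty (G ≃* GL (Fin 2) (ZMod 7) ⧸ center (GL (Fin 2) (ZMod 7))) ∨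
      Nonempty (G ≃* PSL(2, ZMod 11)) ∨ Nonempty (G ≃* PSL(2, ZMod 13)) := by
  haveI := Fact.mk Nat.prime_two
  have eq : ∀ {a b}, a = b → e a = e b := fun c => c ▸ rfl
  have zz' : e (r 3) * e (r 3) = 1 := by rw [← map_mul, ← e.map_one]; exact eq (by decide)
  have vv : e (sr 0) * e (sr 0) = 1 := by rw [← map_mul, ← e.map_one]; exact eq (by decide)
  have zv : e (r 3) * e (sr 0) = e (sr 0) * e (r 3) := by
    rw [← map_mul, ← map_mul]; exact eq (by decide)
  have z1 : e (r 3) ≠ 1 := h.ne1 (by decide)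
  have hC : ∀ i : ZMod 6, i ≠ 0 → ∀ g, g * e (r i) = e (r i) * g →
      ∃ m, m * r i = r i * m ∧ e m = g := fun i hi g hg =>
    h.mem_C (by clear hg; revert i; decide) (by clear hi hg; revert i; decide) hg
  set T := four _ _ zz' vv zv with hT
  have cT : Nat.card T = 2 ^ 2 := card_four z1 (h.ne1 (by decide)) (h.ne (by decide))
  have cH : Nat.card e.range = 2 ^ 2 * 3 := by rw [h.card, DihedralGroup.nat_card]; rfl
  have TH : T ≤ e.range := by
    rintro _ (rfl | rfl | rfl | rfl)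
    exacts [one_mem _, ⟨_, rfl⟩, ⟨_, rfl⟩, ⟨_, map_mul ..⟩]
  have pT : IsPGroup 2 T := IsPGroup.of_card cT
  have sT : SylIn 2 T e.range := sylIn_of_not_dvd TH pT
    (by rw [relIndex_eq_of_mul TH (n := 3) (by rw [cT, cH])]; norm_num)
  have zT : e (r 3) ∈ T := Or.inr (Or.inl rfl)
  have CH : C1 (e (r 3)) ≤ e.range := fun g hg => (hC 3 (by decide) g (mem_C1.1 hg)).imp fun _ c => c.2
  obtain ⟨S, TS, hS⟩ := exists_sylIn_ge (H := ⊤) le_top pT
  rcases TS.eq_or_lt with rfl | lt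
  · obtain ⟨s, s1, s2⟩ := exists_s h3 TH cT cH
    have c1 : ∀ a ∈ T, a ≠ 1 → IsConj (e (r 3)) a := by
      have a1 := conj_mem_of_mem_N s2 zT
      have a2 := conj_mem_of_mem_N s2 a1
      have b1 : s * e (r 3) * s⁻¹ ≠ e (r 3) := fun c => s1 (CH (mem_C1_iff_conj.2 c))
      have b2 : s * (s * e (r 3) * s⁻¹) * s⁻¹ ≠ s * e (r 3) * s⁻¹ := fun c => b1 (by simpa using c)
      have b3 : s * (s * e (r 3) * s⁻¹) * s⁻¹ ≠ e (r 3) := fun c => by
        have d1 : s * s ∈ C1 (e (r 3)) := mem_C1_iff_conj.2 (by rw [← c]; nth_rewrite 1 [c]; group)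
        have d2 : s * s ∈ C1 (s * e (r 3) * s⁻¹) := by
          rw [← cj_C1, mem_cj]; simpa [mul_assoc] using d1
        have d3 : s * s ∈ C1 (e (sr 0)) := by
          rcases a1 with d | d | d | d <;> rw [d] at d2 b1
          · exact absurd (by simpa using d) z1
          · exact absurd rfl b1
          · exact d2
          · rw [mem_C1_comm] at d1 d2 ⊢
            exact (mul_mem_cancel_right d1).1 d2
        obtain ⟨m, hm⟩ := CH d1
        rw [← hm, mem_C1, ← map_mul, ← map_mul] at d3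
        have d4 : s ^ 2 ^ 2 = 1 := by
          rw [show 2 ^ 2 = 2 * 2 from rfl, pow_mul, sq s, ← hm, ← map_pow, (by decide :
            ∀ m : DihedralGroup 6, m * sr 0 = sr 0 * m → m ^ 2 = 1) m (h.inj d3), map_one]
        exact s1 (TH (hS.eq_of_le le_top (CfsgH6.Nrm.isPGroup_sup (nrm_zpowers_iff.2 s2)
          (isPGroup_zpowers_of_pow d4) pT) le_sup_right ▸ mem_sup_left (mem_zpowers s)))
      have i1 : IsConj (e (r 3)) (s * e (r 3) * s⁻¹) := isConj_iff.2 ⟨s, rfl⟩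
      have i2 : IsConj (e (r 3)) (s * (s * e (r 3) * s⁻¹) * s⁻¹) := i1.trans (isConj_iff.2 ⟨s, rfl⟩)
      have n1 : s * e (r 3) * s⁻¹ ≠ 1 := by simpa using z1
      have n2 : s * (s * e (r 3) * s⁻¹) * s⁻¹ ≠ 1 := by simpa using z1
      generalize s * (s * e (r 3) * s⁻¹) * s⁻¹ = b at *
      generalize s * e (r 3) * s⁻¹ = a at *
      rintro _ (rfl | rfl | rfl | rfl) d
      · exact absurd rfl d
      · rfl
      all_goals rcases a1 with c | c | c | c <;> rcases a2 with d | d | d | d <;> simp_all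
    have o6 : orderOf (e (r 1)) = 6 := by rw [orderOf_injective e h.inj, orderOf_r_one]
    have mr : ∀ i : ZMod 6, e (r i) ∈ zpowers (e (r 1)) := fun i => by
      rw [← ZMod.natCast_zmod_val i, ← r_one_pow, map_pow]; exact pow_mem (mem_zpowers _) _
    obtain ⟨-, F, _, _, c, ⟨f⟩⟩ := BSW.psl2 (r := e (r 1)) (v := e (sr 0)) ⟨by rw [o6]; norm_num,
      by rw [o6]; norm_num, vv, by simp only [← map_mul, ← map_inv]; exact eq (by decide),
      fun ⟨i, hi⟩ => by
        simp only [← map_zpow, r_one_zpow] at hi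
        exact absurd (h.inj hi) (by simp),
      fun t ⟨i, hi⟩ t1 g hg => by
        simp only [← map_zpow, r_one_zpow] at hi
        subst hi
        obtain ⟨m | m, -, rfl⟩ := hC _ (fun c => t1 (by rw [c, r_zero, map_one])) g hg
        exacts [Or.inl (mr _), Or.inr (by rw [← map_mul]; exact mr _)],
      fun u u2 u1 => by
        obtain ⟨k, -, hk⟩ := hS.exists_le_cj le_top (isPGroup_two_zpowers_of_sq u2)
        rw [zz, o6, ← map_pow, eq (show r 1 ^ (6 / 2) = r 3 by decide)]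
        exact (c1 _ (mem_cj.1 (hk (mem_zpowers u))) (by simpa using conj_ne_one u1 k⁻¹)).trans
          (isConj_iff.2 ⟨k, by group⟩)⟩
    rw [o6] at c
    haveI : Fact (Nat.Prime 11) := ⟨by norm_num⟩
    haveI : Fact (Nat.Prime 13) := ⟨by norm_num⟩
    rcases c with c | c
    · exact Or.inr (Or.inr (Or.inr (psl_zmod c f)))
    · exact Or.inr (Or.inr (Or.inl (psl_zmod (by omega) f)))
  have hc : ∀ g ∈ S, g * e (r 3) = e (r 3) * g → g ∈ T := fun g hg c =>
    sT.eq_of_le inf_le_right (hS.isPGroup.to_le inf_le_left) (le_inf TS TH) ▸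
      mem_inf.2 ⟨hg, CH (mem_C1.2 c)⟩
  obtain ⟨ρ, ρS, hρ⟩ := exists_idx2 (z := e (sr 0)) hS.isPGroup (TS zT) zz' z1
    (fun g hg c => z1 (c ▸ four_sq (hc g hg (by rw [← c, mul_assoc])))) fun g hg c => by
      rcases hc g hg c with d | d | d | d <;> simp [d, zv]
  obtain ⟨K, hK, zK⟩ := thompson hS (zpowers_le.2 ρS) hρ zz' fun g c => by
    have n := nrm_of_relIndex_eq Nat.prime_two hS.isPGroup (zpowers_le.2 ρS) hρ
    have t2 : g * e (r 3) * g⁻¹ * (g * e (r 3) * g⁻¹) = 1 := by rw [conj_mul, zz']; group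
    have := sT.card_le (X := cj g⁻¹ S) (le_trans (cj_le_iff.2 fun y hy => by
      rw [inv_inv, cj_C1, mem_C1_iff_conj]
      exact invol_unique (n y hy _ c) (by rw [conj_mul, t2]; group) (by simpa using z1) c t2
        (by simpa using z1)) CH) (isPGroup_cj hS.isPGroup _)
    rw [card_cj] at this
    exact absurd (card_lt_of_lt lt) (not_lt.2 this)
  haveI := normal_of_index_eq_two hK
  have xK : e (r 2) ∈ K := by
    rw [eq (show r 2 = r 1 * r 1 by decide), map_mul]; exact mul_self_mem_of_index_two hK _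
  have cK := h.cent K fun g hg => (hC 2 (by decide) g (hg _ xK)).imp fun _ c => c.2
  have nK : K ≠ ⊤ := fun c => zK (c ▸ mem_top _)
  haveI : Fact (Nat.Prime 7) := ⟨by norm_num⟩
  refine (sc3 (x := (⟨_, xK⟩ : K)) (Subtype.ext ?_) (fun c => h.ne1 (by decide) (congrArg Subtype.val c))
    (fun g hg => ?_) (h.nsol2 hK)).imp (fun ⟨f⟩ => s5_of_ne_top K f cK nK)
    fun ⟨f⟩ => Or.inl (pgl_of_ne_top K f cK nK)
  · change e _ ^ 3 = 1
    rw [← map_pow, ← e.map_one]; exact eq (by decide)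
  · obtain ⟨m, hm, c⟩ := hC 2 (by decide) g (congrArg Subtype.val hg)
    rcases (by decide : ∀ m : DihedralGroup 6, m * r 2 = r 2 * m →
      (∃ i : Fin 3, r 2 ^ i.1 = m) ∨ m ^ 3 = r 3) m hm with ⟨i, rfl⟩ | d
    · exact ⟨i.1, Subtype.ext (by rw [← c, map_pow]; simp)⟩
    · exact absurd (by rw [← d, map_pow, c]; exact pow_mem g.2 3) zK

set_option synthInstance.maxSize 1000 in
theorem ab_cases : ∀ a b : S4, a * z0 = z0 * a → b * z0 = z0 * b → a * a = 1 → b * b = 1 →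
    a * b * (a * b) ≠ 1 → a * b * (a * b) = z0 ∧ ((a = v0 ∨ a = v0 * z0) ∨
      ∃ t, t * z0 = z0 * t ∧ t * a * t⁻¹ = u0 ∧ t * b * t⁻¹ = v0) := by decide +kernel

theorem Pm.mem_V [Finite G] {M : Type} [Group M] {e : M →* G} (h : Pm e) {i : S4 →* M}
    (hi : Function.Injective i) (hn : ∀ m, ∃ σ, ∀ τ, m * i τ * m⁻¹ = i (σ * τ * σ⁻¹)) {g : G}
    (h1 : g * e (i z0) = e (i z0) * g)
    (h2 : g * e (i v0) * g⁻¹ = e (i v0) ∨ g * e (i v0) * g⁻¹ = e (i v0) * e (i z0)) :
    ∃ m, e m = g := by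
  have hz := zz0 (e.comp i)
  have hv := vv0 (e.comp i)
  have hc := (vz0 (e.comp i)).symm
  have mV : ∀ τ : S4, τ = 1 ∨ τ = z0 ∨ τ = v0 ∨ τ = v0 * z0 → e (i τ) ∈ four _ _ hz hv hc := by
    rintro _ (rfl | rfl | rfl | rfl) <;> simp [mem_four]
  have mV' : ∀ x ∈ four _ _ hz hv hc, ∃ τ : S4, (τ = 1 ∨ τ = z0 ∨ τ = v0 ∨ τ = v0 * z0) ∧
      e (i τ) = x := by
    rintro _ (rfl | rfl | rfl | rfl)
    exacts [⟨1, by simp⟩, ⟨z0, by simp⟩, ⟨v0, by simp⟩, ⟨v0 * z0, by simp⟩]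
  refine h.mem_N (X := four _ _ hz hv hc) (fun x hx => (mV' x hx).elim fun _ c => ⟨_, c.2⟩) ?_
    (fun c => h.ne1 (fun d => absurd (hi (d.trans i.map_one.symm)) (by decide))
      (mem_bot.1 (c ▸ mV z0 (by simp)))) ?_
  · rintro _ ⟨m, rfl⟩ x hx
    obtain ⟨τ, hτ, rfl⟩ := mV' x hx
    obtain ⟨σ, hσ⟩ := hn m
    rw [← map_inv, ← map_mul, ← map_mul, hσ]
    exact mV _ (by clear hσ; revert σ; rcases hτ with rfl | rfl | rfl | rfl <;> decide)
  · have a : g * e (i z0) * g⁻¹ ∈ four _ _ hz hv hc := by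
      rw [h1, mul_inv_cancel_right]; exact mV z0 (by simp)
    have b : g * e (i v0) * g⁻¹ ∈ four _ _ hz hv hc := by
      rcases h2 with c | c <;> rw [c]
      exacts [mV v0 (by simp), mul_mem (mV v0 (by simp)) (mV z0 (by simp))]
    rintro _ (rfl | rfl | rfl | rfl)
    · simp [one_mem]
    exacts [a, b, by simpa only [conj_mul, MonoidHom.comp_apply] using mul_mem b a]

theorem Pm.s4 [Finite G] {e : S4 →* G} (h : Pm e) {g : G}
    (h3 : (cj g e.range).relIndex e.range = 3) :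
    (∃ p : ℕ, p.Prime ∧ (p % 16 = 1 ∨ p % 16 = 15) ∧ Nonempty (G ≃* PSL(2, ZMod p))) ∨
      Nonempty (G ≃* PSL(3, ZMod 3)) := by
  obtain ⟨s, s1, s2⟩ := exists_s (k := 3) h3 (map_le_range e (C1 z0))
    (by rw [h.card_map, card_C1]; decide +kernel)
    (by rw [h.card, Nat.card_perm, Nat.card_fin]; rfl)
  have hV := fun g => h.mem_V (g := g) (i := MonoidHom.id _) (fun _ _ c => c) fun m => ⟨m, fun _ => rfl⟩
  simp only [MonoidHom.id_apply] at hV
  obtain ⟨a, a1, ha⟩ := conj_mem_of_mem_N s2 (mem_map_of_mem e (mem_C1.2 (by decide) : v0 ∈ C1 z0))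
  obtain ⟨b, b1, hb⟩ := conj_mem_of_mem_N s2 (mem_map_of_mem e (mem_C1.2 (by decide) : u0 ∈ C1 z0))
  have hz : e (a * b * (a * b)) = s * e z0 * s⁻¹ := by
    simp only [map_mul, ha, hb, conj_mul, vu0, pp0]
  obtain ⟨c, d⟩ := ab_cases a b (mem_C1.1 a1) (mem_C1.1 b1)
    (h.inj (by rw [map_mul, ha, conj_mul, vv0]; simp))
    (h.inj (by rw [map_mul, hb, conj_mul, uu0]; simp))
    fun c => h.ne1 (a := z0) (by decide) (by simpa [c] using hz.symm)
  rw [c, eq_mul_inv_iff_mul_eq] at hz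
  obtain ⟨t, t1, ta, tb⟩ := d.resolve_left fun d =>
    s1 (hV s hz.symm (by rcases d with rfl | rfl <;> simp [← ha]))
  have W : W4 e (e t * s) := by
    refine ⟨h.inj, fun g a b => ?_, ?_, ?_, Or.inl ?_, fun K a b => ?_, fun N a b =>
      h.nsol N a (feit_thompson _ b)⟩
    · obtain ⟨m, rfl⟩ := hV g a (Or.inl (mul_inv_eq_iff_eq_mul.2 b))
      simp only [← map_mul] at a b ⊢
      rcases (by decide : ∀ m : S4, m * z0 = z0 * m → m * v0 = v0 * m →
        m = 1 ∨ m = z0 ∨ m = v0 ∨ m = v0 * z0) m (h.inj a) (h.inj b) with c | c | c | c <;> simp [c]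
    · rw [mul_assoc, ← hz, ← mul_assoc, ← mul_assoc, ← map_mul, ← map_mul, t1]
    · rw [← ta, map_mul, map_mul, ha, map_inv]; group
    · rw [← tb, map_mul, map_mul, hb, map_inv]; group
    · by_contra c
      obtain rfl : K = e.range := (h.max.le_iff.1 a).resolve_left c
      refine s1 ((e.range.mul_mem_cancel_left ⟨t, rfl⟩).1 (h.mem_N le_rfl (Nrm.self _)
        (fun c => h.ne1 (a := z0) (by decide) (mem_bot.1 (c ▸ ⟨z0, rfl⟩)))
        fun x hx => b (conj_mem_cj.2 hx)))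
  obtain ⟨S, ρ, k⟩ := W.exists_cf
  refine k.mc.act.imp (fun hd => ?_) k.iso_sd
  obtain ⟨F, _, _, c, ⟨f⟩⟩ := k.psl2 hd fun _ _ => k.nc_of_max (k.dih_nil hd) h.max
  have h16 : 16 ∣ Nat.card (C1 (e z0)) :=
    (k.mc.card ▸ Nat.mul_dvd_mul_right k.mc.eight 2).trans (card_dvd_of_le k.le)
  have hF : Fintype.card F % 16 = 1 ∨ Fintype.card F % 16 = 15 := by omega
  have hp := prime_card hF (e := f.toMonoidHom.comp e) (f.injective.comp h.inj) (by
    rw [MonoidHom.range_comp]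
    exact (OrderIso.isCoatom_iff f.mapSubgroup _).2 h.max)
  haveI := Fact.mk hp
  exact ⟨_, hp, hF, psl_zmod rfl f⟩

end CfsgH5.Wong
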