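import Cfsg.Agent.H5.Wong13
import Cfsg.Agent.H7.PGL2Spec
import Cfsg.Agent.H5.Sims2

/-! Wong's theorem on subdegree three, part 14: stabiliser `S₄ × 2`, and the theorem. -/

set_option autoImplicit false
set_option linter.style.haveILetI false
set_option linter.unusedSectionVars false

namespace CfsgH5.Wong

open Subgroup CfsgH6 CfsgFT Equiv
open scoped MatrixGroups

universe u

variable {G : Type u} [Group G]

abbrev M42 := S4 × Multiplicative (ZMod 2)

def w0 : M42 := (1, Multiplicative.ofAdd 1)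

def i42 : S4 →* M42 := MonoidHom.inl _ _

/-- extension of a subgroup by an element of order two modulo it -/
def ext2 (D : Subgroup G) (s : G) (hn : s ∈ N D) (h2 : s * s ∈ D) : Subgroup G where
  carrier := {g | g ∈ D ∨ g * s ∈ D}
  one_mem' := Or.inl (one_mem _)
  mul_mem' := by
    have n := fun x (hx : x ∈ D) => conj_mem_of_mem_N (inv_mem hn) hx
    rintro a b (ha | ha) (hb | hb)
    · exact Or.inl (mul_mem ha hb)
    · exact Or.inr (mul_assoc a b s ▸ mul_mem ha hb)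
    · exact Or.inr (by simpa [mul_assoc] using mul_mem ha (n _ hb))
    · exact Or.inl (by simpa [mul_assoc] using mul_mem (mul_mem ha (n _ hb)) (inv_mem h2))
  inv_mem' := by
    rintro a (ha | ha)
    · exact Or.inl (inv_mem ha)
    · exact Or.inr (by simpa [mul_assoc] using mul_mem (conj_mem_of_mem_N hn (inv_mem ha)) h2)

theorem isSquare_conj {t : G} (g : G) (h : IsSquare t) : IsSquare (g * t * g⁻¹) :=
  h.elim fun y e => ⟨g * y * g⁻¹, by rw [conj_mul, e]⟩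

theorem dec_D : ∀ σ : S4, σ * z0 = z0 * σ → ∃ (i : Fin 4) (j : Fin 2), σ = p0 ^ i.1 * v0 ^ j.1 := by
  decide

theorem dec_M : ∀ m : M42, m = i42 m.1 ∨ m = i42 m.1 * w0 := by decide

theorem pow4_M : ∀ σ, σ = z0 ∨ σ = u0 * z0 → ∀ m : M42, m * i42 σ = i42 σ * m → m ^ 4 = 1 := by
  rintro _ (rfl | rfl) <;> decide +kernel

namespace Pm

variable [Finite G] {e : M42 →* G} (h : Pm e)
include h

theorem mem_Cw {g : G} (hg : g * e w0 = e w0 * g) : ∃ m, e m = g :=
  (h.mem_C (by decide) (by decide) hg).imp fun _ c => c.2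

theorem nsq : ¬ IsSquare (e w0) := fun ⟨y, hy⟩ => by
  obtain ⟨m, rfl⟩ := h.mem_Cw (g := y) (by rw [hy, mul_assoc])
  exact (by decide : ∀ m : M42, w0 ≠ m * m) m (h.inj (hy.trans (map_mul ..).symm))

theorem mem_V' {g : G} (h1 : g * e (i42 z0) = e (i42 z0) * g)
    (h2 : g * e (i42 v0) * g⁻¹ = e (i42 v0) ∨ g * e (i42 v0) * g⁻¹ = e (i42 v0) * e (i42 z0)) :
    ∃ m, e m = g :=
  h.mem_V (fun _ _ c => congrArg Prod.fst c) (fun m => ⟨m.1, fun _ => Prod.ext rfl (by simp [i42])⟩) h1 h2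

variable {s : G} (sz : s * e (i42 z0) = e (i42 z0) * s)
  (sv : s * e (i42 v0) * s⁻¹ = e (i42 u0)) (su : s * e (i42 u0) * s⁻¹ = e (i42 v0))
  (sw : s * e w0 * s⁻¹ = e (i42 z0) * e w0)
include sz sv su sw

theorem exists_K (ss : s * s = e (i42 z0)) : ∃ K : Subgroup G, K.index = 2 ∧ e w0 ∉ K ∧
    (∀ y : G, y ^ 16 = 1 → y ^ 8 = 1) ∧ ∀ P ≤ K, IsPGroup 2 P → Nat.card P < 32 := by
  have eq : ∀ {a b}, a = b → e a = e b := fun c => c ▸ rfl
  have al : ∀ (i : Fin 4) (j : Fin 2), s * e (i42 (p0 ^ i.1 * v0 ^ j.1)) * s⁻¹ =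
      e (i42 ((u0 * v0) ^ i.1 * u0 ^ j.1)) := fun i j => by
    simp only [p0, map_mul, map_pow, ← conj_mul, ← conj_pow, sv, su]
  have ww : e w0 * e w0 = 1 := by rw [← map_mul, ← e.map_one]; exact eq (by decide)
  have wc : ∀ m, e w0 * e m = e m * e w0 := fun m => by
    rw [← map_mul, ← map_mul]; exact eq (by revert m; decide)
  have zz' : e (i42 z0) * e (i42 z0) = 1 := zz0 (e.comp i42)
  let D := (C1 z0).map (e.comp i42)
  let T := (C1 (i42 z0)).map e
  have DT : D ≤ T := by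
    rintro _ ⟨σ, hσ, rfl⟩
    exact ⟨_, mem_C1.2 (by rw [← map_mul, mem_C1.1 hσ, map_mul]), rfl⟩
  have wT : e w0 ∈ T := ⟨_, mem_C1.2 (by decide), rfl⟩
  have zD : e (i42 z0) ∈ D := ⟨_, self_mem_C1 _, rfl⟩
  have TD : ∀ g ∈ T, g ∈ D ∨ g * e w0 ∈ D := by
    rintro _ ⟨m, hm, rfl⟩
    have : m.1 ∈ C1 z0 := mem_C1.2 (congrArg Prod.fst (mem_C1.1 hm))
    refine (dec_M m).imp (fun c => ⟨_, this, (eq c).symm⟩) fun c => ⟨_, this, ?_⟩
    rw [c, map_mul, mul_assoc, ww, mul_one]; rfl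
  have nD : s ∈ N D := mem_N_of_conj <| by
    rintro _ ⟨σ, hσ, rfl⟩
    obtain ⟨i, j, rfl⟩ := dec_D σ (mem_C1.1 hσ)
    exact ⟨_, mem_C1.2 (by clear hσ; revert i j; decide), (al i j).symm⟩
  have nT : s ∈ N T := mem_N_of_conj fun g hg => by
    rcases TD g hg with c | c
    · exact DT (conj_mem_of_mem_N nD c)
    · have := DT (conj_mem_of_mem_N nD c)
      rwa [← conj_mul, sw, mul_mem_cancel_right (mul_mem (DT zD) wT)] at this
  have mT : ∀ g, g * e w0 = e w0 * g → g * e (i42 z0) = e (i42 z0) * g → g ∈ T := fun g a b => by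
    obtain ⟨m, rfl⟩ := h.mem_Cw a
    exact ⟨m, mem_C1.2 (h.inj (by simpa only [map_mul] using b)), rfl⟩
  have Tw : ∀ g ∈ T, g * e w0 = e w0 * g := by rintro _ ⟨m, -, rfl⟩; exact (wc m).symm
  have Tz : ∀ g ∈ T, g * e (i42 z0) = e (i42 z0) * g := by
    rintro _ ⟨m, hm, rfl⟩; rw [← map_mul, mem_C1.1 hm, map_mul]
  have T4 : ∀ g ∈ T, g ^ 4 = 1 := by
    rintro _ ⟨m, hm, rfl⟩
    rw [← map_pow, pow4_M z0 (Or.inl rfl) m (mem_C1.1 hm),
      map_one]
  have z1 : e (i42 z0) ≠ 1 := h.ne1 (by decide)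
  have sT : s ∉ T := fun c => z1 (by simpa [Tw s c] using sw.symm)
  let S := ext2 T s nT (ss ▸ DT zD)
  let S₀ := ext2 D s nD (ss ▸ zD)
  have sS : s ∈ S := Or.inr (ss ▸ DT zD)
  have S8 : ∀ g ∈ S, g ^ 8 = 1 := fun g hg => by
    refine (pow_mul g 2 4).trans (T4 _ (hg.elim (pow_mem · 2) fun c => ?_))
    simpa [sq, mul_assoc] using mul_mem (mul_mem c (conj_mem_of_mem_N (inv_mem nT) c))
      (inv_mem (ss ▸ DT zD : s * s ∈ T))
  have pS : IsPGroup 2 S := fun g => ⟨3, Subtype.ext (S8 g g.2)⟩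
  have Sz : ∀ g ∈ S, g * e (i42 z0) = e (i42 z0) * g := fun g hg => hg.elim (Tz g) fun c => by
    have := Tz _ c
    rwa [mul_assoc, sz, ← mul_assoc, ← mul_assoc, mul_left_inj] at this
  have hS : SylIn 2 S ⊤ := sylIn_of_N le_top pS fun y _ hy _ _ => by
    have n := fun g (hg : g ∈ S) => conj_mem_of_mem_N (inv_mem hy) hg
    have yz : y * e (i42 z0) * y⁻¹ = e (i42 z0) := by
      have c : ∀ g ∈ S, y * e (i42 z0) * y⁻¹ * g = g * (y * e (i42 z0) * y⁻¹) := fun g hg => by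
        calc _ = y * (e (i42 z0) * (y⁻¹ * g * y⁻¹⁻¹)) * y⁻¹ := by group
          _ = _ := by rw [← Sz _ (n g hg)]; group
      obtain ⟨m, hm⟩ := h.mem_Cw (c _ (Or.inl wT))
      have c1 := c (e (i42 v0)) (Or.inl ⟨_, mem_C1.2 (by decide), rfl⟩)
      have c2 := c (e (i42 u0)) (Or.inl ⟨_, mem_C1.2 (by decide), rfl⟩)
      have c3 := c s sS
      rw [← hm] at c1 c2 c3 ⊢
      rw [← map_mul, ← map_mul] at c1 c2
      rcases (by decide : ∀ m : M42, m * i42 v0 = i42 v0 * m → m * i42 u0 = i42 u0 * m →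
        m = 1 ∨ m = i42 z0 ∨ m = w0 ∨ m = i42 z0 * w0) m (h.inj c1) (h.inj c2) with
        rfl | rfl | rfl | rfl
      · exact absurd (by simpa using hm.symm) z1
      · rfl
      · exact absurd (mT s c3.symm sz) sT
      · rw [map_mul, ← mul_assoc s, sz, mul_assoc, mul_assoc, mul_right_inj] at c3
        exact absurd (mT s c3.symm sz) sT
    have yz' := mul_inv_eq_iff_eq_mul.1 yz
    have c : ∀ g ∈ S, y * e w0 * y⁻¹ * g * (y * e w0 * y⁻¹)⁻¹ = g ∨
        y * e w0 * y⁻¹ * g * (y * e w0 * y⁻¹)⁻¹ = g * e (i42 z0) := fun g hg => by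
      obtain ⟨k, hk, rfl⟩ : ∃ k ∈ S, g = y * k * y⁻¹ := ⟨_, n g hg, by group⟩
      rw [← cinv, conj_mul, conj_mul, ← yz, conj_mul]
      refine hk.imp (fun d => by rw [← Tw k d, mul_inv_cancel_right]) fun d => ?_
      rw [show e w0 * k = e w0 * (k * s) * s⁻¹ by group, ← Tw _ d, mul_assoc k, mul_assoc k, sw]
      group
    rcases conj_mem_of_mem_N hy (Or.inl wT : e w0 ∈ S) with t | ⟨m, -, hm⟩
    · have t2 : y * e w0 * y⁻¹ * (y * e w0 * y⁻¹) = 1 := by rw [conj_mul, ww]; group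
      have key : ∀ σ ∈ C1 z0, ∀ t, t ∈ C1 (e (i42 z0)) → t * s * t⁻¹ = s ∨ t * s * t⁻¹ = s * e (i42 z0) →
          (t = e (i42 σ) ∨ t * e w0 = e (i42 σ)) → e (i42 σ) * e (i42 σ) = 1 → σ = 1 ∨ σ = z0 := by
        intro σ hσ t tz a b d
        have a' : s * t * s⁻¹ = t ∨ s * t * s⁻¹ = e (i42 z0) * t := a.imp (fun a => by
          rw [← mul_inv_eq_iff_eq_mul.1 a, mul_inv_cancel_right]) fun a => by
            rw [mul_inv_eq_iff_eq_mul, mul_assoc, mul_inv_eq_iff_eq_mul.1 a, sz]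
            simp [← mul_assoc, zz']
        obtain ⟨i, j, rfl⟩ := dec_D σ (mem_C1.1 hσ)
        refine (by decide : ∀ (i : Fin 4) (j : Fin 2), p0 ^ i.1 * v0 ^ j.1 * (p0 ^ i.1 * v0 ^ j.1) = 1 →
          ((u0 * v0) ^ i.1 * u0 ^ j.1 = p0 ^ i.1 * v0 ^ j.1 ∨
          (u0 * v0) ^ i.1 * u0 ^ j.1 = z0 * (p0 ^ i.1 * v0 ^ j.1)) →
          p0 ^ i.1 * v0 ^ j.1 = 1 ∨ p0 ^ i.1 * v0 ^ j.1 = z0) i j
          (congrArg Prod.fst (h.inj ((map_mul ..).trans (d.trans e.map_one.symm)))) ?_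
        have f := al i j
        suffices e (i42 ((u0 * v0) ^ i.1 * u0 ^ j.1)) = e (i42 (p0 ^ i.1 * v0 ^ j.1)) ∨
            e (i42 ((u0 * v0) ^ i.1 * u0 ^ j.1)) = e (i42 (z0 * (p0 ^ i.1 * v0 ^ j.1))) from
          this.imp (fun c => congrArg Prod.fst (h.inj c)) fun c => congrArg Prod.fst (h.inj c)
        rw [← f, map_mul i42 z0, map_mul e (i42 z0)]
        rcases b with b | b <;> rw [← b]
        · exact a'
        · rw [← conj_mul, sw, ← mul_assoc, ← mul_assoc, mul_left_inj, mul_left_inj]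
          rcases a' with a' | a' <;> rw [a']
          · exact Or.inr (mem_C1.1 tz)
          · exact Or.inl (by rw [mul_assoc, mem_C1.1 tz, ← mul_assoc, zz', one_mul])
      rcases TD _ t with ⟨σ, hσ, d⟩ | ⟨σ, hσ, d⟩
      · rcases key σ hσ _ (mem_C1.2 (Tz _ t)) (c s sS) (Or.inl d.symm) (d ▸ t2 :) with rfl | rfl
        · exact absurd (by simpa using d.symm) (h.ne1 (a := w0) (by decide))
        · exact absurd (by simpa using (yz.trans d).symm) (h.ne (a := w0) (b := i42 z0) (by decide))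
      · rcases key σ hσ _ (mem_C1.2 (Tz _ t)) (c s sS) (Or.inr d.symm) (by
          change e (i42 σ) = _ at d
          rw [d, (show Commute _ _ from (Tw _ t).symm).mul_mul_mul_comm, t2, ww, one_mul]) with rfl | rfl
        · rw [map_one, eq_comm, mul_eq_one_iff_eq_inv, inv_eq_self ww] at d
          exact Or.inl (mT y (mul_inv_eq_iff_eq_mul.1 d) yz')
        · refine (mul_mem_cancel_left sS).1 (Or.inl (mT _ (mul_inv_eq_iff_eq_mul.1 ?_)
            (by rw [mul_assoc, yz', ← mul_assoc, sz, mul_assoc])))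
          change e (i42 z0) = _ at d
          rw [show s * y * e w0 * (s * y)⁻¹ = s * (y * e w0 * y⁻¹ * e w0) * s⁻¹ * (s * e w0 * s⁻¹)⁻¹ by
            group, ← d, sw, sz, mul_inv_rev, inv_eq_self ww, inv_eq_self zz', wc]
          simp [← mul_assoc, zz']
    · have := c (e (i42 v0)) (Or.inl ⟨_, mem_C1.2 (by decide), rfl⟩)
      rw [show y * e w0 * y⁻¹ = e m * s⁻¹ by rw [hm]; group, ← su,
        show ∀ a, e m * s⁻¹ * (s * a * s⁻¹) * (e m * s⁻¹)⁻¹ = e m * a * (e m)⁻¹ by intro; group,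
        su] at this
      simp only [← map_mul e, ← map_inv, h.inj.eq_iff] at this
      exact absurd this ((by decide : ∀ m : M42, ¬ (m * i42 u0 * m⁻¹ = i42 v0 ∨
        m * i42 u0 * m⁻¹ = i42 v0 * i42 z0)) m)
  have wS₀ : ∀ g, g * e w0 * g⁻¹ ∉ S₀ := fun g c => by
    have t2 : g * e w0 * g⁻¹ * (g * e w0 * g⁻¹) = 1 := by rw [conj_mul, ww]; group
    rcases c with ⟨σ, hσ, d⟩ | ⟨σ, hσ, d⟩
    · refine h.nsq ?_
      suffices IsSquare (g * e w0 * g⁻¹) by simpa [mul_assoc] using isSquare_conj g⁻¹ this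
      have a : IsSquare (e (i42 z0)) := ⟨_, ss.symm⟩
      have b : IsSquare (e (i42 u0)) := sv ▸ xzx (e.comp i42) ▸ isSquare_conj _ (isSquare_conj _ a)
      rw [← d, ← map_mul, ← map_one (e.comp i42)] at t2
      rw [← d]
      rcases (by decide : ∀ σ : S4, σ * σ = 1 → σ = 1 ∨ ∃ τ, σ = τ * z0 * τ⁻¹ ∨ σ = τ * u0 * τ⁻¹) σ
        (congrArg Prod.fst (h.inj t2)) with rfl | ⟨τ, rfl | rfl⟩
      · simp
      all_goals rw [map_mul, map_mul, map_inv]
      exacts [isSquare_conj _ a, isSquare_conj _ b]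
    · obtain ⟨i, j, rfl⟩ := dec_D σ (mem_C1.1 hσ)
      have := al i j
      change e (i42 _) = _ at d
      refine (by decide : ∀ (i : Fin 4) (j : Fin 2),
        (u0 * v0) ^ i.1 * u0 ^ j.1 * (p0 ^ i.1 * v0 ^ j.1) ≠ z0) i j (congrArg Prod.fst
        (h.inj (a₁ := i42 _) (a₂ := i42 z0) ?_))
      rw [map_mul, map_mul, ← this, d, ← ss]
      calc _ = s * (g * e w0 * g⁻¹ * (g * e w0 * g⁻¹)) * s := by group
        _ = _ := by rw [t2, mul_one]
  obtain ⟨K, hK, wK⟩ := thompson hS (S₀ := S₀) (fun g hg => hg.imp (DT ·) (DT ·))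
    (relIndex_eq_two_of (y := e w0) (Or.inl wT) (by simpa using wS₀ 1) fun g hg c =>
      hg.imp (fun d => Tw g d ▸ (TD g d).resolve_left fun f => c (Or.inl f))
        fun d => mul_assoc _ g s ▸ Tw _ d ▸ (TD _ d).resolve_left fun f => c (Or.inr f)) ww wS₀
  refine ⟨K, hK, wK, fun y hy => ?_, fun P PK hP => ?_⟩
  · obtain ⟨k, -, hk⟩ := hS.exists_le_cj le_top (isPGroup_zpowers_of_pow (k := 4) hy)
    obtain ⟨y, a, rfl⟩ := mem_cj'.1 (hk (mem_zpowers y))
    rw [conj_pow, S8 y a]; group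
  · have cS : Nat.card S = 32 := by
      rw [← card_mul_relIndex (X := T) fun g hg => Or.inl hg, relIndex_eq_two_of sS sT fun g hg c =>
        by simpa [mul_assoc] using conj_mem_of_mem_N nT (hg.resolve_left c), h.card_map, card_C1]
      decide +kernel
    haveI := normal_of_index_eq_two hK
    obtain ⟨k, -, hk⟩ := hS.exists_le_cj le_top hP
    rw [← cS, ← card_cj k S]
    refine card_lt_of_lt (lt_of_le_of_ne hk fun c => wK ?_)
    have d : k * e w0 * k⁻¹ ∈ K := PK (c ▸ conj_mem_cj.2 (Or.inl wT : e w0 ∈ S))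
    exact inv_mul_cancel_left k (e w0) ▸ this.mem_comm d

theorem core {K : Subgroup G} (hK : K.index = 2) (wK : e w0 ∉ K) (sK : s ∈ K)
    (h16 : ∀ y : G, y ^ 16 = 1 → y ^ 8 = 1) (h32 : ∀ P ≤ K, IsPGroup 2 P → Nat.card P < 32) :
    K.Normal ∧ K.index = 2 ∧ centralizer (K : Set G) = ⊥ ∧ Nonempty (K ≃* PSL(3, ZMod 3)) := by
  haveI hN := normal_of_index_eq_two hK
  have eq : ∀ {a b}, a = b → e a = e b := fun c => c ▸ rfl
  have ww : e w0 * e w0 = 1 := by rw [← map_mul, ← e.map_one]; exact eq (by decide)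
  have wc : ∀ m, e w0 * e m = e m * e w0 := fun m => by
    rw [← map_mul, ← map_mul]; exact eq (by revert m; decide)
  have zz' : e (i42 z0) * e (i42 z0) = 1 := zz0 (e.comp i42)
  have z1 : e (i42 z0) ≠ 1 := h.ne1 (by decide)
  have s1 : s ∉ e.range := fun ⟨m, c⟩ => z1 (by simpa [← c, ← wc] using sw.symm)
  have zK : e (i42 z0) ∈ K := pp0 (e.comp i42) ▸ mul_self_mem_of_index_two hK _
  have rK : (e.comp i42).range ≤ K :=
    range_le_of_normal _ (sv ▸ xzx (e.comp i42) ▸ hN.conj_mem _ (hN.conj_mem _ zK _) _)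
  have HK : ∀ m, e m ∈ K → ∃ σ, e (i42 σ) = e m := fun m hm =>
    ⟨m.1, eq ((dec_M m).resolve_right fun c => wK ((K.mul_mem_cancel_left (rK ⟨m.1, rfl⟩)).1
      (by rwa [c, map_mul] at hm))).symm⟩
  let e' : S4 →* K := (e.comp i42).codRestrict K fun σ => rK ⟨σ, rfl⟩
  have nR : Nrm e.range (e.comp i42).range := by
    rintro _ ⟨m, rfl⟩ _ ⟨σ, rfl⟩
    exact ⟨m.1 * σ * m.1⁻¹, by
      simp only [MonoidHom.comp_apply, ← map_inv, ← map_mul e]
      exact eq (Prod.ext rfl (by simp [i42]))⟩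
  have cK := h.cent K fun g hg => h.mem_V' (hg _ zK) (Or.inl (mul_inv_eq_iff_eq_mul.2
    (hg _ (rK ⟨v0, rfl⟩))))
  have W : W4 e' ⟨s, sK⟩ := by
    refine ⟨fun a b c => congrArg Prod.fst (h.inj (congrArg Subtype.val c)), fun g a b => ?_,
      Subtype.ext sz, Subtype.ext sv, Or.inl (Subtype.ext su), fun L a b => ?_,
      fun N a b => h.nsol2 hK N a (feit_thompson _ b)⟩
    · obtain ⟨m, hm⟩ := h.mem_V' (congrArg Subtype.val a)
        (Or.inl (mul_inv_eq_iff_eq_mul.2 (congrArg Subtype.val b)))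
      obtain ⟨σ, hσ⟩ := HK m (hm ▸ g.2)
      obtain rfl : g = e' σ := Subtype.ext (hσ.trans hm).symm
      have inj : Function.Injective e' := fun a b c =>
        congrArg Prod.fst (h.inj (congrArg Subtype.val c))
      simp only [← map_mul] at a b ⊢
      rcases (by decide : ∀ m : S4, m * z0 = z0 * m → m * v0 = v0 * m →
        m = 1 ∨ m = z0 ∨ m = v0 ∨ m = v0 * z0) σ (inj a) (inj b) with c | c | c | c <;> simp [c]
    · have n : Nrm e.range ((e.comp i42).range ⊔ cj s (e.comp i42).range) := by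
        rintro _ ⟨m, rfl⟩
        have n1 := Nrm.self ((e.comp i42).range ⊔ cj s (e.comp i42).range) _
          (mem_sup_left ⟨m.1, rfl⟩)
        refine (dec_M m).elim (fun c => c ▸ n1) fun c x hx => ?_
        rw [c, map_mul, show ∀ a b : G, a * b * x * (a * b)⁻¹ = a * (b * x * b⁻¹) * a⁻¹ by
          intros; group]
        refine n1 _ (conj_mem_of_mem_N (CfsgFT.mem_N.2 ?_) hx)
        have : e w0 * s = s * e (i42 z0 * w0) := by
          rw [map_mul, ← mul_assoc, sz, ← mul_inv_eq_iff_eq_mul.1 (show e (i42 z0) * s * e w0 * s⁻¹ =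
            e w0 by rw [mul_assoc _ s, mul_assoc, sw, ← mul_assoc, zz', one_mul])]
        rw [cj_sup, cj_cj, this, ← cj_cj, nR.cj_eq ⟨_, rfl⟩, nR.cj_eq ⟨_, rfl⟩]
      have le : (e.comp i42).range ⊔ cj s (e.comp i42).range ≤ L.map K.subtype := by
        refine sup_le ?_ fun x hx => ?_
        · rintro _ ⟨σ, rfl⟩
          exact ⟨_, a ⟨σ, rfl⟩, rfl⟩
        · obtain ⟨_, ⟨σ, rfl⟩, rfl⟩ := mem_cj'.1 hx
          exact ⟨_, b (conj_mem_cj.2 ⟨σ, rfl⟩), rfl⟩
      rcases h.max.le_iff.1 (le_sup_left (b := (e.comp i42).range ⊔ cj s (e.comp i42).range)) with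
        c | c
      · refine (eq_top_iff' _).2 fun g => ?_
        obtain ⟨_, ⟨m, rfl⟩, k, hk, d⟩ := (mem_sup_nrm n).1 (c ▸ mem_top g.1)
        obtain ⟨σ, hσ⟩ := HK m ((mul_mem_cancel_right (map_subtype_le L (le hk))).1 (d ▸ g.2))
        obtain ⟨g', a', b'⟩ := le (mul_mem (mem_sup_left ⟨σ, hσ⟩) hk)
        rwa [show g = g' from Subtype.ext (d.trans b'.symm)]
      · refine absurd (h.mem_N (X := (e.comp i42).range) (fun _ ⟨σ, d⟩ => ⟨_, d⟩) nR
          (fun c => z1 (mem_bot.1 (c ▸ ⟨z0, rfl⟩))) fun x hx => ?_) s1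
        obtain ⟨m, hm⟩ : s * x * s⁻¹ ∈ e.range := c ▸ mem_sup_right (mem_sup_right (conj_mem_cj.2 hx))
        exact hm ▸ HK m (hm ▸ hN.conj_mem _ (rK hx) s)
  obtain ⟨S, ρ, k⟩ := W.exists_cf
  refine ⟨hN, hK, eq_bot_iff.2 fun c hc => cK c fun t ht => (hc t ht).symm,
    k.iso_sd (k.mc.act.resolve_left fun hd => ?_)⟩
  have hP := k.dih_nil hd
  have od : ∀ y : K, Od (e' z0) y → y = 1 := fun y hy => by
    have a : e (i42 v0) * y * (e (i42 v0))⁻¹ = y⁻¹ := congrArg Subtype.val (k.inv_v hP hy)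
    have b : e w0 * y * (e w0)⁻¹ = y⁻¹ := by
      refine conj_eq_inv_of_fpf (D := hP.compl.map K.subtype) ww ?_ ?_
        ⟨y, (Cf.mem_O hP).2 hy, rfl⟩
      · rintro _ ⟨d, hd, rfl⟩
        have := (Cf.mem_O hP).1 hd
        refine ⟨⟨_, hN.conj_mem _ d.2 (e w0)⟩, (Cf.mem_O hP).2 ⟨Subtype.ext ?_, ?_⟩, rfl⟩
        · exact ((show Od (e (i42 z0)) d.1 from ⟨congrArg Subtype.val this.1,
            by simpa using this.2⟩).conj' (wc _)).1
        · rw [← orderOf_coe, orderOf_conj', orderOf_coe]; exact this.2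
      · rintro _ ⟨d, hd, rfl⟩ c
        have := (Cf.mem_O hP).1 hd
        obtain ⟨m, hm⟩ := h.mem_Cw c.symm
        refine eq_one_of_coprime_of_pow (p := 2) (k := 2) (by simpa using this.2) ?_
        have d1 : (d : G) * e (i42 z0) = e (i42 z0) * d := congrArg Subtype.val this.1
        change e m = d at hm
        rw [← hm, ← map_mul, ← map_mul] at d1
        change (d : G) ^ 4 = 1
        rw [← hm, ← map_pow, pow4_M z0 (Or.inl rfl) m (h.inj d1), map_one]
    have c := comm_of_inv_inv a b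
    have x2 : e (i42 x0) * s * e w0 * (e (i42 x0) * s)⁻¹ = e (i42 v0) * e w0 := by
      rw [show ∀ a b c : G, a * b * c * (a * b)⁻¹ = a * (b * c * b⁻¹) * a⁻¹ by intros; group, sw]
      simp only [← map_mul, ← map_inv]
      exact eq (by decide)
    have x3 : e (i42 x0) * s * e (i42 (u0 * z0)) * (e (i42 x0) * s)⁻¹ = e (i42 z0) := by
      rw [show ∀ a b c : G, a * b * c * (a * b)⁻¹ = a * (b * c * b⁻¹) * a⁻¹ by intros; group,
        map_mul, map_mul, ← conj_mul (b := s), su, sz, mul_inv_cancel_right]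
      simp only [← map_mul, ← map_inv]
      exact eq (by decide)
    generalize e (i42 x0) * s = t at x2 x3
    obtain ⟨m, hm⟩ := h.mem_Cw (g := t⁻¹ * y * t) (by
      calc _ = t⁻¹ * (y * (t * e w0 * t⁻¹)) * t := by group
        _ = _ := by rw [x2, ← c, ← x2]; group)
    have d1 : (y : G) * e (i42 z0) = e (i42 z0) * y := congrArg Subtype.val hy.1
    have d2 : e m * e (i42 (u0 * z0)) = e (i42 (u0 * z0)) * e m := by
      rw [hm]
      calc _ = t⁻¹ * (y * (t * e (i42 (u0 * z0)) * t⁻¹)) * t := by group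
        _ = _ := by rw [x3, d1, ← x3]; group
    rw [← map_mul, ← map_mul] at d2
    refine eq_one_of_coprime_of_pow (p := 2) (k := 2) hy.2 (Subtype.ext ?_)
    change (y : G) ^ 4 = 1
    rw [show (y : G) = t * e m * t⁻¹ by rw [hm]; group, conj_pow, ← map_pow,
      pow4_M _ (Or.inr rfl) m (h.inj d2), map_one]
    group
  obtain ⟨F, _, _, c, ⟨f⟩⟩ := k.psl2 hd fun a _ a1 _ ha _ => absurd (od a ha) a1
  have c16 : Nat.card (C1 (e' z0)) = 16 := by
    rw [k.syl.eq_of_le le_top (isPGroup_of_coprime_eq_one Nat.prime_two fun x a b =>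
      od x ⟨mem_C1.1 a, b⟩) k.le]
    have a := h32 _ (map_subtype_le S) (k.syl.isPGroup.map _)
    rw [card_map_of_injective K.subtype_injective] at a
    have b : 16 ∣ Nat.card S := k.mc.card ▸ Nat.mul_dvd_mul_right k.mc.eight 2
    have := card_pos S
    omega
  rw [c16] at c
  rcases c with c | c
  · haveI : Fact (Nat.Prime 17) := ⟨by norm_num⟩
    obtain ⟨f⟩ := psl_zmod c f
    obtain ⟨f⟩ := pgl_of_ne_top K f cK fun c => wK (c ▸ mem_top _)
    obtain ⟨y, hy⟩ := CfsgH7.exists_pgl2_orderOf_div (K := ZMod 17) (4 : ZMod 17) 3 3 1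
      (by clear f; decide +revert) one_ne_zero (by norm_num) (by norm_num)
    rw [div_one, orderOf_eq_orderOf_iff] at hy
    have := h16 (f.symm y) (by rw [← map_pow, (hy 16).2 (by clear f hy; decide +revert), map_one])
    rw [← map_pow, map_eq_one_iff _ f.symm.injective, hy] at this
    exact absurd this (by clear f hy this; decide +revert)
  · obtain ⟨p, _, n, hp, hn⟩ := FiniteField.card' F
    have a : ∀ q, q.Prime → q ∣ 15 → q = p := fun q hq d =>
      (Nat.prime_dvd_prime_iff_eq hq hp).1 (hq.dvd_of_dvd_pow (n := n) (by rwa [← hn, show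
        Fintype.card F = 15 by omega]))
    exact absurd ((a 3 Nat.prime_three (by norm_num)).trans (a 5 Nat.prime_five (by norm_num)).symm)
      (by norm_num)

theorem core' (ss : s * s = e (i42 z0)) : ∃ K : Subgroup G, K.Normal ∧ K.index = 2 ∧
    centralizer (K : Set G) = ⊥ ∧ Nonempty (K ≃* PSL(3, ZMod 3)) := by
  obtain ⟨K, hK, wK, a, b⟩ := h.exists_K sz sv su sw ss
  have wc : ∀ m t, s * e w0 * e m * (s * e w0)⁻¹ = t ↔ s * e m * s⁻¹ = t := fun m t => by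
    rw [mul_assoc s, ← map_mul, (by decide : ∀ m, w0 * m = m * w0), map_mul]; group
  by_cases c : s ∈ K
  · exact ⟨K, h.core sz sv su sw hK wK c a b⟩
  · exact ⟨K, h.core (mul_inv_eq_iff_eq_mul.1 ((wc _ _).2 (mul_inv_eq_iff_eq_mul.2 sz)))
      ((wc _ _).2 sv) ((wc _ _).2 su) ((wc _ _).2 sw) hK wK
      ((mul_mem_iff_of_index_two hK).2 (by simp [c, wK])) a b⟩

omit sz sv su sw in
theorem s42_aux (s1 : s ∉ e.range) (sz : s * e (i42 z0) = e (i42 z0) * s)
    (sw : s * e w0 * s⁻¹ = e (i42 z0) * e w0) {a : S4} {b : M42} (ha : e (i42 a) = s * e (i42 v0) * s⁻¹)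
    (hb : e b = s * e (i42 u0) * s⁻¹) {t : S4} (t1 : t * z0 = z0 * t) (ta : t * a * t⁻¹ = u0)
    (tb : t * b.1 * t⁻¹ = v0) : ∃ K : Subgroup G, K.Normal ∧ K.index = 2 ∧
    centralizer (K : Set G) = ⊥ ∧ Nonempty (K ≃* PSL(3, ZMod 3)) := by
  have eq : ∀ {a b}, a = b → e a = e b := fun c => c ▸ rfl
  have cj : ∀ m n k, e n = s * e m * s⁻¹ → i42 t * n * (i42 t)⁻¹ = k →
      e (i42 t) * s * e m * (e (i42 t) * s)⁻¹ = e k := fun m n k c d => by
    rw [← d, map_mul, map_mul, c, map_inv]; group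
  have tz : i42 t * i42 z0 * (i42 t)⁻¹ = i42 z0 := by
    rw [← map_mul, t1, map_mul, mul_inv_cancel_right]
  have c1 := mul_inv_eq_iff_eq_mul.1 (cj _ _ _ (by rw [sz, mul_inv_cancel_right]) tz)
  have c2 := cj _ _ (i42 u0) ha (by rw [← map_inv, ← map_mul, ← map_mul, ta])
  have c3 := (cj _ _ (i42 z0 * w0) ((map_mul ..).trans sw.symm) (by
    rw [← mul_assoc, mul_assoc _ w0, (by decide : ∀ m, w0 * m = m * w0), ← mul_assoc, tz])).trans
      (map_mul ..)
  have c4 : e (i42 t) * s * e (i42 u0) * (e (i42 t) * s)⁻¹ = e (i42 v0) := by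
    refine cj _ _ _ hb ((dec_M _).elim (fun c => c.trans (congrArg i42 tb)) fun c => absurd ?_ h.nsq)
    have a1 : IsSquare (e (i42 t * b * (i42 t)⁻¹)) := by
      rw [← cj _ _ _ hb rfl, ← c2]
      exact isSquare_conj _ (isSquare_conj _ (xzx (e.comp i42) ▸
        isSquare_conj _ ⟨_, (pp0 (e.comp i42)).symm⟩))
    rw [c, show (i42 t * b * (i42 t)⁻¹).1 = v0 from tb, (by decide : i42 v0 * w0 =
      i42 x0 * (i42 z0 * w0) * (i42 x0)⁻¹), map_mul, map_mul, map_mul, ← sw, map_inv] at a1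
    simpa [mul_assoc] using isSquare_conj s⁻¹ (isSquare_conj (e (i42 x0))⁻¹ a1)
  have s1' : e (i42 t) * s ∉ e.range := fun c => s1 ((e.range.mul_mem_cancel_left ⟨_, rfl⟩).1 c)
  generalize e (i42 t) * s = s at *
  have zz' : e (i42 z0) * e (i42 z0) = 1 := zz0 (e.comp i42)
  have ww : e w0 * e w0 = 1 := by rw [← map_mul, ← e.map_one]; exact eq (by decide)
  have q : ∀ x, s * s * x * (s * s)⁻¹ = s * (s * x * s⁻¹) * s⁻¹ := fun x => by group
  obtain ⟨m, hm⟩ := h.mem_Cw (g := s * s) (mul_inv_eq_iff_eq_mul.1 (by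
    rw [q, c3, ← conj_mul, c3, c1, mul_inv_cancel_right, ← mul_assoc, zz', one_mul]))
  have d1 : m * i42 v0 = i42 v0 * m := h.inj (by
    rw [map_mul, map_mul, hm, ← mul_inv_eq_iff_eq_mul, q, c2, c4])
  have d2 : m * i42 u0 = i42 u0 * m := h.inj (by
    rw [map_mul, map_mul, hm, ← mul_inv_eq_iff_eq_mul, q, c4, c2])
  have d3 : s * e m = e m * s := by rw [hm, mul_assoc]
  rcases (by decide : ∀ m : M42, m * i42 v0 = i42 v0 * m → m * i42 u0 = i42 u0 * m →
    m = 1 ∨ m = i42 z0 ∨ m = w0 ∨ m = i42 z0 * w0) m d1 d2 with rfl | rfl | rfl | rfl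
  · have wc : ∀ m t, s * e w0 * e m * (s * e w0)⁻¹ = t ↔ s * e m * s⁻¹ = t := fun m t => by
      rw [mul_assoc s, ← map_mul, (by decide : ∀ m, w0 * m = m * w0), map_mul]; group
    refine h.core' (mul_inv_eq_iff_eq_mul.1 ((wc _ _).2 (mul_inv_eq_iff_eq_mul.2 c1)))
      ((wc _ _).2 c2) ((wc _ _).2 c4) ((wc _ _).2 c3) ?_
    rw [show s * e w0 * (s * e w0) = s * e w0 * s⁻¹ * (s * s) * e w0 by group, c3, ← hm, map_one,
      mul_one, mul_assoc, ww, mul_one]
  · exact h.core' c1 c2 c4 c3 hm.symm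
  · exact absurd (h.mem_Cw d3) s1'
  · rw [map_mul, ← mul_assoc, c1, mul_assoc, mul_assoc, mul_right_inj] at d3
    exact absurd (h.mem_Cw d3) s1'

omit sz sv su sw in
set_option synthInstance.maxSize 1000 in
theorem s42 {g : G} (h3 : (cj g e.range).relIndex e.range = 3) : ∃ K : Subgroup G, K.Normal ∧
    K.index = 2 ∧ centralizer (K : Set G) = ⊥ ∧ Nonempty (K ≃* PSL(3, ZMod 3)) := by
  obtain ⟨s, s1, s2⟩ := exists_s (k := 4) h3 (map_le_range e (C1 (i42 z0)))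
    (by rw [h.card_map, card_C1]; decide +kernel)
    (by rw [h.card, Nat.card_eq_fintype_card]; decide +kernel)
  have n : ∀ m, m * i42 z0 = i42 z0 * m → ∃ k, k.1 * z0 = z0 * k.1 ∧ e k = s * e m * s⁻¹ :=
    fun m hm => (conj_mem_of_mem_N s2 (mem_map_of_mem e (mem_C1.2 hm))).imp fun k c =>
      ⟨congrArg Prod.fst (mem_C1.1 c.1), c.2⟩
  obtain ⟨a, a1, ha⟩ := n (i42 v0) (by decide)
  obtain ⟨b, b1, hb⟩ := n (i42 u0) (by decide)
  obtain ⟨c, c1, hc⟩ := n w0 (by decide)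
  have mu : ∀ {a b m k}, e a = s * e m * s⁻¹ → e b = s * e k * s⁻¹ → e (a * b) = s * e (m * k) * s⁻¹ :=
    fun h1 h2 => by rw [map_mul, map_mul, h1, h2, conj_mul]
  have on : ∀ {a m}, e a = s * e m * s⁻¹ → (a = 1 ↔ m = 1) := fun h1 => by
    rw [← map_eq_one_iff e h.inj, h1, conj_eq_one_iff, map_eq_one_iff e h.inj]
  have cm : ∀ {a b m k}, e a = s * e m * s⁻¹ → e b = s * e k * s⁻¹ → m * k = k * m →
      a * b = b * a := fun h1 h2 d => h.inj (by rw [mu h1 h2, mu h2 h1, d])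
  have hz := mu (mu ha hb) (mu ha hb)
  have sq : ∀ m : M42, m * m = i42 (m.1 * m.1) := by decide
  obtain ⟨d1, d2⟩ := ab_cases a.1 b.1 a1 b1 (congrArg Prod.fst ((on (mu ha ha)).2 (by decide)))
    (congrArg Prod.fst ((on (mu hb hb)).2 (by decide))) fun d => absurd ((on hz).1 (by
      rw [sq, show (a * b).1 * (a * b).1 = 1 from d, map_one])) (by decide)
  rw [sq, show (a * b).1 * (a * b).1 = z0 from d1, (by decide : i42 v0 * i42 u0 * (i42 v0 * i42 u0) =
    i42 z0)] at hz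
  have sz := (mul_inv_eq_iff_eq_mul.1 hz.symm)
  have sw : s * e w0 * s⁻¹ = e (i42 z0) * e w0 := by
    have e1 : c.1 * a.1 = a.1 * c.1 := congrArg Prod.fst (cm hc ha (by decide))
    have e2 : c.1 * b.1 = b.1 * c.1 := congrArg Prod.fst (cm hc hb (by decide))
    have e3 : c.1 = 1 ∨ c.1 = z0 := (by decide +kernel : ∀ a, a * z0 = z0 * a → a * a = 1 →
      ∀ b, b * z0 = z0 * b → a * b * (a * b) = z0 → ∀ c, c * a = a * c → c * b = b * c →
      c * c = 1 → c = 1 ∨ c = z0) _ a1 (congrArg Prod.fst ((on (mu ha ha)).2 (by decide))) _ b1 d1 _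
      e1 e2 (congrArg Prod.fst ((on (mu hc hc)).2 (by decide)))
    rcases (by decide : ∀ c : M42, c.1 = 1 ∨ c.1 = z0 →
      c = 1 ∨ c = i42 z0 ∨ c = w0 ∨ c = i42 z0 * w0) c e3 with rfl | rfl | rfl | rfl
    · exact absurd ((on hc).1 rfl) (by decide)
    · exact absurd (by simpa using hz.symm.trans hc) (h.ne (a := i42 z0) (b := w0) (by decide))
    · exact absurd (h.mem_Cw (mul_inv_eq_iff_eq_mul.1 hc.symm)) s1
    · rw [← hc, map_mul]
  obtain ⟨t, t1, ta, tb⟩ := d2.resolve_left fun d => by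
    rcases dec_M a with f | f
    · refine s1 (h.mem_V' sz ?_)
      rw [← ha, f, ← map_mul, ← map_mul]
      exact d.imp (fun d => by rw [d]) fun d => by rw [d]
    · obtain ⟨τ, hτ⟩ := (by decide : ∀ σ, σ = v0 ∨ σ = v0 * z0 →
        ∃ τ, i42 σ * w0 = i42 τ * (i42 z0 * w0) * (i42 τ)⁻¹) _ d
      have a1 : IsSquare (e a) := ha ▸ isSquare_conj _ (xzx (e.comp i42) ▸
        isSquare_conj _ ⟨_, (pp0 (e.comp i42)).symm⟩)
      rw [f, hτ, map_mul, map_mul, map_mul, ← sw, map_inv] at a1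
      exact h.nsq (by simpa [mul_assoc] using isSquare_conj s⁻¹ (isSquare_conj (e (i42 τ))⁻¹ a1))
  rcases dec_M a with f | f
  · exact h.s42_aux s1 sz sw (f ▸ ha) hb t1 ta tb
  let θ : M42 →* M42 := MonoidHom.mk' (fun m => if Perm.sign m.1 = 1 then m else m * w0)
    (by decide +kernel)
  have θ2 : ∀ m, θ (θ m) = m := by decide +kernel
  have r : (e.comp θ).range = e.range := by
    rw [MonoidHom.range_comp, MonoidHom.range_eq_top.2 fun m => ⟨_, θ2 m⟩, MonoidHom.range_eq_map]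
  have h' : Pm (e.comp θ) := ⟨h.inj.comp (Function.LeftInverse.injective θ2), r ▸ h.max,
    r ▸ h.cf, h.ins, h.sol⟩
  have θz : θ (i42 z0) = i42 z0 := by decide
  have θw : θ w0 = w0 := by decide
  refine h'.s42_aux (r ▸ s1) (by simpa [θz] using sz) (by simpa [θz, θw] using sw) (a := a.1)
    (b := θ (b * i42 z0 * w0)) ?_ ?_ (t := u0 * t) ((by decide +kernel : ∀ t, t * z0 = z0 * t → u0 * t * z0 = z0 * (u0 * t)) t t1)
    ((by decide +kernel : ∀ t a, t * a * t⁻¹ = u0 → u0 * t * a * (u0 * t)⁻¹ = u0) t _ ta) ?_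
  · rw [MonoidHom.comp_apply, MonoidHom.comp_apply, (by decide : θ (i42 v0) = i42 v0), ← ha, f]
    exact congrArg e ((by decide +kernel : ∀ t a, t * a * t⁻¹ = u0 → θ (i42 a) = i42 a * w0) _ _ ta)
  · rw [MonoidHom.comp_apply, MonoidHom.comp_apply, θ2, (by decide : θ (i42 u0) = i42 u0 * w0),
      mul_assoc, map_mul, map_mul, map_mul, hb, ← sw, conj_mul]
  · rw [(by decide +kernel : ∀ b, (θ (b * i42 z0 * w0)).1 = b.1 * z0)]
    exact (by decide +kernel : ∀ t, t * z0 = z0 * t → ∀ b, t * b * t⁻¹ = v0 →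
      u0 * t * (b * z0) * (u0 * t)⁻¹ = v0) t t1 _ tb

end Pm

theorem wong [Finite G] (ins : ¬ Group.IsSolvable G) {H : Subgroup G} (hmax : IsCoatom H)
    (hcf : ∀ N : Subgroup G, N.Normal → N ≤ H → N = ⊥) (g : G) (h3 : (cj g H).relIndex H = 3) :
    Nonempty (G ≃* alternatingGroup (Fin 5)) ∨ Nonempty (G ≃* Perm (Fin 5)) ∨
      Nonempty (G ≃* GL (Fin 2) (ZMod 7) ⧸ center (GL (Fin 2) (ZMod 7))) ∨
      Nonempty (G ≃* PSL(2, ZMod 11)) ∨ Nonempty (G ≃* PSL(2, ZMod 13)) ∨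
      (∃ p : ℕ, p.Prime ∧ (p % 16 = 1 ∨ p % 16 = 15) ∧ Nonempty (G ≃* PSL(2, ZMod p))) ∨
      Nonempty (G ≃* PSL(3, ZMod 3)) ∨ ∃ N : Subgroup G, N.Normal ∧ N.index = 2 ∧
        centralizer (N : Set G) = ⊥ ∧ Nonempty (N ≃* PSL(3, ZMod 3)) := by
  have key : ∀ {M : Type} [Group M] [Fintype M] (a b : ℕ), Fintype.card M = 2 ^ a * 3 ^ b →
      (H ≃* M) → ∃ e : M →* G, Pm e ∧ (cj g e.range).relIndex e.range = 3 := by
    intro M _ _ a b c f
    have r : (H.subtype.comp f.symm.toMonoidHom).range = H := by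
      rw [MonoidHom.range_comp, MonoidHom.range_eq_top.2 f.symm.surjective, ← MonoidHom.range_eq_map,
        range_subtype]
    exact ⟨_, ⟨H.subtype_injective.comp f.symm.injective, r.symm ▸ hmax, r.symm ▸ hcf, ins,
      solv_of_card a b (Nat.card_eq_fintype_card.trans c)⟩, r.symm ▸ h3⟩
  rcases sims_wong hmax hcf g h3 with ⟨⟨f⟩⟩ | ⟨⟨f⟩⟩ | ⟨⟨f⟩⟩ | ⟨⟨f⟩⟩ | ⟨⟨f⟩⟩
  · obtain ⟨e, h, -⟩ := key 0 1 (by decide) f
    refine Or.inl (h.small (a := Multiplicative.ofAdd 1) (by decide) (by decide) (by decide)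
      (fun m _ => ?_) (by rw [Nat.card_eq_fintype_card]; decide))
    obtain ⟨i, rfl⟩ := (by decide : ∀ m : Multiplicative (ZMod 3), ∃ i : Fin 3,
      Multiplicative.ofAdd 1 ^ i.1 = m) m
    exact pow_mem (mem_zpowers _) _
  · obtain ⟨e, h, -⟩ := key 1 1 (by decide) f
    refine Or.inl (h.small (a := swap 0 1 * swap 1 2) (by decide) (by decide) (by decide)
      (fun m hm => ?_) (by rw [Nat.card_eq_fintype_card]; decide))
    obtain ⟨i, rfl⟩ := (by decide : ∀ m : Perm (Fin 3), m * (swap 0 1 * swap 1 2) =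
      swap 0 1 * swap 1 2 * m → ∃ i : Fin 3, (swap 0 1 * swap 1 2) ^ i.1 = m) m hm
    exact pow_mem (mem_zpowers _) _
  · obtain ⟨e, h, h3⟩ := key 2 1 (by decide) f
    exact .inr ((h.d12 h3).imp_right (Or.imp_right (Or.imp_right .inl)))
  · obtain ⟨e, h, h3⟩ := key 3 1 (by decide +kernel) f
    exact .inr (.inr (.inr (.inr (.inr ((h.s4 h3).imp_right .inl)))))
  · obtain ⟨e, h, h3⟩ := key 4 1 (by decide +kernel) f
    exact .inr (.inr (.inr (.inr (.inr (.inr (.inr (h.s42 h3)))))))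

end CfsgH5.Wong
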