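import Cfsg.Agent.FT.Main

set_option autoImplicit false
set_option linter.unusedSectionVars false

/-! Extremely primitive groups of affine type: `H` acts on the abelian group `V` with all vector
stabilisers maximal. -/

namespace CfsgH5.Xp
open Subgroup CfsgH5 CfsgH6 CfsgFT
open scoped commutatorElement

universe u
variable {G : Type u} [Group G] [Finite G] {V H L A U X Y K : Subgroup G} {p : ℕ} {v w : G}

/-- the largest subgroup of `U` normalised by `K`. -/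
def cor (K U : Subgroup G) : Subgroup G where
  carrier := {x | ∀ h ∈ K, h * x * h⁻¹ ∈ U}
  mul_mem' := fun {a b} ha hb h hh => by
    have := mul_mem (ha h hh) (hb h hh)
    rwa [show h * a * h⁻¹ * (h * b * h⁻¹) = h * (a * b) * h⁻¹ by group] at this
  one_mem' := fun h _ => by simp
  inv_mem' := fun {a} ha h hh => by
    have := inv_mem (ha h hh)
    rwa [show (h * a * h⁻¹)⁻¹ = h * a⁻¹ * h⁻¹ by group] at this

theorem cor_le : cor K U ≤ U := fun x hx => by simpa using hx 1 (one_mem _)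

theorem nrm_cor : Nrm K (cor K U) := fun k hk x hx h hh => by
  have := hx (h * k) (mul_mem hh hk)
  rwa [show h * k * x * (h * k)⁻¹ = h * (k * x * k⁻¹) * h⁻¹ by group] at this

theorem two_dvd (h : ¬ Group.IsSolvable L) : 2 ∣ Nat.card L := CfsgSZ.two_dvd_of_not_solvable h

theorem exists_inv (h : ¬ Group.IsSolvable L) : ∃ t ∈ L, t ≠ 1 ∧ t * t = 1 := by
  obtain ⟨t, h1, h2⟩ := exists_mem_orderOf_eq Nat.prime_two (two_dvd h)
  exact ⟨t, h1, fun e => by simp [e] at h2, by rw [← sq, ← h2, pow_orderOf_eq_one]⟩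

structure XP (p : ℕ) (V H : Subgroup G) : Prop where
  hp : p.Prime
  min : MinNrm V H
  ab : Ab V
  pg : IsPGroup p V
  faith : H ⊓ C V = ⊥
  max : ∀ v ∈ V, v ≠ 1 → ∀ X, H ⊓ C1 v ≤ X → X ≤ H → X = H ⊓ C1 v ∨ X = H
  nsol : ¬ Group.IsSolvable H

namespace XP
variable (h : XP p V H)
include h

theorem nrm : Nrm H V := h.min.nrm

theorem core (hL : L ≤ H) (hn : Nrm H L) (hv : v ∈ V) (h1 : v ≠ 1) (e : L ≤ C1 v) : L = ⊥ := by
  rcases h.min.eq_bot_or_eq (X := V ⊓ C L) inf_le_left (h.nrm.inf hn.C) with a | a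
  · exact absurd (mem_bot.1 (a.le ⟨hv, le_C1_iff.1 e⟩)) h1
  · exact eq_bot_iff.2 ((le_inf hL (le_C_symm (a.ge.trans inf_le_right))).trans h.faith.le)

theorem sup (hL : L ≤ H) (hn : Nrm H L) (h0 : L ≠ ⊥) (hv : v ∈ V) (h1 : v ≠ 1) :
    L ⊔ H ⊓ C1 v = H :=
  (h.max v hv h1 _ le_sup_right (sup_le hL inf_le_left)).resolve_left fun e =>
    h0 (h.core hL hn hv h1 ((le_sup_left.trans e.le).trans inf_le_right))

theorem dec (hL : L ≤ H) (hn : Nrm H L) (h0 : L ≠ ⊥) (hv : v ∈ V) (h1 : v ≠ 1) {g : G}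
    (hg : g ∈ H) : ∃ l ∈ L, ∃ m ∈ H ⊓ C1 v, g = l * m :=
  (mem_sup_nrm' (hn.mono inf_le_left)).1 ((h.sup hL hn h0 hv h1).ge hg)

/-- `V` is irreducible for every non-trivial normal subgroup. -/
theorem irr (hL : L ≤ H) (hn : Nrm H L) (h0 : L ≠ ⊥) (hv : v ∈ V) (h1 : v ≠ 1)
    (e : ∀ l ∈ L, l * v * l⁻¹ ∈ U) : V ≤ U := by
  have : v ∈ V ⊓ cor H U := ⟨hv, fun g hg => by
    obtain ⟨l, a, m, b, rfl⟩ := h.dec hL hn h0 hv h1 hg
    have := e l a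
    rwa [← mem_C1_iff_conj.1 b.2, show l * (m * v * m⁻¹) * l⁻¹ = l * m * v * (l * m)⁻¹ by group]
      at this⟩
  rcases h.min.eq_bot_or_eq (X := V ⊓ cor H U) inf_le_left (h.nrm.inf nrm_cor) with a | a
  · exact absurd (mem_bot.1 (a.le this)) h1
  · exact a.ge.trans (inf_le_right.trans cor_le)

theorem cent (hL : L ≤ H) (hn : Nrm H L) (h0 : L ≠ ⊥) (hv : v ∈ V) (h1 : v ≠ 1) :
    (H ⊓ C L) ⊓ C1 v = ⊥ := by
  refine h.core (inf_le_left.trans inf_le_left) ?_ hv h1 inf_le_right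
  have a : Nrm L ((H ⊓ C L) ⊓ C1 v) :=
    nrm_of_le_C (le_C_symm (inf_le_left.trans inf_le_right))
  have b : Nrm (H ⊓ C1 v) ((H ⊓ C L) ⊓ C1 v) :=
    (((Nrm.self H).inf hn.C).mono inf_le_left).inf (Nrm.of_le inf_le_right)
  exact (a.sup_left b).mono (h.sup hL hn h0 hv h1).ge

theorem two : p = 2 := by
  obtain ⟨t, ht, t1, t2⟩ := exists_inv h.nsol
  have ti : t⁻¹ = t := inv_eq_of_mul_eq_one_right t2
  obtain ⟨v, hv, e⟩ : ∃ v ∈ V, t * v * t⁻¹ ≠ v := by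
    by_contra! c
    exact t1 (mem_bot.1 (h.faith.le ⟨ht, mem_C.2 fun x hx =>
      (mem_C1.1 (mem_C1_iff_conj.2 (c x hx))).symm⟩))
  have hv' := h.nrm t ht v hv
  obtain ⟨u, hu⟩ : ∃ u, u = v⁻¹ * (t * v * t⁻¹) := ⟨_, rfl⟩
  have uV : u ∈ V := hu ▸ mul_mem (inv_mem hv) hv'
  have u1 : u ≠ 1 := fun c => e (by rw [hu, inv_mul_eq_one] at c; exact c.symm)
  have ui : t * u * t⁻¹ = u⁻¹ := by
    calc _ = (t * v * t⁻¹)⁻¹ * ((t * t) * v * (t * t)⁻¹) := by rw [hu]; group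
      _ = _ := by rw [t2, hu]; group
  by_cases c : t ∈ C1 u
  · have u2 : u ^ 2 = 1 := by
      rw [mem_C1_iff_conj.1 c] at ui
      rw [sq]; exact mul_eq_one_iff_eq_inv.2 ui
    haveI := Fact.mk Nat.prime_two
    have o2 : orderOf u = 2 := orderOf_eq_prime u2 u1
    have : IsPGroup 2 (zpowers u) := isPGroup_of_card_eq_prime (by rw [Nat.card_zpowers, o2])
    exact eq_of_isPGroup h.hp Nat.prime_two (h.pg.to_le (zpowers_le.2 uV)) this
      (by rwa [Ne, zpowers_eq_bot])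
  · have n1 : Nrm (zpowers t) (H ⊓ C1 u) :=
      (Nrm.of_le (zpowers_le.2 ht)).inf (nrm_zpowers_iff.2 (mem_N.2 (by rw [cj_C1, ui, C1_inv])))
    have e1 : H ⊓ C1 u ⊔ zpowers t = H :=
      (h.max u uV u1 _ le_sup_left (sup_le inf_le_left (zpowers_le.2 ht))).resolve_left fun a =>
        c ((le_sup_right.trans a.le) (mem_zpowers t)).2
    have e2 : H ⊓ C1 u = ⊥ := h.core inf_le_left
      (((Nrm.self _).sup_left n1).mono e1.ge) uV u1 inf_le_right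
    rw [e2, bot_sup_eq] at e1
    exact absurd (e1 ▸ solvable_of_ab (ab_zpowers t)) h.nsol

theorem pg2 : IsPGroup 2 V := h.two ▸ h.pg

theorem sq (hv : v ∈ V) : v * v = 1 := by
  rw [← _root_.sq]
  exact (h.min.elAb_of_isPGroup Nat.prime_two h.pg2).2 v hv

/-- a `2`-subgroup of `H` fixes a vector. -/
theorem fix (hX : X ≤ H) (h2 : IsPGroup 2 X) : ∃ v ∈ V, v ≠ 1 ∧ X ≤ C1 v := by
  obtain ⟨⟨v, a, b⟩, c⟩ := ne_bot_iff_exists_ne_one.1
    (inf_C_ne_bot_of_isPGroup Nat.prime_two h.pg2 h2 (h.nrm.mono hX) h.min.ne_bot)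
  exact ⟨v, a, fun e => c (Subtype.ext e), le_C1_iff.2 b⟩

theorem fix1 {t : G} (ht : t ∈ H) (t2 : t * t = 1) : ∃ v ∈ V, v ≠ 1 ∧ t ∈ C1 v := by
  obtain ⟨v, a, b, c⟩ := h.fix (zpowers_le.2 ht) (isPGroup_zpowers (k := 1) (by simpa [_root_.sq]))
  exact ⟨v, a, b, c (mem_zpowers t)⟩

theorem not_solv (hL : L ≤ H) (hm : MinNrm L H) : ¬ Group.IsSolvable L := fun hs => by
  obtain ⟨r, hr, he⟩ := hm.elAb hs
  have ab : Ab L := hm.ab hs
  have semi : ∀ v ∈ V, v ≠ 1 → ∀ a ∈ L, a ∈ C1 v → a = 1 := fun v hv h1 a a1 a2 =>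
    mem_bot.1 ((h.cent hL hm.nrm hm.ne_bot hv h1).le ⟨⟨hL a1, ab a1⟩, a2⟩)
  have pL : IsPGroup r L := fun x => ⟨1, Subtype.ext (by simpa using he.2 x x.2)⟩
  have r2 : r ≠ 2 := by
    rintro rfl
    obtain ⟨v, a, b, c⟩ := h.fix hL pL
    exact hm.ne_bot (eq_bot_iff.2 fun x hx => mem_bot.2 (semi v a b x hx (c hx)))
  have cy : IsCyclic L := by
    by_contra c
    obtain ⟨a, a1, a2, a3⟩ := exists_inf_C1_ne_bot ab c (h.nrm.mono hL)
      (coprime_of_isPGroup_ne Nat.prime_two hr r2.symm h.pg2 pL) h.min.ne_bot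
    obtain ⟨⟨v, b1, b2⟩, b3⟩ := ne_bot_iff_exists_ne_one.1 a3
    exact a2 (semi v b1 (fun e => b3 (Subtype.ext e)) a a1 (mem_C1_comm.1 b2))
  obtain ⟨⟨v, hv⟩, h1⟩ := ne_bot_iff_exists_ne_one.1 h.min.ne_bot
  have h1 : v ≠ 1 := fun e => h1 (Subtype.ext e)
  have dl : D H ≤ L := fun x hx => by
    obtain ⟨l, a, m, b, rfl⟩ := h.dec hL hm.nrm hm.ne_bot hv h1 (D_le H hx)
    have : m ∈ C L := (mul_mem_cancel_left (ab a)).1 (D_le_C_of_isCyclic cy hm.nrm hx)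
    rw [mem_bot.1 ((h.cent hL hm.nrm hm.ne_bot hv h1).le ⟨⟨b.1, this⟩, b.2⟩), mul_one]
    exact a
  exact h.nsol (solvable_of_quo hm.nrm hs (solvable_of_ab ((ab_quo_iff hm.nrm).2 dl)))

theorem cent_bot (hL : L ≤ H) (hm : MinNrm L H) : H ⊓ C L = ⊥ := by
  by_contra c
  obtain ⟨t, ht, t1, t2⟩ := exists_inv (h.not_solv hL hm)
  obtain ⟨v, a, b, e⟩ := h.fix1 (hL ht) t2
  exact t1 (mem_bot.1 ((h.cent inf_le_left ((Nrm.self H).inf hm.nrm.C) c a b).le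
    ⟨⟨hL ht, le_C_symm inf_le_right ht⟩, e⟩))

end XP
end CfsgH5.Xp
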